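import Cfsg.Agent.Lib.Classical.TensorOrthNine.Involution

set_option autoImplicit false
set_option linter.unusedSectionVars false
set_option linter.style.haveILetI false

/-!
Elements commuting with, or conjugating, the half-turns of one factor.
-/

namespace CfsgLib.Classical.TensorOrthNine

open Matrix CfsgLib.Classical.TensorMax CfsgLib.Orth
open CfsgLib.Classical.TensorSymp (ten)
open CfsgLib.Classical.TensorOrth (Gram rk)
open scoped MatrixGroups Kronecker

variable {F : Type*} [Field F] {α : Type} [Fintype α] [DecidableEq α]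

/-- A half-turn of one of the factors. -/
def OneFac {Q : QuadraticForm F (α × α → F)} (QA : QuadraticForm F (α → F)) (JA : Matrix α α F) (k : Grp Q) :
    Prop :=
  ∃ c, QA c ≠ 0 ∧ (Act k (R QA JA c) 1 ∨ Act k 1 (R QA JA c))

theorem sg_false : sg F false = 1 := rfl

theorem sg_true : sg F true = -1 := rfl

namespace Sym

variable [Finite F] {QA QB : QuadraticForm F (α → F)} {JA JB : Matrix α α F}
  {Q : QuadraticForm F (α × α → F)} {M : Subgroup (Grp Q)} (H : Sym QA QB JA JB Q M)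
include H

theorem exists_C {c : α → F} (hc : QA c ≠ 0) :
    ∃ C : Fin 3 → α → F, C 0 = c ∧ OrthA QA (C 0) (C 1) (C 2) := by
  obtain ⟨b, d, ho⟩ := H.exists_ortho hc
  exact ⟨![c, b, d], rfl, ho⟩

theorem exists_C₂ {c a : α → F} (hc : QA c ≠ 0) (ha : QA a ≠ 0) (hca : QuadraticMap.polar ⇑QA c a = 0) :
    ∃ C : Fin 3 → α → F, C 0 = c ∧ C 1 = a ∧ OrthA QA (C 0) (C 1) (C 2) := by
  obtain ⟨d, ho⟩ := H.exists_third hc ha hca
  exact ⟨![c, a, d], rfl, rfl, ho⟩

theorem act_left_eq {k : Grp Q} {S S' T : Matrix α α F} (h : Act k S T) (h' : Act k S' T) (hT : T * T = 1) :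
    S = S' := by
  obtain ⟨w, -, hw0⟩ := H.exists_singB
  have hne : T *ᵥ w ≠ 0 := fun e => hw0 (by
    rw [← Matrix.one_mulVec w, ← hT, ← Matrix.mulVec_mulVec, e, Matrix.mulVec_zero])
  exact Matrix.ext_iff_mulVec.2 fun a => ten_cancel_right hne (by rw [← h, ← h'])

theorem act_right_eq {k : Grp Q} {S T T' : Matrix α α F} (h : Act k S T) (h' : Act k S T') (hS : S * S = 1) :
    T = T' := by
  obtain ⟨w, -, hw0⟩ := H.exists_singB
  have hne : S *ᵥ w ≠ 0 := fun e => hw0 (by
    rw [← Matrix.one_mulVec w, ← hS, ← Matrix.mulVec_mulVec, e, Matrix.mulVec_zero])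
  exact Matrix.ext_iff_mulVec.2 fun a => ten_cancel_left hne (by rw [← h, ← h'])

theorem fix_left {c : α → F} (hc : QA c ≠ 0) {e : Grp Q} (he : Act e (R QA JA c) 1) {x : α × α → F}
    (hx : ap e x = x) : ∃ y, x = ten c y := by
  obtain ⟨C, rfl, hC⟩ := H.exists_C hc
  exact H.fixed_left hC hC he hx

theorem fix_right {c : α → F} (hc : QA c ≠ 0) {e : Grp Q} (he : Act e 1 (R QA JA c)) {x : α × α → F}
    (hx : ap e x = x) : ∃ y, x = ten y c := by
  obtain ⟨C, rfl, hC⟩ := H.exists_C hc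
  exact H.fixed_right hC hC he hx

theorem fix_self_left {c : α → F} (hc : QA c ≠ 0) {e : Grp Q} (he : Act e (R QA JA c) 1) (y : α → F) :
    ap e (ten c y) = ten c y := by rw [he, H.R_self hc, Matrix.one_mulVec]

theorem fix_self_right {c : α → F} (hc : QA c ≠ 0) {e : Grp Q} (he : Act e 1 (R QA JA c)) (y : α → F) :
    ap e (ten y c) = ten y c := by rw [he, H.R_self hc, Matrix.one_mulVec]

theorem onefac_sq {k : Grp Q} (h : OneFac QA JA k) : k * k = 1 := by
  obtain ⟨c, hc, h | h⟩ := h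
  · exact H.invol_of_act h (H.R_sq hc) (one_mul 1)
  · exact H.invol_of_act h (one_mul 1) (H.R_sq hc)

theorem finrank_onefac {k : Grp Q} (h : OneFac QA JA k) : Module.finrank F (eig (val k) 1) = 3 := by
  obtain ⟨c, hc, h⟩ := h
  obtain ⟨C, rfl, hC⟩ := H.exists_C hc
  rcases h with h | h
  · rw [← sg_false, H.finrank_one hC hC (H.diag_left hC hC h)]; decide
  · rw [← sg_false, H.finrank_one hC hC (H.diag_right hC hC h)]; decide

theorem finrank_both {k : Grp Q} {c d : α → F} (hc : QA c ≠ 0) (hd : QA d ≠ 0)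
    (h : Act k (R QA JA c) (R QA JA d)) : Module.finrank F (eig (val k) 1) = 5 := by
  obtain ⟨C, rfl, hC⟩ := H.exists_C hc
  obtain ⟨D, rfl, hD⟩ := H.exists_C hd
  rw [← sg_false, H.finrank_one hC hD (H.diag_both hC hD h)]; decide

theorem finrank_id {k : Grp Q} (h : Act k (1 : Matrix α α F) 1) : Module.finrank F (eig (val k) 1) = 9 := by
  have : k = 1 := H.act_unique h act_one
  subst this
  rw [show eig (val (1 : Grp Q)) (1 : F) = ⊤ from eq_top_iff.2 fun x _ => by
    show (1 : Matrix (α × α) (α × α) F) *ᵥ x = _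
    rw [Matrix.one_mulVec, one_smul], finrank_top, H.dim]

/-- Involutions with a three-dimensional fixed space. -/
theorem onefac_of_fix {k : Grp Q} (hk : k ∈ M) (hk2 : k * k = 1) (hT : Tens (val k))
    (h3 : Module.finrank F (eig (val k) 1) = 3) : OneFac QA JA k := by
  obtain ⟨S, T, h, hS, hT⟩ := H.invol_class hk hk2 hT
  rcases hS with rfl | ⟨c, hc, rfl⟩ <;> rcases hT with rfl | ⟨d, hd, rfl⟩
  · rw [H.finrank_id h] at h3; omega
  · exact ⟨d, hd, Or.inr h⟩
  · exact ⟨c, hc, Or.inl h⟩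
  · rw [H.finrank_both hc hd h] at h3; omega

/-- Involutions with a five-dimensional fixed space. -/
theorem both_of_fix {k : Grp Q} (hk : k ∈ M) (hk2 : k * k = 1) (hT : Tens (val k))
    (h5 : Module.finrank F (eig (val k) 1) = 5) :
    ∃ c d, QA c ≠ 0 ∧ QA d ≠ 0 ∧ Act k (R QA JA c) (R QA JA d) := by
  obtain ⟨S, T, h, hS, hT⟩ := H.invol_class hk hk2 hT
  rcases hS with rfl | ⟨c, hc, rfl⟩ <;> rcases hT with rfl | ⟨d, hd, rfl⟩
  · rw [H.finrank_id h] at h5; omega
  · rw [H.finrank_onefac ⟨d, hd, Or.inr h⟩] at h5; omega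
  · rw [H.finrank_onefac ⟨c, hc, Or.inl h⟩] at h5; omega
  · exact ⟨c, d, hc, hd, h⟩

/-- What commutes with a half-turn of one factor is a Kronecker product. -/
theorem tens_comm (hS : Small QB M) {z h : Grp Q} (hz : OneFac QA JA z) (hh : h ∈ M) (hc : h * z = z * h) :
    Tens (val h) := by
  obtain ⟨c, hq, e | e⟩ := hz
  · exact H.tens_of_line hS hh hq hq fun y =>
      H.fix_left hq e (by rw [← ap_mul, ← hc, ap_mul, H.fix_self_left hq e])
  · exact H.line_right hS hh hq hq fun y =>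
      H.fix_right hq e (by rw [← ap_mul, ← hc, ap_mul, H.fix_self_right hq e])

/-- What conjugates one half-turn to another preserves or exchanges the factors. -/
theorem inH_of_onefac (hS : Small QB M) {g k k' : Grp Q} (hg : g ∈ M) (hk : OneFac QA JA k)
    (hk' : OneFac QA JA k') (he : g * k * g⁻¹ = k') : InH g := by
  have hmap : ∀ x, ap k x = x → ap k' (ap g x) = ap g x := fun x hx => by
    rw [← he, ap_mul, ap_mul, ap_inv_ap, hx]
  obtain ⟨a, ha, hka⟩ := hk
  obtain ⟨b, hb, hkb⟩ := hk'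
  rcases hka with hka | hka <;> rcases hkb with hkb | hkb
  · exact H.line_left hS hg ha hb fun y => H.fix_left hb hkb (hmap _ (H.fix_self_left ha hka y))
  · exact H.line_lr hS hg ha hb fun y => H.fix_right hb hkb (hmap _ (H.fix_self_left ha hka y))
  · exact H.line_rl hS hg hb ha fun y => H.fix_left hb hkb (hmap _ (H.fix_self_right ha hka y))
  · exact Or.inl (H.line_right hS hg ha hb fun y => H.fix_right hb hkb (hmap _ (H.fix_self_right ha hka y)))

theorem R_mul_perp {a b : α → F} (ha : QA a ≠ 0) (hb : QA b ≠ 0) (hab : QuadraticMap.polar ⇑QA a b = 0) :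
    ∃ d, QA d ≠ 0 ∧ R QA JA a * R QA JA b = R QA JA d ∧ R QA JA b * R QA JA a = R QA JA d := by
  obtain ⟨d, ho⟩ := H.exists_third ha hb hab
  exact ⟨d, ho.qc, H.R_mul ho, H.R_mul ⟨ho.qb, ho.qa, ho.qc, by rw [b_comm]; exact ho.ab, ho.bc, ho.ac⟩⟩

end Sym

end CfsgLib.Classical.TensorOrthNine
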