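import Cfsg.Agent.Lib.Classical.TensorOrthNine.Move

set_option autoImplicit false
set_option linter.unusedSectionVars false
set_option linter.style.haveILetI false

/-!
Product bases of two orthogonal bases, and the common eigenspaces of elements diagonal on one.
-/

namespace CfsgLib.Classical.TensorOrthNine

open Matrix CfsgLib.Classical.TensorMax CfsgLib.Orth
open CfsgLib.Classical.TensorSymp (ten ten_smul_left ten_smul_right ten_add_left)
open CfsgLib.Classical.TensorOrth (Gram rk)
open scoped MatrixGroups Kronecker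

variable {F : Type*} [Field F] {α : Type} [Fintype α] [DecidableEq α]

/-- The sign of a truth value: `true` is `-1`. -/
def sg (F : Type*) [Field F] (s : Bool) : F := if s then -1 else 1

theorem sg_mul (s t : Bool) : sg F s * sg F t = sg F (xor s t) := by
  cases s <;> cases t <;> simp [sg]

/-- The product vectors of two triples. -/
def bv (C D : Fin 3 → α → F) (p : Fin 3 × Fin 3) : α × α → F := ten (C p.1) (D p.2)

/-- Diagonal on the product vectors with the given signs. -/
def Diag {Q : QuadraticForm F (α × α → F)} (C D : Fin 3 → α → F) (k : Grp Q) (σ : Fin 3 × Fin 3 → Bool) : Prop :=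
  ∀ p, ap k (bv C D p) = sg F (σ p) • bv C D p

theorem Diag.mul {Q : QuadraticForm F (α × α → F)} {C D : Fin 3 → α → F} {k l : Grp Q} {σ τ : Fin 3 × Fin 3 → Bool}
    (hk : Diag C D k σ) (hl : Diag C D l τ) : Diag C D (k * l) fun p => xor (σ p) (τ p) := fun p => by
  rw [ap_mul, hl, ap_smul, hk, smul_smul, mul_comm, sg_mul]

/-- The sign pattern of a half-turn. -/
def pat (i : Option (Fin 3)) (j : Fin 3) : Bool :=
  match i with
  | none => false
  | some i => decide (j ≠ i)

/-- The sign pattern of a product of half-turns. -/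
def pat₂ (i j : Option (Fin 3)) (p : Fin 3 × Fin 3) : Bool := xor (pat i p.1) (pat j p.2)

namespace Sym

variable [Finite F] {QA QB : QuadraticForm F (α → F)} {JA JB : Matrix α α F}
  {Q : QuadraticForm F (α × α → F)} {M : Subgroup (Grp Q)} (H : Sym QA QB JA JB Q M)
include H

/-- The matrix of an optional half-turn. -/
theorem R_basis {C : Fin 3 → α → F} (hC : OrthA QA (C 0) (C 1) (C 2)) (i j : Fin 3) :
    R QA JA (C i) *ᵥ C j = sg F (pat (some i) j) • C j := by
  have key : ∀ {a b : α → F}, QuadraticMap.polar ⇑QA a b = 0 → R QA JA a *ᵥ b = (-1 : F) • b ∧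
      R QA JA b *ᵥ a = (-1 : F) • a := fun h => by
    rw [H.R_perp h, H.R_perp (by rw [b_comm]; exact h), neg_one_smul, neg_one_smul]
    exact ⟨rfl, rfl⟩
  fin_cases i <;> fin_cases j <;> simp only [pat, sg, Fin.isValue, Fin.zero_eta, Fin.mk_one, Fin.reduceFinMk,
    ne_eq, not_true, decide_false, Fin.reduceEq, not_false_iff, decide_true, if_true, if_false, one_smul,
    Bool.false_eq_true]
  · exact H.R_self hC.qa
  · exact (key hC.ab).1
  · exact (key hC.ac).1
  · exact (key hC.ab).2
  · exact H.R_self hC.qb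
  · exact (key hC.bc).1
  · exact (key hC.ac).2
  · exact (key hC.bc).2
  · exact H.R_self hC.qc

variable {C D : Fin 3 → α → F} (hC : OrthA QA (C 0) (C 1) (C 2)) (hD : OrthA QA (D 0) (D 1) (D 2))
include hC hD

theorem diag_both {k : Grp Q} {i j : Fin 3} (h : Act k (R QA JA (C i)) (R QA JA (D j))) :
    Diag C D k (pat₂ (some i) (some j)) := fun p => by
  rw [bv, h, H.R_basis hC, H.R_basis hD, ten_smul_left, ten_smul_right, smul_smul, sg_mul]
  rfl

theorem diag_left {k : Grp Q} {i : Fin 3} (h : Act k (R QA JA (C i)) 1) :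
    Diag C D k (pat₂ (some i) none) := fun p => by
  rw [bv, h, H.R_basis hC, Matrix.one_mulVec, ten_smul_left]
  simp [pat₂, pat]

theorem diag_right {k : Grp Q} {j : Fin 3} (h : Act k 1 (R QA JA (D j))) :
    Diag C D k (pat₂ none (some j)) := fun p => by
  rw [bv, h, H.R_basis hD, Matrix.one_mulVec, ten_smul_right]
  simp [pat₂, pat]

theorem polar_bv (p q : Fin 3 × Fin 3) (hne : p ≠ q) :
    QuadraticMap.polar ⇑Q (bv C D p) (bv C D q) = 0 := by
  rw [bv, bv, H.polar_ten]
  obtain ⟨i, j⟩ := p
  obtain ⟨i', j'⟩ := q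
  have oth : ∀ {E : Fin 3 → α → F}, OrthA QA (E 0) (E 1) (E 2) → ∀ x y : Fin 3, x ≠ y →
      QuadraticMap.polar ⇑QA (E x) (E y) = 0 := by
    intro E hE x y hxy
    fin_cases x <;> fin_cases y <;>
      first
      | exact absurd rfl hxy
      | exact hE.ab
      | exact hE.ac
      | exact hE.bc
      | (rw [b_comm]; exact hE.ab)
      | (rw [b_comm]; exact hE.ac)
      | (rw [b_comm]; exact hE.bc)
  by_cases hi : i = i'
  · rw [H.perpB (oth hD j j' fun e => hne (by rw [hi, e])), mul_zero]
  · rw [oth hC i i' hi, zero_mul]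

theorem q_bv (p : Fin 3 × Fin 3) : QuadraticMap.polar ⇑Q (bv C D p) (bv C D p) ≠ 0 := by
  rw [bv, H.polar_ten, b_self, b_self]
  obtain ⟨i, j⟩ := p
  refine mul_ne_zero (mul_ne_zero H.two ?_) (mul_ne_zero H.two (H.anisoB ?_))
  · fin_cases i; exacts [hC.qa, hC.qb, hC.qc]
  · fin_cases j; exacts [hD.qa, hD.qb, hD.qc]

theorem bv_li : LinearIndependent F (bv C D) := by
  refine Fintype.linearIndependent_iff.2 fun g hg i => ?_
  have h : (QuadraticMap.polarBilin Q (bv C D i)) (∑ j, g j • bv C D j) = 0 := by rw [hg, map_zero]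
  rw [map_sum, Finset.sum_eq_single i] at h
  · rw [map_smul, QuadraticMap.polarBilin_apply_apply, smul_eq_mul, mul_eq_zero] at h
    exact h.resolve_right (H.q_bv hC hD i)
  · intro j _ hj
    rw [map_smul, QuadraticMap.polarBilin_apply_apply, H.polar_bv hC hD i j (Ne.symm hj), smul_zero]
  · exact fun h => absurd (Finset.mem_univ i) h

theorem bv_span (x : α × α → F) : ∃ r : Fin 3 × Fin 3 → F, ∑ p, r p • bv C D p = x := by
  have hspan := (H.bv_li hC hD).span_eq_top_of_card_eq_finrank (by
    rw [Fintype.card_prod, Fintype.card_fin, H.dim])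
  exact (Submodule.mem_span_range_iff_exists_fun F).1 (hspan ▸ Submodule.mem_top)

theorem coeff_zero {k : Grp Q} {σ : Fin 3 × Fin 3 → Bool} (hk : Diag C D k σ) {s : Bool} {r : Fin 3 × Fin 3 → F}
    (h : ap k (∑ p, r p • bv C D p) = sg F s • ∑ p, r p • bv C D p) (p : Fin 3 × Fin 3) (hp : σ p ≠ s) : r p = 0 := by
  have h' : ∑ q, (r q * sg F (σ q) - sg F s * r q) • bv C D q = 0 := by
    simp only [sub_smul, Finset.sum_sub_distrib, ← smul_smul]
    rw [sub_eq_zero, ← Finset.smul_sum, ← h]
    show _ = val k *ᵥ _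
    rw [Matrix.mulVec_sum]
    refine Finset.sum_congr rfl fun q _ => ?_
    rw [Matrix.mulVec_smul, show val k *ᵥ bv C D q = sg F (σ q) • bv C D q from hk q]
  have h0 := Fintype.linearIndependent_iff.1 (H.bv_li hC hD) _ h' p
  have hne : sg F (σ p) - sg F s ≠ 0 := by
    have h2 := H.two
    revert hp
    cases σ p <;> cases s <;> simp [sg, sub_eq_zero] <;> intro e <;>
      first
      | exact h2 (by linear_combination e)
      | exact h2 (by linear_combination -e)
  exact (mul_eq_zero.1 (by linear_combination h0 : r p * (sg F (σ p) - sg F s) = 0)).resolve_right hne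

/-- The dimension of a common eigenspace. -/
theorem finrank_two {k l : Grp Q} {σ τ : Fin 3 × Fin 3 → Bool} (hk : Diag C D k σ) (hl : Diag C D l τ) (s t : Bool) :
    Module.finrank F ↥(eig (val k) (sg F s) ⊓ eig (val l) (sg F t)) =
      (Finset.univ.filter fun p => σ p = s ∧ τ p = t).card := by
  classical
  obtain ⟨S, hS⟩ : ∃ S, S = Finset.univ.filter fun p => σ p = s ∧ τ p = t := ⟨_, rfl⟩
  have heq : eig (val k) (sg F s) ⊓ eig (val l) (sg F t) =
      Submodule.span F (Set.range fun p : S => bv C D p.1) := by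
    refine le_antisymm (fun x hx => ?_) (Submodule.span_le.2 ?_)
    · obtain ⟨r, rfl⟩ := H.bv_span hC hD x
      refine Submodule.sum_mem _ fun p _ => ?_
      by_cases hp : p ∈ S
      · exact Submodule.smul_mem _ _ (Submodule.subset_span ⟨⟨p, hp⟩, rfl⟩)
      · have : r p = 0 := by
          rw [hS, Finset.mem_filter] at hp
          by_cases hs : σ p = s
          · exact H.coeff_zero hC hD hl hx.2 p fun e => hp ⟨Finset.mem_univ p, hs, e⟩
          · exact H.coeff_zero hC hD hk hx.1 p hs
        rw [this, zero_smul]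
        exact Submodule.zero_mem _
    · rintro _ ⟨⟨p, hp⟩, rfl⟩
      rw [hS, Finset.mem_filter] at hp
      refine ⟨?_, ?_⟩
      · show ap k (bv C D p) = _
        rw [hk, hp.2.1]
      · show ap l (bv C D p) = _
        rw [hl, hp.2.2]
  have hli : LinearIndependent F (fun p : S => bv C D p.1) :=
    (H.bv_li hC hD).comp _ Subtype.val_injective
  rw [heq, finrank_span_eq_card hli, Fintype.card_coe, hS]

/-- The dimension of a common eigenspace of three elements. -/
theorem finrank_three {k l n : Grp Q} {σ τ υ : Fin 3 × Fin 3 → Bool} (hk : Diag C D k σ) (hl : Diag C D l τ)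
    (hn : Diag C D n υ) (s t u : Bool) :
    Module.finrank F ↥(eig (val k) (sg F s) ⊓ eig (val l) (sg F t) ⊓ eig (val n) (sg F u)) =
      (Finset.univ.filter fun p => σ p = s ∧ τ p = t ∧ υ p = u).card := by
  classical
  obtain ⟨S, hS⟩ : ∃ S, S = Finset.univ.filter fun p => σ p = s ∧ τ p = t ∧ υ p = u := ⟨_, rfl⟩
  have heq : eig (val k) (sg F s) ⊓ eig (val l) (sg F t) ⊓ eig (val n) (sg F u) =
      Submodule.span F (Set.range fun p : S => bv C D p.1) := by
    refine le_antisymm (fun x hx => ?_) (Submodule.span_le.2 ?_)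
    · obtain ⟨r, rfl⟩ := H.bv_span hC hD x
      refine Submodule.sum_mem _ fun p _ => ?_
      by_cases hp : p ∈ S
      · exact Submodule.smul_mem _ _ (Submodule.subset_span ⟨⟨p, hp⟩, rfl⟩)
      · have : r p = 0 := by
          rw [hS, Finset.mem_filter] at hp
          by_cases hs : σ p = s
          · by_cases ht : τ p = t
            · exact H.coeff_zero hC hD hn hx.2 p fun e => hp ⟨Finset.mem_univ p, hs, ht, e⟩
            · exact H.coeff_zero hC hD hl hx.1.2 p ht
          · exact H.coeff_zero hC hD hk hx.1.1 p hs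
        rw [this, zero_smul]
        exact Submodule.zero_mem _
    · rintro _ ⟨⟨p, hp⟩, rfl⟩
      rw [hS, Finset.mem_filter] at hp
      refine ⟨⟨?_, ?_⟩, ?_⟩
      · show ap k (bv C D p) = _
        rw [hk, hp.2.1]
      · show ap l (bv C D p) = _
        rw [hl, hp.2.2.1]
      · show ap n (bv C D p) = _
        rw [hn, hp.2.2.2]
  have hli : LinearIndependent F (fun p : S => bv C D p.1) :=
    (H.bv_li hC hD).comp _ Subtype.val_injective
  rw [heq, finrank_span_eq_card hli, Fintype.card_coe, hS]

theorem finrank_one {k : Grp Q} {σ : Fin 3 × Fin 3 → Bool} (hk : Diag C D k σ) (s : Bool) :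
    Module.finrank F (eig (val k) (sg F s)) = (Finset.univ.filter fun p => σ p = s).card := by
  have := H.finrank_two hC hD hk hk s s
  rw [inf_idem] at this
  simpa using this

/-- The fixed vectors of a half-turn of the first factor. -/
theorem fixed_left {k : Grp Q} (h : Act k (R QA JA (C 0)) 1) {x : α × α → F} (hx : ap k x = x) :
    ∃ y, x = ten (C 0) y := by
  obtain ⟨r, rfl⟩ := H.bv_span hC hD x
  have h0 := H.coeff_zero hC hD (H.diag_left hC hD h) (s := false) (r := r) (by simpa [sg] using hx)
  refine ⟨∑ j, r (0, j) • D j, ?_⟩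
  rw [Fintype.sum_prod_type, Fintype.sum_eq_single (0 : Fin 3) fun i hi => ?_]
  · funext p
    simp only [Finset.sum_apply, Pi.smul_apply, smul_eq_mul, bv, ten, Finset.mul_sum]
    exact Finset.sum_congr rfl fun j _ => by ring
  · exact Finset.sum_eq_zero fun j _ => by rw [h0 (i, j) (by simp [pat₂, pat, hi]), zero_smul]

theorem fixed_right {k : Grp Q} (h : Act k 1 (R QA JA (D 0))) {x : α × α → F} (hx : ap k x = x) :
    ∃ a, x = ten a (D 0) := by
  obtain ⟨r, rfl⟩ := H.bv_span hC hD x
  have h0 := H.coeff_zero hC hD (H.diag_right hC hD h) (s := false) (r := r) (by simpa [sg] using hx)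
  refine ⟨∑ i, r (i, 0) • C i, ?_⟩
  rw [Fintype.sum_prod_type, Finset.sum_comm, Fintype.sum_eq_single (0 : Fin 3) fun j hj => ?_]
  · funext p
    simp only [Finset.sum_apply, Pi.smul_apply, smul_eq_mul, bv, ten, Finset.sum_mul]
    exact Finset.sum_congr rfl fun i _ => by ring
  · exact Finset.sum_eq_zero fun i _ => by rw [h0 (i, j) (by simp [pat₂, pat, hj]), zero_smul]

end Sym

end CfsgLib.Classical.TensorOrthNine
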