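import Cfsg.Agent.Lib.Classical.TensorOrthNine.Level
import Mathlib.FieldTheory.Finite.Basic

set_option autoImplicit false
set_option linter.unusedSectionVars false

/-!
One central element gives all of them, and a level which is not a scalar gives a central element.
-/

namespace CfsgLib.Classical.TensorOrthNine

open Matrix CfsgLib.Classical.TensorMax CfsgLib.Orth
open CfsgLib.Classical.TensorSymp (adj ten kc_mulVec kron_mulVec_ten ten_add_left ten_add_right ten_sub_left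
  ten_sub_right ten_smul_left ten_smul_right)
open CfsgLib.Classical.TensorOrth (Gram rk)
open scoped MatrixGroups Kronecker

variable {F : Type*} [Field F] {α β : Type} [Fintype α] [DecidableEq α] [Fintype β] [DecidableEq β]

/-- Two non-zero coefficients represent everything. -/
theorem exists_rep [Finite F] (h2 : (2 : F) ≠ 0) {a b : F} (ha : a ≠ 0) (hb : b ≠ 0) (c : F) :
    ∃ x y : F, a * (x * x) + b * (y * y) = c := by
  classical
  haveI := Fintype.ofFinite F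
  obtain ⟨x, y, h⟩ := FiniteField.exists_root_sum_quadratic (f := Polynomial.C a * Polynomial.X ^ 2)
    (g := Polynomial.C b * Polynomial.X ^ 2 - Polynomial.C c) (Polynomial.degree_C_mul_X_pow 2 ha)
    (by rw [Polynomial.degree_sub_C (by rw [Polynomial.degree_C_mul_X_pow 2 hb]; exact WithBot.coe_lt_coe.2 two_pos)]
        exact Polynomial.degree_C_mul_X_pow 2 hb)
    (FiniteField.odd_card_of_char_ne_two fun e => h2 (by
      have : CharP F 2 := e ▸ ringChar.charP F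
      exact CharP.cast_eq_zero F 2))
  refine ⟨x, y, ?_⟩
  simp only [Polynomial.eval_mul, Polynomial.eval_pow, Polynomial.eval_X, Polynomial.eval_C, Polynomial.eval_sub] at h
  linear_combination h

/-- The line of a singular vector moves to the line of a partner. -/
theorem exists_move_line {γ : Type} [Fintype γ] [DecidableEq γ] {Q₁ : QuadraticForm F (γ → F)} (hB : Nondeg Q₁)
    {u u' n : γ → F} (hu : Q₁ u = 0) (hu' : Q₁ u' = 0) (huu : QuadraticMap.polar ⇑Q₁ u u' = 1)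
    (h1 : QuadraticMap.polar ⇑Q₁ u n = 0) (h2 : QuadraticMap.polar ⇑Q₁ u' n = 0) (hn : Q₁ n ≠ 0) :
    ∃ e ∈ El Q₁, ∃ c : F, c ≠ 0 ∧ ap e u = c • u' := by
  obtain ⟨f, hf⟩ : ∃ f, f = u + n - Q₁ n • u' := ⟨_, rfl⟩
  have qf : Q₁ f = 0 := by
    rw [hf, q_sub, q_add, q_smul, hu, hu', b_smul_right, b_add_left, h1, huu, b_comm n u', h2]; ring
  have bu : QuadraticMap.polar ⇑Q₁ f u = -Q₁ n := by
    rw [hf, b_sub_left, b_add_left, b_smul_left, b_self_zero hu, b_comm n u, h1, b_comm u' u, huu]; ring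
  have bu' : QuadraticMap.polar ⇑Q₁ f u' = 1 := by
    rw [hf, b_sub_left, b_add_left, b_smul_left, b_self_zero hu', huu, b_comm n u', h2]; ring
  have hn' : -Q₁ n ≠ 0 := neg_ne_zero.2 hn
  obtain ⟨e, he, he'⟩ := exists_move_partner hB qf (f := (-Q₁ n)⁻¹ • u) (f' := u')
    (by rw [q_smul, hu, mul_zero]) hu' (by rw [b_smul_right, bu, bu', inv_mul_cancel₀ hn'])
    (by rw [b_smul_right, bu, inv_mul_cancel₀ hn'])
  refine ⟨e, siegel_mem_El he, -Q₁ n, hn', ?_⟩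
  rw [← he', ← ap_smul, smul_smul, mul_inv_cancel₀ hn', one_smul]

theorem FrameA.image {QA : QuadraticForm F (α → F)} {a₀ a₁ a₂ : α → F} (hf : FrameA QA a₀ a₁ a₂) (S : Grp QA) :
    FrameA QA (ap S a₀) (ap S a₁) (ap S a₂) :=
  ⟨by rw [ap_q]; exact hf.q0, by rw [ap_q]; exact hf.q2, by rw [ap_b]; exact hf.p02, by rw [ap_b]; exact hf.p01,
    by rw [ap_b]; exact hf.p21, by rw [ap_q]; exact hf.q1⟩

/-- The central levels of the group. -/
def Cz {Q : QuadraticForm F (α × β → F)} (M : Subgroup (Grp Q)) (w z v : β → F) (C : Matrix α α F) : Prop :=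
  ∃ g ∈ M, Cen w z v g C

namespace Hyp

variable [Finite F] {QA : QuadraticForm F (α → F)} {QB : QuadraticForm F (β → F)} {JA : Matrix α α F}
  {JB : Matrix β β F} {Q : QuadraticForm F (α × β → F)} {M : Subgroup (Grp Q)} (H : Hyp QA QB JA JB Q M)
  {w z v : β → F} (hf : FrameB QB w z v)
include H

theorem rk_add_right (a b b' : α → F) : rk JA a (b + b') = rk JA a b + rk JA a b' := by
  rw [rk, rk, rk, Matrix.mulVec_add, Matrix.vecMulVec_add]

theorem rk_sub_left (a a' b : α → F) : rk JA (a - a') b = rk JA a b - rk JA a' b := Matrix.sub_vecMulVec _ _ _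

theorem rk_sub_right (a b b' : α → F) : rk JA a (b - b') = rk JA a b - rk JA a b' := by
  rw [rk, rk, rk, Matrix.mulVec_sub, Matrix.vecMulVec_sub]

theorem sk_conj (S : Grp QA) (x y : α → F) : val S * sk JA x y * val S⁻¹ = sk JA (ap S x) (ap S y) := by
  rw [sk, Matrix.mul_sub, Matrix.sub_mul, H.gA.rk_conj, H.gA.rk_conj]
  rfl

/-- A matrix in a frame. -/
theorem expandA {a₀ a₁ a₂ : α → F} (hA : FrameA QA a₀ a₁ a₂) (E : Matrix α α F) :
    let k := (2 * QA a₁)⁻¹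
    E = QuadraticMap.polar ⇑QA a₂ (E *ᵥ a₀) • rk JA a₀ a₂ + QuadraticMap.polar ⇑QA a₂ (E *ᵥ a₂) • rk JA a₀ a₀ +
      (k * QuadraticMap.polar ⇑QA a₂ (E *ᵥ a₁)) • rk JA a₀ a₁ +
      QuadraticMap.polar ⇑QA a₀ (E *ᵥ a₀) • rk JA a₂ a₂ + QuadraticMap.polar ⇑QA a₀ (E *ᵥ a₂) • rk JA a₂ a₀ +
      (k * QuadraticMap.polar ⇑QA a₀ (E *ᵥ a₁)) • rk JA a₂ a₁ +
      (k * QuadraticMap.polar ⇑QA a₁ (E *ᵥ a₀)) • rk JA a₁ a₂ +
      (k * QuadraticMap.polar ⇑QA a₁ (E *ᵥ a₂)) • rk JA a₁ a₀ +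
      (k * k * QuadraticMap.polar ⇑QA a₁ (E *ᵥ a₁)) • rk JA a₁ a₁ := by
  intro k
  have e := congrArg₂ (fun X Y => X * (E * Y)) (H.resolveA hA) (H.resolveA hA)
  simp only [Matrix.one_mul, Matrix.mul_one] at e
  conv_lhs => rw [e]
  simp only [Matrix.mul_add, Matrix.mul_smul, H.gA.mul_rk, Matrix.add_mulVec, Matrix.smul_mulVec, H.gA.rk_mulVec,
    H.gA.rk_add_left, H.gA.rk_smul_left, smul_add, smul_smul, k]
  module

include hf

theorem cen_inv {g : Grp Q} {C : Matrix α α F} (hg : Cen w z v g C) : Cen w z v g⁻¹ (-C) := by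
  refine ⟨by simpa using hg.toLev.inv, fun a => ap_inj g ?_⟩
  rw [ap_ap_inv, ap_add, hg.ez, hg.fix, Matrix.neg_mulVec, ← neg_one_smul F (C *ᵥ a), ten_smul_left]
  module

theorem cz_add {C D : Matrix α α F} (hC : Cz M w z v C) (hD : Cz M w z v D) :
    Cz M w z v (C + D) := by
  obtain ⟨g, hg, eg⟩ := hC
  obtain ⟨h, hh, eh⟩ := hD
  exact ⟨g * h, M.mul_mem hg hh, eg.mul eh⟩

theorem cz_neg {C : Matrix α α F} (hC : Cz M w z v C) : Cz M w z v (-C) := by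
  obtain ⟨g, hg, eg⟩ := hC
  exact ⟨g⁻¹, M.inv_mem hg, H.cen_inv hf eg⟩

theorem cz_sub {C D : Matrix α α F} (hC : Cz M w z v C) (hD : Cz M w z v D) :
    Cz M w z v (C - D) := by
  rw [sub_eq_add_neg]
  exact H.cz_add hf hC (H.cz_neg hf hD)

theorem cz_conj {C : Matrix α α F} (hC : Cz M w z v C) {k : Grp Q} (hk : k ∈ M) {S : Grp QA}
    (ek : ∀ a b, ap k (ten a b) = ten (ap S a) b) : Cz M w z v (val S * C * val S⁻¹) := by
  obtain ⟨g, hg, eg⟩ := hC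
  have := H.cen_conj hf eg one_ne_zero (k := k) (S := S) (fun a => by rw [ek, one_smul])
    (fun a => by rw [ek, inv_one, one_smul]) (fun a => ek a _)
  exact ⟨k * g * k⁻¹, M.mul_mem (M.mul_mem hk hg) (M.inv_mem hk), by simpa using this⟩

theorem cz_conj_el {C : Matrix α α F} (hC : Cz M w z v C) {S : Grp QA} (hS : S ∈ El QA) :
    Cz M w z v (val S * C * val S⁻¹) := by
  obtain ⟨k, hk, ek⟩ := H.exists_elA hS
  exact H.cz_conj hf hC hk ek

theorem exists_torus {a₀ a₁ a₂ : α → F} (hA : FrameA QA a₀ a₁ a₂) {t : F} (ht : t ≠ 0) :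
    ∃ S : Grp QA, ap S a₀ = t • a₀ ∧ ap S a₁ = a₁ := by
  obtain ⟨X, hX⟩ : ∃ X : Matrix α α F, X = t • rk JA a₀ a₂ + t⁻¹ • rk JA a₂ a₀ + (2 * QA a₁)⁻¹ • rk JA a₁ a₁ :=
    ⟨_, rfl⟩
  have e1 := mul_ne_zero H.two hA.q1
  have p20 : QuadraticMap.polar ⇑QA a₂ a₀ = 1 := by rw [b_comm]; exact hA.p02
  have hap : ∀ y, X *ᵥ y = (t * QuadraticMap.polar ⇑QA a₂ y) • a₀ + (t⁻¹ * QuadraticMap.polar ⇑QA a₀ y) • a₂ +
      ((2 * QA a₁)⁻¹ * QuadraticMap.polar ⇑QA a₁ y) • a₁ := fun y => by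
    simp only [hX, Matrix.add_mulVec, Matrix.smul_mulVec, H.gA.rk_mulVec, smul_smul]
  obtain ⟨S, hS⟩ := exists_iso H.gA.nd X.mulVecLin fun y => by
    have ey : y = QuadraticMap.polar ⇑QA a₂ y • a₀ + QuadraticMap.polar ⇑QA a₀ y • a₂ +
        ((2 * QA a₁)⁻¹ * QuadraticMap.polar ⇑QA a₁ y) • a₁ := by
      conv_lhs => rw [← Matrix.one_mulVec y, H.resolveA hA]
      simp only [Matrix.add_mulVec, Matrix.smul_mulVec, H.gA.rk_mulVec, smul_smul]
    rw [Matrix.mulVecLin_apply, hap]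
    conv_rhs => rw [ey]
    simp only [q_add, q_smul, b_add_left, b_smul_left, b_smul_right, hA.q0, hA.q2, hA.p02, hA.p01, hA.p21]
    simp only [mul_zero, zero_mul, add_zero, zero_add]
    field_simp
  have aS : ∀ y, ap S y = X *ᵥ y := fun y => hS y
  refine ⟨S, ?_, ?_⟩
  · rw [aS, hap, p20, b_self_zero hA.q0, b_comm a₁ a₀, hA.p01]; simp
  · rw [aS, hap, hA.p21, hA.p01, b_self, inv_mul_cancel₀ e1]; simp

theorem cz_scale {a₀ a₁ a₂ : α → F} (hA : FrameA QA a₀ a₁ a₂) {c : F} (hc : c ≠ 0)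
    (h : Cz M w z v (c • sk JA a₀ a₁)) (d : F) : Cz M w z v (d • sk JA a₀ a₁) := by
  have key : ∀ t : F, Cz M w z v ((c * (t * t)) • sk JA a₀ a₁) := by
    intro t
    by_cases ht : t = 0
    · rw [ht, mul_zero, mul_zero, zero_smul]
      exact ⟨1, M.one_mem, cen_one _ _ _⟩
    obtain ⟨S, s0, s1⟩ := H.exists_torus hf hA ht
    obtain ⟨k, hk, ek⟩ := H.exists_sq S 1
    have := H.cz_conj hf h hk (S := S * S) (fun a b => by rw [ek, one_mul, ap_one])
    rwa [Matrix.mul_smul, Matrix.smul_mul, H.sk_conj, ap_mul, s0, ap_smul, s0, ap_mul, s1, s1, smul_smul,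
      show sk JA ((t * t) • a₀) a₁ = (t * t) • sk JA a₀ a₁ by
        rw [sk, sk, smul_sub, H.gA.rk_smul_left, H.gA.rk_smul_right], smul_smul] at this
  obtain ⟨x, y, e⟩ := exists_rep H.two (one_ne_zero (α := F)) one_ne_zero (d / c)
  have := H.cz_add hf (key x) (key y)
  rwa [← add_smul, ← mul_add, show x * x + y * y = d / c by rw [← e]; ring, mul_div_cancel₀ _ hc] at this

theorem second_diff {a₀ a₁ a₂ : α → F} (hA : FrameA QA a₀ a₁ a₂) :
    ∃ S ∈ El QA, ap S a₀ = a₀ ∧ ap S a₁ = a₁ - (2 * QA a₁) • a₀ ∧ ap S a₂ = a₂ + a₁ - QA a₁ • a₀ ∧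
      ap S⁻¹ a₀ = a₀ ∧ ap S⁻¹ a₁ = a₁ + (2 * QA a₁) • a₀ ∧ ap S⁻¹ a₂ = a₂ - a₁ - QA a₁ • a₀ := by
  obtain ⟨S, hS⟩ := exists_siegel H.gA.nd hA.q0 hA.p01
  have s0 : ap S a₀ = a₀ := siegel_fix hS (b_self_zero hA.q0) hA.p01
  have s1 : ap S a₁ = a₁ - (2 * QA a₁) • a₀ := by
    rw [hS.2.2, b_comm a₁ a₀, hA.p01, b_self]; module
  have s2 : ap S a₂ = a₂ + a₁ - QA a₁ • a₀ := by
    rw [hS.2.2, b_comm a₂ a₀, hA.p02, hA.p21]; module
  refine ⟨S, siegel_mem_El hS, s0, s1, s2, ?_, ?_, ?_⟩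
  · exact ap_inj S (by rw [ap_ap_inv, s0])
  · exact ap_inj S (by rw [ap_ap_inv, ap_add, ap_smul, s0, s1]; module)
  · exact ap_inj S (by rw [ap_ap_inv, ap_sub, ap_sub, ap_smul, s0, s1, s2]; module)

theorem exists_cz_root {C : Matrix α α F} (hC : Cz M w z v C) (h0 : C ≠ 0) :
    ∃ a₀ a₁ a₂, FrameA QA a₀ a₁ a₂ ∧ ∀ d : F, Cz M w z v (d • sk JA a₀ a₁) := by
  obtain ⟨g, hg, eg⟩ := hC
  have hskew := H.cen_skew hf eg
  have hs : ∀ x y, QuadraticMap.polar ⇑QA x (C *ᵥ y) = -QuadraticMap.polar ⇑QA y (C *ᵥ x) := fun x y => by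
    rw [← H.gA.pol_adj C x y, hskew, Matrix.neg_mulVec, ← neg_one_smul F (C *ᵥ y), b_smul_right]; ring
  have hd : ∀ x, QuadraticMap.polar ⇑QA x (C *ᵥ x) = 0 := fun x => by
    have e := hs x x
    have : (2 : F) * QuadraticMap.polar ⇑QA x (C *ᵥ x) = 0 := by linear_combination e
    exact (mul_eq_zero.1 this).resolve_left H.two
  obtain ⟨a₀, a₁, a₂, hA, hr⟩ : ∃ a₀ a₁ a₂, FrameA QA a₀ a₁ a₂ ∧ QuadraticMap.polar ⇑QA a₀ (C *ᵥ a₁) ≠ 0 := by
    by_contra hc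
    push Not at hc
    obtain ⟨u, hu, hu0⟩ := H.gA.exists_sing (by rw [H.cardA])
    obtain ⟨a₁, a₂, hA⟩ := H.exists_frameA hu hu0
    have r0 := hc _ _ _ hA
    have r2 := hc _ _ _ hA.swap
    obtain ⟨S, -, s0, s1, s2, -⟩ := H.second_diff hf hA
    have r := hc _ _ _ (hA.image S).swap
    have e := H.expandA hA C
    simp only [hd, hs a₁, r0, r2, mul_zero, neg_zero, zero_smul, add_zero, zero_add] at e
    rw [hs u a₂] at e
    rw [s1, s2, e] at r
    simp only [Matrix.add_mulVec, Matrix.smul_mulVec, H.gA.rk_mulVec, b_sub_left, b_sub_right, b_add_left,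
      b_add_right, b_smul_left, b_smul_right, hA.q0, hA.q2, hA.p01, hA.p21, hA.p02, b_comm a₂ u, b_comm a₁ u,
      b_comm a₁ a₂, b_self, Matrix.mulVec_sub, Matrix.mulVec_smul, Matrix.mulVec_add, smul_add, smul_sub,
      smul_smul, mul_zero, mul_one, zero_smul, add_zero, zero_add, sub_zero, zero_sub, zero_mul, b_zero_right,
      b_zero_left] at r
    refine h0 ?_
    have hp : QuadraticMap.polar ⇑QA a₂ (C *ᵥ u) = 0 := by
      have h2 := mul_ne_zero H.two hA.q1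
      refine (mul_eq_zero.1 (?_ : (2 * QA a₁) * QuadraticMap.polar ⇑QA a₂ (C *ᵥ u) = 0)).resolve_left h2
      linear_combination -r
    rw [e, hp]
    simp
  obtain ⟨S, hS, s0, s1, s2, i0, i1, i2⟩ := H.second_diff hf hA
  have hCz : Cz M w z v C := ⟨g, hg, eg⟩
  have hD := H.cz_sub hf (H.cz_add hf (H.cz_conj_el hf hCz hS) (H.cz_conj_el hf hCz ((El QA).inv_mem hS)))
    (H.cz_add hf hCz hCz)
  have e : val S * C * val S⁻¹ + val S⁻¹ * C * val S⁻¹⁻¹ - (C + C) =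
      ((2 * QA a₁) * ((2 * QA a₁)⁻¹ * QuadraticMap.polar ⇑QA a₀ (C *ᵥ a₁))) • sk JA a₀ a₁ := by
    conv_lhs => rw [H.expandA hA C]
    simp only [Matrix.mul_add, Matrix.add_mul, Matrix.mul_smul, Matrix.smul_mul, H.gA.rk_conj, s0, s1, s2, i0, i1,
      i2, H.gA.rk_add_left, H.rk_sub_left, H.gA.rk_smul_left, H.rk_add_right, H.rk_sub_right, H.gA.rk_smul_right,
      sk, hd, hs a₁ a₀, hs a₁ a₂, hs a₂ a₀, smul_smul]
    module
  rw [e] at hD
  exact ⟨a₀, a₁, a₂, hA, H.cz_scale hf hA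
    (mul_ne_zero (mul_ne_zero H.two hA.q1) (mul_ne_zero (inv_ne_zero (mul_ne_zero H.two hA.q1)) hr)) hD⟩

theorem cz_root_all {a₀ a₁ a₂ : α → F} (hA : FrameA QA a₀ a₁ a₂)
    (h : ∀ d : F, Cz M w z v (d • sk JA a₀ a₁)) {b₀ b₁ b₂ : α → F} (hb : FrameA QA b₀ b₁ b₂) (d : F) :
    Cz M w z v (d • sk JA b₀ b₁) := by
  obtain ⟨e, he, c, hc, ec⟩ : ∃ e ∈ El QA, ∃ c : F, c ≠ 0 ∧ ap e a₀ = c • b₀ := by
    by_cases hy : QuadraticMap.polar ⇑QA a₀ b₀ = 0
    · have hpar : ∃ c : F, b₀ = c • a₀ := by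
        have hb0 : b₀ = QuadraticMap.polar ⇑QA a₂ b₀ • a₀ +
            ((2 * QA a₁)⁻¹ * QuadraticMap.polar ⇑QA a₁ b₀) • a₁ := by
          conv_lhs => rw [← Matrix.one_mulVec b₀, H.resolveA hA]
          simp [Matrix.add_mulVec, Matrix.smul_mulVec, H.gA.rk_mulVec, hy, smul_smul]
        have q := hb.q0
        rw [hb0, q_add, q_smul, q_smul, hA.q0, b_smul_left, b_smul_right, hA.p01] at q
        simp only [mul_zero, zero_add, add_zero, mul_eq_zero, or_self, hA.q1, or_false] at q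
        exact ⟨QuadraticMap.polar ⇑QA a₂ b₀, by
          rw [hb0, mul_eq_zero.2 q, zero_smul, add_zero, b_smul_right, b_comm a₂ a₀, hA.p02, mul_one]⟩
      obtain ⟨c, rfl⟩ := hpar
      have hc : c ≠ 0 := fun e => hb.a0_ne (by rw [e, zero_smul])
      exact ⟨1, (El QA).one_mem, c⁻¹, inv_ne_zero hc, by rw [ap_one, smul_smul, inv_mul_cancel₀ hc, one_smul]⟩
    obtain ⟨u', hu'⟩ : ∃ u', u' = (QuadraticMap.polar ⇑QA a₀ b₀)⁻¹ • b₀ := ⟨_, rfl⟩
    have qu' : QA u' = 0 := by rw [hu', q_smul, hb.q0, mul_zero]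
    have bu' : QuadraticMap.polar ⇑QA a₀ u' = 1 := by rw [hu', b_smul_right, inv_mul_cancel₀ hy]
    obtain ⟨m, hm⟩ : ∃ m, m = a₁ - QuadraticMap.polar ⇑QA u' a₁ • a₀ := ⟨_, rfl⟩
    obtain ⟨e, he, c, hc, ec⟩ := exists_move_line H.gA.nd hA.q0 qu' bu' (n := m)
      (by rw [hm, b_sub_right, b_smul_right, hA.p01, b_self_zero hA.q0]; ring)
      (by rw [hm, b_sub_right, b_smul_right, b_comm u' a₀, bu']; ring)
      (by rw [hm, q_sub, q_smul, hA.q0, b_smul_right, b_comm a₁ a₀, hA.p01]; simpa using hA.q1)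
    exact ⟨e, he, c * (QuadraticMap.polar ⇑QA a₀ b₀)⁻¹, mul_ne_zero hc (inv_ne_zero hy),
      by rw [ec, hu', smul_smul]⟩
  have h1 : QuadraticMap.polar ⇑QA b₀ (ap e a₁) = 0 := by
    have := ap_b e a₀ a₁
    rw [ec, b_smul_left, hA.p01, mul_eq_zero] at this
    exact this.resolve_left hc
  have ea : ap e a₁ = QuadraticMap.polar ⇑QA b₂ (ap e a₁) • b₀ +
      ((2 * QA b₁)⁻¹ * QuadraticMap.polar ⇑QA b₁ (ap e a₁)) • b₁ := by
    conv_lhs => rw [← Matrix.one_mulVec (ap e a₁), H.resolveA hb]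
    simp [Matrix.add_mulVec, Matrix.smul_mulVec, H.gA.rk_mulVec, h1, smul_smul]
  obtain ⟨m, hm⟩ : ∃ m, m = (2 * QA b₁)⁻¹ * QuadraticMap.polar ⇑QA b₁ (ap e a₁) := ⟨_, rfl⟩
  rw [← hm] at ea
  have hm0 : m ≠ 0 := fun m0 => by
    have := ap_q e a₁
    rw [ea, m0, zero_smul, add_zero, q_smul, hb.q0, mul_zero] at this
    exact hA.q1 this.symm
  have := H.cz_conj_el hf (h (d / (c * m))) he
  rw [Matrix.mul_smul, Matrix.smul_mul, H.sk_conj, ec, ea] at this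
  convert this using 1
  simp only [sk, H.gA.rk_add_left, H.rk_add_right, H.gA.rk_smul_left, H.gA.rk_smul_right]
  match_scalars <;> field_simp <;> ring

/-- One central element gives all skew ones. -/
theorem cz_all {C : Matrix α α F} (hC : Cz M w z v C) (h0 : C ≠ 0) {D : Matrix α α F}
    (hD : adj JA D = -D) : Cz M w z v D := by
  obtain ⟨a₀, a₁, a₂, hA, h⟩ := H.exists_cz_root hf hC h0
  have h01 := h
  have h21 := fun d => H.cz_root_all hf hA h hA.swap d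
  obtain ⟨S, hS, -, s1, s2, -⟩ := H.second_diff hf hA
  have h02 : ∀ d : F, Cz M w z v (d • sk JA a₀ a₂) := by
    intro d
    have q1 := mul_ne_zero H.two hA.q1
    have := H.cz_conj_el hf (h21 (d / (2 * QA a₁))) hS
    rw [Matrix.mul_smul, Matrix.smul_mul, H.sk_conj, s1, s2] at this
    have e := H.cz_sub hf (H.cz_sub hf this (h21 (d / (2 * QA a₁))))
      (h01 (d / (2 * QA a₁) * QA a₁))
    convert e using 1
    simp only [sk, H.gA.rk_add_left, H.rk_add_right, H.gA.rk_smul_left, H.gA.rk_smul_right, H.rk_sub_left,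
      H.rk_sub_right]
    have := H.two
    have := hA.q1
    match_scalars <;> field_simp <;> ring
  have hs : ∀ x y, QuadraticMap.polar ⇑QA x (D *ᵥ y) = -QuadraticMap.polar ⇑QA y (D *ᵥ x) := fun x y => by
    rw [← H.gA.pol_adj D x y, hD, Matrix.neg_mulVec, ← neg_one_smul F (D *ᵥ y), b_smul_right]; ring
  have hd : ∀ x, QuadraticMap.polar ⇑QA x (D *ᵥ x) = 0 := fun x => by
    have : (2 : F) * QuadraticMap.polar ⇑QA x (D *ᵥ x) = 0 := by linear_combination hs x x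
    exact (mul_eq_zero.1 this).resolve_left H.two
  have e : D = QuadraticMap.polar ⇑QA a₂ (D *ᵥ a₀) • sk JA a₀ a₂ +
      ((2 * QA a₁)⁻¹ * QuadraticMap.polar ⇑QA a₂ (D *ᵥ a₁)) • sk JA a₀ a₁ +
      ((2 * QA a₁)⁻¹ * QuadraticMap.polar ⇑QA a₀ (D *ᵥ a₁)) • sk JA a₂ a₁ := by
    conv_lhs => rw [H.expandA hA D]
    simp only [hd, hs a₁ a₀, hs a₁ a₂, hs a₀ a₂, sk]
    module
  rw [e]
  exact H.cz_add hf (H.cz_add hf (h02 _) (h01 _)) (h21 _)

/-- A level which is not a scalar gives a central element. -/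
theorem cz_of_level {h : Grp Q} (hh : h ∈ M) {E : Matrix α α F} (hl : Lev w v h E)
    (hns : ∀ c : F, E ≠ c • 1) : ∃ C ≠ 0, Cz M w z v C := by
  by_cases hs1 : adj JA E = E
  swap
  · obtain ⟨g, hg, eg⟩ := H.exists_right hf
    have := H.comm_cen hf hl eg
    refine ⟨E - adj JA E, sub_ne_zero.2 (Ne.symm hs1), (g * h)⁻¹ * (h * g),
      M.mul_mem (M.inv_mem (M.mul_mem hg hh)) (M.mul_mem hh hg), ?_⟩
    convert this using 1
    have q1 := mul_ne_zero H.two hf.q1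
    rw [H.gA.adj_smul, H.gA.adj_one, Matrix.mul_smul, Matrix.smul_mul, Matrix.one_mul, Matrix.mul_one, ← smul_sub,
      smul_smul, mul_neg, inv_mul_cancel₀ q1, neg_one_smul, neg_sub]
  obtain ⟨u, hu, hk⟩ : ∃ u, QA u = 0 ∧ QuadraticMap.polar ⇑QA u (E *ᵥ u) ≠ 0 := by
    by_contra hc
    push Not at hc
    obtain ⟨c, hc'⟩ := H.lin.scalar_of_sing hs1 hc
    exact hns c hc'
  obtain ⟨a₁, a₂, hA⟩ := H.exists_frameA hu (fun e => hk (by rw [e, b_zero_left]))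
  obtain ⟨t, ht, ht1⟩ := H.ext
  obtain ⟨k, hk', kw, -, k1⟩ := H.exists_scale hf ht
  obtain ⟨S, hS, s0, s1, s2, i0, i1, i2⟩ := H.second_diff hf hA
  obtain ⟨St, hSt⟩ := exists_siegel H.gA.nd hA.q0 (v := t • a₁) (by rw [b_smul_right, hA.p01, mul_zero])
  have t0 : ap St u = u := siegel_fix hSt (b_self_zero hA.q0) (by rw [b_smul_right, hA.p01, mul_zero])
  have t1 : ap St a₁ = a₁ - (2 * t * QA a₁) • u := by
    rw [hSt.2.2, b_comm a₁ u, hA.p01, b_smul_right, b_self]; module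
  have t2 : ap St a₂ = a₂ + t • a₁ - (t * t * QA a₁) • u := by
    rw [hSt.2.2, b_comm a₂ u, hA.p02, b_smul_right, hA.p21, q_smul]; module
  have j0 : ap St⁻¹ u = u := ap_inj St (by rw [ap_ap_inv, t0])
  have j1 : ap St⁻¹ a₁ = a₁ + (2 * t * QA a₁) • u :=
    ap_inj St (by rw [ap_ap_inv, ap_add, ap_smul, t0, t1]; module)
  have j2 : ap St⁻¹ a₂ = a₂ - t • a₁ - (t * t * QA a₁) • u :=
    ap_inj St (by rw [ap_ap_inv, ap_sub, ap_sub, ap_smul, ap_smul, t0, t1, t2]; module)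
  have conjEl : ∀ {S : Grp QA}, S ∈ El QA → ∃ g ∈ M, Lev w v g (val S * E * val S⁻¹) := by
    intro S hS
    obtain ⟨x, hx, ex⟩ := H.exists_elA hS
    exact ⟨x * h * x⁻¹, M.mul_mem (M.mul_mem hx hh) (M.inv_mem hx), by
      simpa using H.lev_conj hf hl one_ne_zero (k := x) (S := S) (fun a => by rw [ex, one_smul]) (fun a => ex a _)⟩
  obtain ⟨g1, hg1, e1⟩ := conjEl (siegel_mem_El hSt)
  obtain ⟨g2, hg2, e2⟩ := conjEl ((El QA).inv_mem (siegel_mem_El hSt))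
  obtain ⟨g3, hg3, e3⟩ := conjEl hS
  obtain ⟨g4, hg4, e4⟩ := conjEl ((El QA).inv_mem hS)
  have d1 := (e1.mul e2).mul (hl.mul hl).inv
  have d2 := H.lev_conj hf ((e3.mul e4).mul (hl.mul hl).inv) (mul_ne_zero ht ht) (k := k) (S := (1 : Grp QA))
    (fun a => by rw [kw, ap_one]) (fun a => by rw [k1, ap_one])
  have d := d1.mul d2.inv
  have hv : val St * E * val St⁻¹ + val St⁻¹ * E * val St⁻¹⁻¹ + -(E + E) +
      -((t * t) • (val (1 : Grp QA) * (val S * E * val S⁻¹ + val S⁻¹ * E * val S⁻¹⁻¹ + -(E + E)) *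
        val (1 : Grp QA)⁻¹)) =
      (2 * (t * t) * (t * t - 1) * (QA a₁ * QA a₁) * QuadraticMap.polar ⇑QA u (E *ᵥ u)) • rk JA u u := by
    have v1 : val (1 : Grp QA) = 1 := rfl
    rw [inv_one, v1, Matrix.one_mul, Matrix.mul_one]
    conv_lhs => rw [H.expandA hA E]
    simp only [Matrix.mul_add, Matrix.add_mul, Matrix.mul_smul, Matrix.smul_mul, H.gA.rk_conj, t0, t1, t2, j0, j1,
      j2, s0, s1, s2, i0, i1, i2, H.gA.rk_add_left, H.rk_sub_left, H.gA.rk_smul_left, H.rk_add_right, H.rk_sub_right,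
      H.gA.rk_smul_right]
    module
  rw [hv] at d
  obtain ⟨g, hg, eg⟩ : ∃ g ∈ M, Lev w v g
      ((2 * (t * t) * (t * t - 1) * (QA a₁ * QA a₁) * QuadraticMap.polar ⇑QA u (E *ᵥ u)) • rk JA u u) :=
    ⟨_, M.mul_mem (M.mul_mem (M.mul_mem hg1 hg2) (M.inv_mem (M.mul_mem hh hh))) (M.inv_mem (M.mul_mem
      (M.mul_mem hk' (M.mul_mem (M.mul_mem hg3 hg4) (M.inv_mem (M.mul_mem hh hh)))) (M.inv_mem hk'))), d⟩
  obtain ⟨c, hc'⟩ : ∃ c, c = 2 * (t * t) * (t * t - 1) * (QA a₁ * QA a₁) *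
      QuadraticMap.polar ⇑QA u (E *ᵥ u) := ⟨_, rfl⟩
  rw [← hc'] at eg
  have hc0 : c ≠ 0 := hc' ▸ mul_ne_zero (mul_ne_zero (mul_ne_zero (mul_ne_zero H.two (mul_ne_zero ht ht))
    (sub_ne_zero.2 ht1)) (mul_ne_zero hA.q1 hA.q1)) hk
  obtain ⟨e, he, l, hl0, el⟩ := exists_move_line H.gA.nd hA.q0 hA.q2 hA.p02 hA.p01 hA.p21 hA.q1
  obtain ⟨x, hx, ex⟩ := H.exists_elA he
  have eg' := H.lev_conj hf eg one_ne_zero (k := x) (S := e) (fun a => by rw [ex, one_smul]) (fun a => ex a _)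
  simp only [Matrix.mul_smul, Matrix.smul_mul, H.gA.rk_conj, el, H.gA.rk_smul_left, H.gA.rk_smul_right, one_smul,
    smul_smul] at eg'
  have hc := H.comm_cen hf eg eg'
  obtain ⟨s, hs⟩ : ∃ s, s = (2 * QB v)⁻¹ * (c * c) := ⟨_, rfl⟩
  refine ⟨(s * (l * l)) • sk JA a₂ u, ?_, (x * g * x⁻¹ * g)⁻¹ * (g * (x * g * x⁻¹)),
    M.mul_mem (M.inv_mem (M.mul_mem (M.mul_mem (M.mul_mem hx hg) (M.inv_mem hx)) hg))
      (M.mul_mem hg (M.mul_mem (M.mul_mem hx hg) (M.inv_mem hx))), ?_⟩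
  · intro h0
    have := congrArg (fun X => QuadraticMap.polar ⇑QA u (X *ᵥ a₂)) h0
    have hne : s ≠ 0 := hs ▸ mul_ne_zero (inv_ne_zero (mul_ne_zero H.two hf.q1)) (mul_ne_zero hc0 hc0)
    simp only [Matrix.smul_mulVec, H.sk_mulVec, b_smul_right, b_sub_right, hA.p02, b_comm a₂ u, Matrix.zero_mulVec,
      b_self_zero hA.q0, b_self_zero hA.q2, b_zero_right, mul_zero, mul_one, sub_zero, zero_sub] at this
    have h1 : s * (l * l) = 0 := by linear_combination this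
    exact mul_ne_zero hne (mul_ne_zero hl0 hl0) h1
  · convert hc using 1
    simp only [H.gA.adj_smul, H.gA.adj_rk, Matrix.mul_smul, Matrix.smul_mul, H.gA.rk_mul, hA.p02,
      b_comm a₂ u, one_smul, smul_smul, sk, hs]
    module

end Hyp

end CfsgLib.Classical.TensorOrthNine
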