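import Cfsg.Agent.Lib.Classical.TensorOrthNine.Bas

set_option autoImplicit false
set_option linter.unusedSectionVars false

/-!
Two involutions: either they are conjugate by a power of their product, or a power of it is a central
involution, which governs the dimensions of their eigenspaces.
-/

namespace CfsgLib.Classical.TensorOrthNine

open Matrix CfsgLib.Orth

section group

variable {G : Type*} [Group G]

theorem conj_odd {e e' : G} (he : e * e = 1) (he' : e' * e' = 1) {m : ℕ} (h : (e * e') ^ (2 * m + 1) = 1) :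
    (e * e') ^ m * e * ((e * e') ^ m)⁻¹ = e' := by
  obtain ⟨δ, hδ⟩ : ∃ δ, δ = e * e' := ⟨_, rfl⟩
  rw [← hδ] at h ⊢
  have ei : e⁻¹ = e := inv_eq_of_mul_eq_one_right he
  have hδi : δ⁻¹ = e' * e := by
    rw [hδ, _root_.mul_inv_rev, ei, inv_eq_of_mul_eq_one_right he']
  have swap1 : e * δ ^ m * e⁻¹ = (δ ^ m)⁻¹ := by
    rw [← conj_pow, ← inv_pow]
    congr 1
    rw [hδi, hδ, ei, ← mul_assoc, he, one_mul]
  have h1 : e * (δ ^ m)⁻¹ = δ ^ m * e := by
    rw [← swap1, ei, ← mul_assoc, ← mul_assoc, he, one_mul]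
  have h2 : δ ^ m * δ ^ m = δ⁻¹ := eq_inv_of_mul_eq_one_left (by
    rw [← pow_add, ← pow_succ, ← two_mul, h])
  rw [mul_assoc, h1, ← mul_assoc, h2, hδi, mul_assoc, he, mul_one]

/-- The alternative for two involutions. -/
theorem dihedral_cases [Finite G] {e e' : G} (he : e * e = 1) (he' : e' * e' = 1) :
    (∃ m : ℕ, (e * e') ^ m * e * ((e * e') ^ m)⁻¹ = e') ∨
    ∃ (m : ℕ) (ζ : G), ζ = (e * e') ^ m ∧ ζ ≠ 1 ∧ ζ * ζ = 1 ∧ e * ζ = ζ * e ∧ e' * ζ = ζ * e' ∧ ζ * ζ = 1 ∧
      orderOf (e * e') = 2 * m := by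
  have hpos := orderOf_pos (e * e')
  rcases Nat.even_or_odd (orderOf (e * e')) with ⟨m, hm⟩ | ⟨m, hm⟩
  swap
  · exact Or.inl ⟨m, conj_odd he he' (by rw [← hm, pow_orderOf_eq_one])⟩
  refine Or.inr ⟨m, (e * e') ^ m, rfl, pow_ne_one_of_lt_orderOf (by omega) (by omega), ?_⟩
  have hζ2 : (e * e') ^ m * (e * e') ^ m = 1 := by rw [← pow_add, ← hm, pow_orderOf_eq_one]
  have ei : e⁻¹ = e := inv_eq_of_mul_eq_one_right he
  have e'i : e'⁻¹ = e' := inv_eq_of_mul_eq_one_right he'
  have hi : (e * e')⁻¹ = e' * e := by rw [_root_.mul_inv_rev, ei, e'i]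
  refine ⟨hζ2, ?_, ?_, hζ2, by omega⟩
  · rw [← mul_inv_eq_iff_eq_mul, ← conj_pow, ← inv_eq_of_mul_eq_one_right hζ2, ← inv_pow, hi, ei]
    congr 1
    rw [← mul_assoc, he, one_mul]
  · rw [← mul_inv_eq_iff_eq_mul, ← conj_pow, ← inv_eq_of_mul_eq_one_right hζ2, ← inv_pow, hi, e'i]
    congr 1
    rw [mul_assoc, mul_assoc, he', mul_one]

end group

section dims

variable {F : Type*} [Field F] [Finite F] {γ : Type} [Fintype γ] [DecidableEq γ] {Q : QuadraticForm F (γ → F)}

/-- An invariant subspace splits along an involution. -/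
theorem finrank_split (h2 : (2 : F) ≠ 0) {k : Grp Q} (hk : k * k = 1) (W : Submodule F (γ → F))
    (hW : ∀ x ∈ W, ap k x ∈ W) :
    Module.finrank F ↥(W ⊓ eig (val k) 1) + Module.finrank F ↥(W ⊓ eig (val k) (-1)) = Module.finrank F W := by
  have hd : (W ⊓ eig (val k) 1) ⊓ (W ⊓ eig (val k) (-1)) = ⊥ := (Submodule.eq_bot_iff _).2 fun x hx => by
    have h1 : ap k x = (1 : F) • x := hx.1.2
    have h1' : ap k x = (-1 : F) • x := hx.2.2
    have h5 : (2 : F) • x = 0 := by linear_combination (norm := module) h1' - h1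
    exact (smul_eq_zero.1 h5).resolve_left h2
  have hs : (W ⊓ eig (val k) 1) ⊔ (W ⊓ eig (val k) (-1)) = W := by
    refine le_antisymm (sup_le inf_le_left inf_le_left) fun x hx => Submodule.mem_sup.2
      ⟨(2 : F)⁻¹ • (x + ap k x), ⟨W.smul_mem _ (W.add_mem hx (hW x hx)), ?_⟩,
        (2 : F)⁻¹ • (x - ap k x), ⟨W.smul_mem _ (W.sub_mem hx (hW x hx)), ?_⟩, ?_⟩
    · show ap k _ = _
      rw [ap_smul, ap_add, ← ap_mul, hk, ap_one]; module
    · show ap k _ = _
      rw [ap_smul, ap_sub, ← ap_mul, hk, ap_one]; module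
    · match_scalars <;> field_simp <;> ring
  have := Submodule.finrank_sup_add_finrank_inf_eq (W ⊓ eig (val k) 1) (W ⊓ eig (val k) (-1))
  rw [hd, hs, finrank_bot] at this
  omega

theorem pow_eigen {e e' : Grp Q} {x : γ → F} {s s' : F} (h : ap e x = s • x) (h' : ap e' x = s' • x) (m : ℕ) :
    ap ((e * e') ^ m) x = (s' * s) ^ m • x := by
  induction m with
  | zero => simp
  | succ n ih => rw [pow_succ, ap_mul, ap_mul, h', ap_smul, h, smul_smul, ap_smul, ih, smul_smul, ← pow_succ']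

/-- The eigenspaces whose signs do not multiply to the value of the central element meet trivially. -/
theorem finrank_disj {e e' : Grp Q} {m : ℕ} {W : Submodule F (γ → F)} {z : F}
    (hz : ∀ x ∈ W, ap ((e * e') ^ m) x = z • x) {s s' : F} (h : (s' * s) ^ m ≠ z) :
    Module.finrank F ↥(W ⊓ eig (val e) s) + Module.finrank F ↥(W ⊓ eig (val e') s') ≤ Module.finrank F W := by
  have hd : (W ⊓ eig (val e) s) ⊓ (W ⊓ eig (val e') s') = ⊥ := (Submodule.eq_bot_iff _).2 fun x hx => by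
    have := pow_eigen hx.1.2 hx.2.2 m
    rw [hz x hx.1.1, ← sub_eq_zero, ← sub_smul] at this
    exact (smul_eq_zero.1 this).resolve_left (sub_ne_zero.2 (Ne.symm h))
  have := Submodule.finrank_sup_add_finrank_inf_eq (W ⊓ eig (val e) s) (W ⊓ eig (val e') s')
  rw [hd, finrank_bot] at this
  have hle := Submodule.finrank_mono (sup_le (inf_le_left (b := eig (val e) s))
    (inf_le_left (b := eig (val e') s')) : (W ⊓ eig (val e) s) ⊔ (W ⊓ eig (val e') s') ≤ W)
  omega

variable (h2 : (2 : F) ≠ 0) {e e' : Grp Q} (he : e * e = 1) (he' : e' * e' = 1) {m : ℕ}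
  {W : Submodule F (γ → F)} (hW : ∀ x ∈ W, ap e x ∈ W) (hW' : ∀ x ∈ W, ap e' x ∈ W)
include h2 he he' hW hW'

theorem dim_neg_odd (hz : ∀ x ∈ W, ap ((e * e') ^ m) x = (-1 : F) • x) (hm : Odd m) :
    Module.finrank F ↥(W ⊓ eig (val e') 1) = Module.finrank F ↥(W ⊓ eig (val e) (-1)) ∧
    Module.finrank F ↥(W ⊓ eig (val e') (-1)) = Module.finrank F ↥(W ⊓ eig (val e) 1) := by
  have hne : (1 : F) ≠ -1 := fun h => h2 (by linear_combination h)
  have d1 := finrank_disj hz (s := 1) (s' := 1) (by rw [one_mul, one_pow]; exact hne)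
  have d2 := finrank_disj hz (s := -1) (s' := -1) (by rw [neg_mul_neg, one_mul, one_pow]; exact hne)
  have s1 := finrank_split h2 he W hW
  have s2 := finrank_split h2 he' W hW'
  omega

theorem dim_neg_even (hz : ∀ x ∈ W, ap ((e * e') ^ m) x = (-1 : F) • x) (hm : Even m) :
    Module.finrank F ↥(W ⊓ eig (val e) 1) = Module.finrank F ↥(W ⊓ eig (val e) (-1)) ∧
    Module.finrank F ↥(W ⊓ eig (val e') 1) = Module.finrank F ↥(W ⊓ eig (val e) 1) := by
  have hne : (1 : F) ≠ -1 := fun h => h2 (by linear_combination h)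
  have d1 := finrank_disj hz (s := 1) (s' := 1) (by rw [one_mul, one_pow]; exact hne)
  have d2 := finrank_disj hz (s := -1) (s' := -1) (by rw [neg_mul_neg, one_mul, one_pow]; exact hne)
  have d3 := finrank_disj hz (s := 1) (s' := -1) (by rw [mul_one, hm.neg_one_pow]; exact hne)
  have d4 := finrank_disj hz (s := -1) (s' := 1) (by rw [one_mul, hm.neg_one_pow]; exact hne)
  have s1 := finrank_split h2 he W hW
  have s2 := finrank_split h2 he' W hW'
  omega

theorem dim_pos_odd (hz : ∀ x ∈ W, ap ((e * e') ^ m) x = (1 : F) • x) (hm : Odd m) :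
    Module.finrank F ↥(W ⊓ eig (val e') 1) = Module.finrank F ↥(W ⊓ eig (val e) 1) ∧
    Module.finrank F ↥(W ⊓ eig (val e') (-1)) = Module.finrank F ↥(W ⊓ eig (val e) (-1)) := by
  have hne : (-1 : F) ≠ 1 := fun h => h2 (by linear_combination -h)
  have d3 := finrank_disj hz (s := 1) (s' := -1) (by rw [mul_one, hm.neg_one_pow]; exact hne)
  have d4 := finrank_disj hz (s := -1) (s' := 1) (by rw [one_mul, hm.neg_one_pow]; exact hne)
  have s1 := finrank_split h2 he W hW
  have s2 := finrank_split h2 he' W hW'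
  omega

end dims

end CfsgLib.Classical.TensorOrthNine
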