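import Cfsg.Agent.Lib.Classical.TensorOrthNine.Stab

set_option autoImplicit false
set_option linter.unusedSectionVars false

/-!
A central element in the group gives all root groups at pure vectors, hence the whole of `Ω`.
-/

namespace CfsgLib.Classical.TensorOrthNine

open Matrix CfsgLib.Classical.TensorMax CfsgLib.Orth CfsgLib.Orth.Overfield
open CfsgLib.Classical.TensorSymp (adj ten kc_mulVec kron_mulVec_ten ten_add_left ten_add_right ten_sub_left
  ten_sub_right ten_smul_left ten_smul_right)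
open CfsgLib.Classical.TensorOrth (Gram rk)
open scoped MatrixGroups Kronecker

variable {F : Type*} [Field F] {α β : Type} [Fintype α] [DecidableEq α] [Fintype β] [DecidableEq β]

theorem FrameA.a1_ne {QA : QuadraticForm F (α → F)} {a₀ a₁ a₂ : α → F} (hf : FrameA QA a₀ a₁ a₂) : a₁ ≠ 0 :=
  fun e => hf.q1 (by rw [e, QuadraticMap.map_zero])

theorem FrameB.image {QB : QuadraticForm F (β → F)} {w z v : β → F} (hf : FrameB QB w z v) (T : Grp QB) :
    FrameB QB (ap T w) (ap T z) (ap T v) :=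
  ⟨by rw [ap_q]; exact hf.qw, by rw [ap_q]; exact hf.qz, by rw [ap_b]; exact hf.wz, by rw [ap_b]; exact hf.w1,
    by rw [ap_b]; exact hf.z1, by rw [ap_q]; exact hf.q1⟩

namespace Hyp

variable [Finite F] {QA : QuadraticForm F (α → F)} {QB : QuadraticForm F (β → F)} {JA : Matrix α α F}
  {JB : Matrix β β F} {Q : QuadraticForm F (α × β → F)} {M : Subgroup (Grp Q)} (H : Hyp QA QB JA JB Q M)
  {w z v : β → F} (hf : FrameB QB w z v)
include H hf

/-- A central element does not depend on the frame. -/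
theorem cen_formula {h : Grp Q} {C : Matrix α α F} (hc : Cen w z v h C) (x : α × β → F) :
    ap h x = x + ten (C *ᵥ ctr JB w x) w := by
  conv_lhs => rw [H.expand hf x]
  conv_rhs => arg 1; rw [H.expand hf x]
  rw [ap_add, ap_add, ap_smul, hc.fix, hc.ez, hc.e1, Matrix.zero_mulVec, ten_zero_left]
  simp only [add_zero]
  abel

theorem cen_of_formula {h : Grp Q} {C : Matrix α α F} (hc : ∀ x, ap h x = x + ten (C *ᵥ ctr JB w x) w) :
    Cen w z v h C := by
  have e : ∀ a b, ap h (ten a b) = ten a b + QuadraticMap.polar ⇑QB w b • ten (C *ᵥ a) w := fun a b => by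
    rw [hc, H.ctr_ten, Matrix.mulVec_smul, ten_smul_left]
  refine ⟨⟨fun a => ?_, fun a => ?_⟩, fun a => ?_⟩
  · rw [e, b_self_zero hf.qw, zero_smul, add_zero]
  · rw [e, hf.w1, zero_smul, add_zero, Matrix.zero_mulVec, ten_zero_left, add_zero]
  · rw [e, hf.wz, one_smul]

omit hf

/-- One central element gives them all, at every frame. -/
theorem cz_full (hns : ¬ Small QB M) {w z v : β → F} (hf : FrameB QB w z v) {D : Matrix α α F}
    (hD : adj JA D = -D) : Cz M w z v D := by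
  rw [Small] at hns
  push Not at hns
  obtain ⟨w₀, z₀, p₀, h₀, C, hC, hC0⟩ := hns
  obtain ⟨T, hT, c, hc, ec⟩ : ∃ T ∈ El QB, ∃ c : F, c ≠ 0 ∧ ap T w₀ = c • w := by
    by_cases hy : QuadraticMap.polar ⇑QB w₀ w = 0
    · obtain ⟨c, rfl⟩ := H.noPlane w₀ w h₀.qw hf.qw hy h₀.w_ne
      have hc : c ≠ 0 := fun e => hf.w_ne (by rw [e, zero_smul])
      exact ⟨1, (El QB).one_mem, c⁻¹, inv_ne_zero hc, by rw [ap_one, smul_smul, inv_mul_cancel₀ hc, one_smul]⟩
    obtain ⟨u', hu'⟩ : ∃ u', u' = (QuadraticMap.polar ⇑QB w₀ w)⁻¹ • w := ⟨_, rfl⟩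
    have qu' : QB u' = 0 := by rw [hu', q_smul, hf.qw, mul_zero]
    have bu' : QuadraticMap.polar ⇑QB w₀ u' = 1 := by rw [hu', b_smul_right, inv_mul_cancel₀ hy]
    obtain ⟨n, hn⟩ := H.exists_frame_pair h₀.qw qu' bu'
    obtain ⟨T, hT, c, hc, ec⟩ := exists_move_line H.gB.nd h₀.qw qu' bu' hn.w1 hn.z1 hn.q1
    exact ⟨T, hT, c * (QuadraticMap.polar ⇑QB w₀ w)⁻¹, mul_ne_zero hc (inv_ne_zero hy),
      by rw [ec, hu', smul_smul]⟩
  obtain ⟨g, hg, eg⟩ := H.cz_all h₀ hC hC0 (D := (c * c)⁻¹ • D) (by rw [H.gA.adj_smul, hD, smul_neg])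
  obtain ⟨k, hk, ek⟩ := H.exists_elB hT
  refine ⟨k * g * k⁻¹, M.mul_mem (M.mul_mem hk hg) (M.inv_mem hk), H.cen_of_formula hf ?_⟩
  have conj : Cen (ap T w₀) (ap T z₀) (ap T p₀) (k * g * k⁻¹) ((c * c)⁻¹ • D) := by
    have ik : ∀ a v, ap k⁻¹ (ten a (ap T v)) = ten a v := fun a v => by rw [← ek, ap_inv_ap]
    refine ⟨⟨fun a => ?_, fun a => ?_⟩, fun a => ?_⟩
    · rw [ap_mul, ap_mul, ik, eg.fix, ek]
    · rw [ap_mul, ap_mul, ik, eg.e1, ap_add, ek, ek]
    · rw [ap_mul, ap_mul, ik, eg.ez, ap_add, ek, ek]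
  intro x
  rw [H.cen_formula (h₀.image T) conj, ec]
  simp only [ctr, Matrix.mulVec_smul, kr_smul, Matrix.smul_mulVec, ten_smul_left, ten_smul_right, smul_smul]
  match_scalars <;> field_simp

theorem q_ten_zero {a : α → F} {b : β → F} (h : QB b = 0) : Q (ten a b) = 0 := by rw [H.q_ten, h, mul_zero]

theorem q_ten_zero' {a : α → F} {b : β → F} (h : QA a = 0) : Q (ten a b) = 0 := by
  rw [H.q_ten, h, mul_zero, zero_mul]

include hf

/-- The root groups inside `F^α ⊗ w`. -/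
theorem good_w (hns : ¬ Small QB M) (a b : α → F) : GoodAt Q M (ten a w) (ten b w) := by
  refine ⟨by rw [H.polar_ten, b_self_zero hf.qw, mul_zero], fun c g hg => ?_⟩
  rw [← ten_smul_left] at hg
  obtain ⟨h, hh, eh⟩ := H.cz_full hns hf (H.adj_sk (c • b) a)
  rwa [H.cen_unique hf (H.siegel_cen hf hg) eh]

/-- The root groups of `a₀ ⊗ w` towards `a₀^⊥ ⊗ z`. -/
theorem good_z (hns : ¬ Small QB M) {a₀ a₁ a₂ : α → F} (hA : FrameA QA a₀ a₁ a₂) :
    GoodAt Q M (ten a₀ w) (ten a₀ z) ∧ GoodAt Q M (ten a₀ w) (ten a₁ z) := by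
  have hu : Q (ten a₀ w) = 0 := H.q_ten_zero hf.qw
  have hzz := H.good_w hf.swap hns a₀ a₁
  obtain ⟨s, hs⟩ := exists_siegel H.nondeg (u := ten a₀ z) (v := (1 : F) • ten a₁ z) (H.q_ten_zero hf.qz)
    (by rw [b_smul_right, hzz.1, mul_zero])
  have hsM := hzz.2 1 s hs
  rw [one_smul] at hs
  have s0 : ap s (ten a₀ w) = ten a₀ w :=
    siegel_fix hs (by rw [H.polar_ten, b_self_zero hA.q0, zero_mul]) (by rw [H.polar_ten, hA.p01, zero_mul])
  have s2 : ap s (ten a₂ w) = ten a₂ w + ten a₁ z := by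
    rw [hs.2.2, H.polar_ten, H.polar_ten, H.q_ten, hf.qz, b_comm a₂ a₀, hA.p02, hA.p21, hf.wz, one_mul, zero_mul,
      mul_zero, zero_mul]
    simp
  have s1 : ap s (ten a₁ w) = ten a₁ w - (2 * QA a₁) • ten a₀ z := by
    rw [hs.2.2, H.polar_ten, H.polar_ten, H.q_ten, hf.qz, b_comm a₁ a₀, hA.p01, b_self, hf.wz, zero_mul, mul_one]
    simp
  have h2 := goodAt_conj hsM (H.good_w hf hns a₀ a₂)
  have h1 := goodAt_conj hsM (H.good_w hf hns a₀ a₁)
  rw [s0, s2] at h2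
  rw [s0, s1] at h1
  have d2 := goodAt_sub H.nondeg hu h2 (H.good_w hf hns a₀ a₂)
  have d1 := goodAt_smul (goodAt_sub H.nondeg hu (H.good_w hf hns a₀ a₁) h1) (2 * QA a₁)⁻¹
  rw [add_sub_cancel_left] at d2
  rw [sub_sub_cancel, smul_smul, inv_mul_cancel₀ (mul_ne_zero H.two hA.q1), one_smul] at d1
  exact ⟨d1, d2⟩

/-- The root groups of `a₀ ⊗ w` towards `a₀^⊥ ⊗ v`. -/
theorem good_v (hns : ¬ Small QB M) {a₀ a₁ a₂ : α → F} (hA : FrameA QA a₀ a₁ a₂) :
    GoodAt Q M (ten a₀ w) (ten a₀ v) ∧ GoodAt Q M (ten a₀ w) (ten a₁ v) := by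
  have hu : Q (ten a₀ w) = 0 := H.q_ten_zero hf.qw
  obtain ⟨z', hz'⟩ : ∃ z', z' = z + v - QB v • w := ⟨_, rfl⟩
  have qz' : QB z' = 0 := by
    rw [hz', q_sub, q_add, q_smul, hf.qw, hf.qz, hf.z1, b_smul_right, b_add_left, b_comm z w, hf.wz,
      b_comm v w, hf.w1]
    ring
  have bz' : QuadraticMap.polar ⇑QB w z' = 1 := by
    rw [hz', b_sub_right, b_add_right, b_smul_right, hf.wz, hf.w1, b_self_zero hf.qw]; ring
  obtain ⟨n, hn⟩ := H.exists_frame_pair hf.qw qz' bz'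
  have key : ∀ b, GoodAt Q M (ten a₀ w) (ten b z) → GoodAt Q M (ten a₀ w) (ten b z') →
      GoodAt Q M (ten a₀ w) (ten b v) := by
    intro b h h'
    have := goodAt_add H.nondeg hu (goodAt_sub H.nondeg hu h' h) (goodAt_smul (H.good_w hf hns a₀ b) (QB v))
    rwa [hz', ten_sub_right, ten_add_right, ten_smul_right,
      show ten b z + ten b v - QB v • ten b w - ten b z + QB v • ten b w = ten b v by abel] at this
  exact ⟨key _ (H.good_z hf hns hA).1 (H.good_z hn hns hA).1, key _ (H.good_z hf hns hA).2 (H.good_z hn hns hA).2⟩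

/-- The root groups of `a₀ ⊗ w` towards `a₂ ⊗ v`. -/
theorem good_opp (hns : ¬ Small QB M) {a₀ a₁ a₂ : α → F} (hA : FrameA QA a₀ a₁ a₂) :
    GoodAt Q M (ten a₀ w) (ten a₂ v) := by
  have hu2 : Q (ten a₂ v) = 0 := H.q_ten_zero' hA.q2
  have h22 := (H.good_v hf.swap hns hA.swap).1
  have h01 := (H.good_v hf hns hA).2
  obtain ⟨k, hk⟩ : ∃ k, k = 2 * QA a₁ * QB v := ⟨_, rfl⟩
  have hk0 : k ≠ 0 := hk ▸ mul_ne_zero (mul_ne_zero H.two hA.q1) hf.q1
  have key : ∀ c : F, GoodAt Q M (ten a₂ v) (ten a₂ z + c • ten a₁ v - (c * c * k) • ten a₀ w) := by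
    intro c
    obtain ⟨s, hs⟩ := exists_siegel H.nondeg (u := ten a₀ w) (v := c • ten a₁ v) (H.q_ten_zero hf.qw)
      (by rw [b_smul_right, h01.1, mul_zero])
    have sz : ap s (ten a₂ z) = ten a₂ z + c • ten a₁ v - (c * c * k) • ten a₀ w := by
      rw [hs.2.2, H.polar_ten, b_smul_right, H.polar_ten, q_smul, H.q_ten, b_comm a₂ a₀, hA.p02, b_comm z w, hf.wz,
        hA.p21, hk]
      simp [smul_smul]
    have sv : ap s (ten a₂ v) = ten a₂ v := siegel_fix hs
      (by rw [H.polar_ten, b_comm v w, hf.w1, mul_zero]) (by rw [b_smul_right, H.polar_ten, hA.p21, zero_mul, mul_zero])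
    have h := goodAt_conj (h01.2 c s hs) h22
    rw [sz, sv] at h
    exact goodAt_symm (by rw [← sz, ap_q]; exact H.q_ten_zero hf.qz) hu2 h
  have h0 := goodAt_symm (H.q_ten_zero hf.qz) hu2 h22
  have h := goodAt_sub H.nondeg hu2 (goodAt_smul h0 2) (goodAt_add H.nondeg hu2 (key 1) (key (-1)))
  have h' := goodAt_smul h (2 * k)⁻¹
  rw [show (2 : F) • ten a₂ z - (ten a₂ z + (1 : F) • ten a₁ v - ((1 : F) * 1 * k) • ten a₀ w +
      (ten a₂ z + (-1 : F) • ten a₁ v - ((-1 : F) * (-1) * k) • ten a₀ w)) = (2 * k) • ten a₀ w by module,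
    smul_smul, inv_mul_cancel₀ (mul_ne_zero H.two hk0), one_smul] at h'
  exact goodAt_symm hu2 (H.q_ten_zero hf.qw) h'

/-- The root groups at a pure singular vector. -/
theorem good_pure (hns : ¬ Small QB M) {a₀ a₁ a₂ : α → F} (hA : FrameA QA a₀ a₁ a₂) {x : α × β → F}
    (hx : QuadraticMap.polar ⇑Q (ten a₀ w) x = 0) : GoodAt Q M (ten a₀ w) x := by
  have hu : Q (ten a₀ w) = 0 := H.q_ten_zero hf.qw
  have res : ∀ b : α → F, b = QuadraticMap.polar ⇑QA a₂ b • a₀ + QuadraticMap.polar ⇑QA a₀ b • a₂ +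
      ((2 * QA a₁)⁻¹ * QuadraticMap.polar ⇑QA a₁ b) • a₁ := fun b => by
    conv_lhs => rw [← Matrix.one_mulVec b, H.resolveA hA]
    simp [Matrix.add_mulVec, Matrix.smul_mulVec, H.gA.rk_mulVec, smul_smul]
  have hv : ∀ b, GoodAt Q M (ten a₀ w) (ten b v) := by
    intro b
    rw [res b, ten_add_left, ten_add_left, ten_smul_left, ten_smul_left, ten_smul_left]
    exact goodAt_add H.nondeg hu (goodAt_add H.nondeg hu (goodAt_smul (H.good_v hf hns hA).1 _)
      (goodAt_smul (H.good_opp hf hns hA) _)) (goodAt_smul (H.good_v hf hns hA).2 _)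
  rw [b_comm, H.polar_ctr, b_comm] at hx
  rw [H.expand hf x]
  refine goodAt_add H.nondeg hu (goodAt_add H.nondeg hu (H.good_w hf hns _ _) ?_) (goodAt_smul (hv _) _)
  rw [res (ctr JB w x), hx, zero_smul, add_zero, ten_add_left, ten_smul_left, ten_smul_left]
  exact goodAt_add H.nondeg hu (goodAt_smul (H.good_z hf hns hA).1 _) (goodAt_smul (H.good_z hf hns hA).2 _)

omit hf

theorem good_ten (hns : ¬ Small QB M) {u : α → F} (hu : QA u = 0) (hu0 : u ≠ 0) {w : β → F} (hw : QB w = 0)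
    (hw0 : w ≠ 0) {x : α × β → F} (hx : QuadraticMap.polar ⇑Q (ten u w) x = 0) : GoodAt Q M (ten u w) x := by
  obtain ⟨a₁, a₂, hA⟩ := H.exists_frameA hu hu0
  obtain ⟨z, v, hf⟩ := H.exists_frameB hw hw0
  exact H.good_pure hf hns hA hx

/-- A non-zero vector is not orthogonal to all pure singular vectors. -/
theorem exists_pure {u : α × β → F} (hu : u ≠ 0) : ∃ a b, QA a = 0 ∧ QB b = 0 ∧
    QuadraticMap.polar ⇑Q u (ten a b) ≠ 0 := by
  by_contra hc
  push Not at hc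
  obtain ⟨a₀, ha₀, ha0⟩ := H.gA.exists_sing (by rw [H.cardA])
  obtain ⟨a₁, a₂, hA⟩ := H.exists_frameA ha₀ ha0
  obtain ⟨w, hw, hw0⟩ := H.exists_singB
  obtain ⟨z, v, hf⟩ := H.exists_frameB hw hw0
  have key : ∀ b, QB b = 0 → ∀ a, QuadraticMap.polar ⇑Q u (ten a b) = 0 := by
    intro b hb a
    obtain ⟨S, -, -, -, s2, -⟩ := H.second_diff hf hA
    have h3 := hc (ap S a₂) b (by rw [ap_q]; exact hA.q2) hb
    have h0 := hc a₀ b hA.q0 hb
    have h2 := hc a₂ b hA.q2 hb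
    rw [s2, ten_sub_left, ten_add_left, ten_smul_left, b_sub_right, b_add_right, b_smul_right, h0, h2, mul_zero,
      sub_zero, zero_add] at h3
    rw [← Matrix.one_mulVec a, H.resolveA hA]
    simp only [Matrix.add_mulVec, Matrix.smul_mulVec, H.gA.rk_mulVec, ten_add_left, ten_smul_left, b_add_right,
      b_smul_right, h0, h2, h3, mul_zero, add_zero]
  have hv : ∀ a, QuadraticMap.polar ⇑Q u (ten a v) = 0 := by
    intro a
    have h := key (z + v - QB v • w) (by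
      rw [q_sub, q_add, q_smul, hf.qw, hf.qz, hf.z1, b_smul_right, b_add_left, b_comm z w, hf.wz,
        b_comm v w, hf.w1]
      ring) a
    rw [ten_sub_right, ten_add_right, ten_smul_right, b_sub_right, b_add_right, b_smul_right, key z hf.qz,
      key w hf.qw] at h
    linear_combination h
  refine hu (H.nondeg u fun y => ?_)
  rw [H.expand hf y, b_add_right, b_add_right, b_smul_right, key w hf.qw, key z hf.qz, hv]
  ring

/-- A central element gives the whole of `Ω`. -/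
theorem omega_le (hns : ¬ Small QB M) : Cfsg.Omega F ⇑Q ≤ M := by
  rw [omega_eq_El H.nondeg H.five_le_dim]
  refine (Subgroup.closure_le _).2 fun g hg => ?_
  obtain ⟨u, v, h⟩ := hg
  by_cases hu : u = 0
  · have : g = 1 := ext_ap fun x => by
      rw [h.2.2, ap_one, hu, b_zero_right, mul_zero, zero_smul, zero_smul, smul_zero, add_zero, sub_zero,
        sub_zero]
    rw [this]
    exact one_mem _
  obtain ⟨a, b, ha, hb, hne⟩ := H.exists_pure hu
  have ha0 : a ≠ 0 := fun e => hne (by rw [e, ten_zero_left, b_zero_right])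
  have hb0 : b ≠ 0 := fun e => hne (by rw [e, show ten a (0 : β → F) = 0 by ext; simp [ten], b_zero_right])
  obtain ⟨a', ha', haa⟩ := exists_partner H.gA.nd ha ha0
  obtain ⟨b', hb', hbb⟩ := exists_partner H.gB.nd hb hb0
  have ha'0 : a' ≠ 0 := fun e => one_ne_zero (α := F) (by rw [← haa, e, b_zero_right])
  have hb'0 : b' ≠ 0 := fun e => one_ne_zero (α := F) (by rw [← hbb, e, b_zero_right])
  obtain ⟨p, hp⟩ : ∃ p, p = ten a b := ⟨_, rfl⟩
  rw [← hp] at hne
  have hpq : Q p = 0 := by rw [hp, H.q_ten, hb, mul_zero]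
  obtain ⟨f, hf⟩ : ∃ f, f = ten a' b' := ⟨_, rfl⟩
  have hpf : QuadraticMap.polar ⇑Q p f = 1 := by rw [hp, hf, H.polar_ten, haa, hbb, mul_one]
  obtain ⟨t, ht⟩ : ∃ t, t = (QuadraticMap.polar ⇑Q p u)⁻¹ := ⟨_, rfl⟩
  have hpu : QuadraticMap.polar ⇑Q p u ≠ 0 := by rwa [b_comm]
  have hf' : QuadraticMap.polar ⇑Q p (t • u) = 1 := by rw [b_smul_right, ht, inv_mul_cancel₀ hpu]
  obtain ⟨e, he, hef⟩ := exists_move_partner H.nondeg hpq (f := f) (f' := t • u)
    (by rw [hf, H.q_ten, hb', mul_zero]) (by rw [q_smul, h.1, mul_zero]) (hpf.trans hf'.symm) hpf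
  have hpgood : GoodAt Q M p (t • u - f) := by
    rw [hp]
    refine H.good_ten hns ha ha0 hb hb0 ?_
    rw [← hp, b_sub_right, hpf, hf', sub_self]
  have heM : e ∈ M := hpgood.2 1 e (by rwa [one_smul])
  have ht0 : t ≠ 0 := ht ▸ inv_ne_zero hpu
  obtain ⟨s, hs⟩ := exists_siegel H.nondeg (u := t • u) (v := t⁻¹ • v) (by rw [q_smul, h.1, mul_zero])
    (by rw [b_smul_left, b_smul_right, h.2.1, mul_zero, mul_zero])
  have hgs : g = s := by
    obtain ⟨g₀, hg₀⟩ := exists_siegel H.nondeg h.1 (v := t⁻¹ • v) (by rw [b_smul_right, h.2.1, mul_zero])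
    have h2 := siegel_smul hg₀ t hs
    rw [smul_smul, mul_inv_cancel₀ ht0, one_smul] at h2
    exact siegel_unique h h2
  have hfgood := H.good_ten hns ha' ha'0 hb' hb'0 (x := ap e⁻¹ (t⁻¹ • v)) (by
    rw [← hf, ← ap_b e, hef, ap_ap_inv, b_smul_left, b_smul_right, h.2.1, mul_zero, mul_zero])
  rw [← hf] at hfgood
  have h3 := goodAt_conj heM hfgood
  rw [hef, ap_ap_inv] at h3
  rw [hgs]
  exact h3.2 1 s (by rwa [one_smul])

end Hyp

end CfsgLib.Classical.TensorOrthNine
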