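import Cfsg.Agent.Lib.Classical.TensorOrthNine.Axes

set_option autoImplicit false
set_option linter.unusedSectionVars false
set_option linter.style.haveILetI false

/-!
Without central elements every element of the group preserves or exchanges the factors: the dihedral groups
generated by pairs of half-turns leave no other possibility.
-/

namespace CfsgLib.Classical.TensorOrthNine

open Matrix CfsgLib.Classical.TensorMax CfsgLib.Orth
open CfsgLib.Classical.TensorSymp (ten ten_smul_left ten_smul_right ten_add_left ten_sub_left)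
open CfsgLib.Classical.TensorOrth (Gram rk)
open scoped MatrixGroups Kronecker

variable {F : Type*} [Field F] {α : Type} [Fintype α] [DecidableEq α]

namespace Sym

variable [Finite F] {QA QB : QuadraticForm F (α → F)} {JA JB : Matrix α α F}
  {Q : QuadraticForm F (α × α → F)} {M : Subgroup (Grp Q)} (H : Sym QA QB JA JB Q M)
include H

/-- The product of the two half-turns conjugated to another such product, one axis of which is in the group. -/
theorem key (hS : Small QB M) {g ζ₀ ζ' : Grp Q} (hg : g ∈ M) {b d₀ c d : α → F} (hb : QA b ≠ 0)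
    (hd₀ : QA d₀ ≠ 0) (hc : QA c ≠ 0) (hd : QA d ≠ 0) (h₀ : Act ζ₀ (R QA JA b) (R QA JA d₀))
    (hplus : Plus QA JA M c) (h' : Act ζ' (R QA JA c) (R QA JA d)) (hconj : g * ζ₀ * g⁻¹ = ζ') : InH g := by
  obtain ⟨x, hx, hbx, ⟨f₂, hf₂, af₂⟩, -⟩ := H.exists_plus_perp hb
  obtain ⟨e, he, ae⟩ := hplus
  obtain ⟨C', C'0, C'1, hC'⟩ := H.exists_C₂ hb hx hbx
  obtain ⟨D', D'0, hD'⟩ := H.exists_C hd₀
  obtain ⟨C₀, C₀0, hC₀⟩ := H.exists_C hc
  obtain ⟨D₀, D₀0, hD₀⟩ := H.exists_C hd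
  have of₂ : OneFac QA JA f₂ := ⟨x, hx, Or.inl af₂⟩
  have oe : OneFac QA JA e := ⟨c, hc, Or.inl ae⟩
  obtain ⟨e', he'⟩ : ∃ e', e' = g * f₂ * g⁻¹ := ⟨_, rfl⟩
  have e'M : e' ∈ M := he' ▸ M.mul_mem (M.mul_mem hg hf₂) (M.inv_mem hg)
  have e'2 : e' * e' = 1 := by
    rw [he', show g * f₂ * g⁻¹ * (g * f₂ * g⁻¹) = g * (f₂ * f₂) * g⁻¹ by group, H.onefac_sq of₂, mul_one,
      mul_inv_cancel]
  have cfz : f₂ * ζ₀ = ζ₀ * f₂ := by
    obtain ⟨y, -, e1, e2⟩ := H.R_mul_perp hb hx hbx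
    exact H.act_unique (by simpa [e2] using af₂.mul h₀) (by simpa [e1] using h₀.mul af₂)
  have ce' : e' * ζ' = ζ' * e' := by
    rw [he', ← hconj, show g * f₂ * g⁻¹ * (g * ζ₀ * g⁻¹) = g * (f₂ * ζ₀) * g⁻¹ by group, cfz]
    group
  have cez : e * ζ' = ζ' * e := H.act_unique (by simpa using ae.mul h') (by simpa using h'.mul ae)
  have aN : Module.finrank F ↥(eig (val ζ') (-1) ⊓ eig (val e') 1) = 1 := by
    rw [he', ← hconj, finrank_eig_conj_inf, ← sg_true, ← sg_false]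
    rw [← C'0, ← D'0] at h₀
    rw [← C'1] at af₂
    rw [H.finrank_two hC' hD' (H.diag_both hC' hD' h₀) (H.diag_left hC' hD' af₂)]
    decide
  have eN : ∀ s : Bool, Module.finrank F ↥(eig (val ζ') (-1) ⊓ eig (val e) (sg F s)) = 2 := by
    intro s
    rw [← sg_true]
    rw [← C₀0, ← D₀0] at h'
    rw [← C₀0] at ae
    rw [H.finrank_two hC₀ hD₀ (H.diag_both hC₀ hD₀ h') (H.diag_left hC₀ hD₀ ae)]
    cases s <;> decide
  rcases dihedral_cases (H.onefac_sq oe) e'2 with ⟨m, hm⟩ | ⟨m, ζ, hζ, hζ1, hζ2, ζe, ζe', -, -⟩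
  · exfalso
    have hh : Commute (e * e') ζ' := Commute.mul_left cez ce'
    have hz : (e * e') ^ m * ζ' * ((e * e') ^ m)⁻¹ = ζ' := by rw [(hh.pow_left m).eq, mul_inv_cancel_right]
    have := finrank_eig_conj_inf ((e * e') ^ m) ζ' e (-1 : F) 1
    rw [hm, hz, aN] at this
    have h2 := eN false
    rw [sg_false] at h2
    omega
  have ζM : ζ ∈ M := hζ ▸ M.pow_mem (M.mul_mem he e'M) m
  have cζ' : ζ * ζ' = ζ' * ζ := by
    rw [hζ]; exact ((Commute.mul_left cez ce').pow_left m).eq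
  have fin : ∀ z : Grp Q, OneFac QA JA z → e' * z = z * e' → InH g := fun z hz hcz => by
    refine H.inH_of_onefac hS hg of₂ (H.onefac_of_fix e'M e'2 (H.tens_comm hS hz e'M hcz) ?_) he'.symm
    rw [he', finrank_eig_conj, H.finrank_onefac of₂]
  obtain ⟨S, T, aζ, hS1, hT1⟩ := H.invol_class ζM hζ2 (H.tens_comm hS oe ζM ζe.symm)
  have hTT : T * T = 1 := by
    rcases hT1 with rfl | ⟨b', hb', rfl⟩
    exacts [one_mul 1, H.R_sq hb']
  rcases hS1 with rfl | ⟨a, ha, rfl⟩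
  · rcases hT1 with rfl | ⟨b', hb', rfl⟩
    · exact absurd (H.act_unique aζ act_one) hζ1
    · exact fin ζ ⟨b', hb', Or.inr aζ⟩ ζe'
  rcases hT1 with rfl | ⟨b', hb', rfl⟩
  · exact fin ζ ⟨a, ha, Or.inl aζ⟩ ζe'
  have cS : R QA JA a * R QA JA c = R QA JA c * R QA JA a :=
    H.act_left_eq (by simpa using aζ.mul ae)
      (T := R QA JA b') (by rw [← ζe]; simpa using ae.mul aζ) hTT
  have cT : R QA JA b' * R QA JA d = R QA JA d * R QA JA b' := by
    refine H.act_right_eq (aζ.mul h') (by rw [cζ', cS]; exact h'.mul aζ) ?_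
    calc R QA JA a * R QA JA c * (R QA JA a * R QA JA c)
        = R QA JA a * (R QA JA c * R QA JA a) * R QA JA c := by simp only [Matrix.mul_assoc]
      _ = R QA JA a * (R QA JA a * R QA JA c) * R QA JA c := by rw [← cS]
      _ = R QA JA a * R QA JA a * (R QA JA c * R QA JA c) := by simp only [Matrix.mul_assoc]
      _ = 1 := by rw [H.R_sq ha, H.R_sq hc, one_mul]
  have hzz : ∀ {z : F}, ∀ x ∈ eig (val ζ) z, ap ((e * e') ^ m) x = z • x := fun {z} x hx => hζ ▸ hx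
  rcases H.R_comm ha hc cS with hac | hca <;> rcases H.R_comm hb' hd cT with hbd | hdb
  · exfalso
    rw [hac, hbd] at aζ
    obtain rfl := H.act_unique h' aζ
    have hev := eN false
    have hod := eN true
    rw [sg_false] at hev
    rw [sg_true] at hod
    rcases Nat.even_or_odd m with hm | hm
    · obtain ⟨-, h2⟩ := dim_neg_even H.two (H.onefac_sq oe) e'2 (eig_inv ζe) (eig_inv ζe') (hzz (z := -1)) hm
      omega
    · obtain ⟨h1, -⟩ := dim_neg_odd H.two (H.onefac_sq oe) e'2 (eig_inv ζe) (eig_inv ζe') (hzz (z := -1)) hm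
      omega
  · obtain ⟨t, ht, e1, -⟩ := H.R_mul_perp hd hb' hdb
    refine fin (ζ' * ζ) ⟨t, ht, Or.inr ?_⟩ ?_
    · have := h'.mul aζ
      rwa [hac, H.R_sq hc, e1] at this
    · rw [← mul_assoc, ce', mul_assoc, ζe', mul_assoc]
  · obtain ⟨t, ht, e1, -⟩ := H.R_mul_perp hc ha hca
    refine fin (ζ' * ζ) ⟨t, ht, Or.inl ?_⟩ ?_
    · have := h'.mul aζ
      rwa [hbd, H.R_sq hd, e1] at this
    · rw [← mul_assoc, ce', mul_assoc, ζe', mul_assoc]
  exfalso
  obtain ⟨C, rfl, rfl, hC⟩ := H.exists_C₂ hc ha hca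
  obtain ⟨D, rfl, rfl, hD⟩ := H.exists_C₂ hd hb' hdb
  have De := H.diag_left hC hD ae
  have Dz := H.diag_both hC hD aζ
  have Dp := H.diag_both hC hD h'
  rcases Nat.even_or_odd m with hm | hm
  · obtain ⟨h1, -⟩ := dim_neg_even H.two (H.onefac_sq oe) e'2 (eig_inv ζe) (eig_inv ζe') (hzz (z := -1)) hm
    rw [← sg_true, ← sg_false, H.finrank_two hC hD Dz De, H.finrank_two hC hD Dz De] at h1
    revert h1
    decide
  · obtain ⟨hp, -⟩ := dim_pos_odd H.two (H.onefac_sq oe) e'2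
      (W := eig (val ζ') (-1) ⊓ eig (val ζ) 1)
      (fun x hx => ⟨eig_inv cez x hx.1, eig_inv ζe x hx.2⟩)
      (fun x hx => ⟨eig_inv ce' x hx.1, eig_inv ζe' x hx.2⟩) (fun x hx => hzz x hx.2) hm
    obtain ⟨hn, -⟩ := dim_neg_odd H.two (H.onefac_sq oe) e'2
      (W := eig (val ζ') (-1) ⊓ eig (val ζ) (-1))
      (fun x hx => ⟨eig_inv cez x hx.1, eig_inv ζe x hx.2⟩)
      (fun x hx => ⟨eig_inv ce' x hx.1, eig_inv ζe' x hx.2⟩) (fun x hx => hzz x hx.2) hm
    have hsp := finrank_split H.two hζ2 (eig (val ζ') (-1) ⊓ eig (val e') 1)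
      fun x hx => ⟨eig_inv cζ' x hx.1, eig_inv ζe'.symm x hx.2⟩
    rw [inf_right_comm, inf_right_comm (eig (val ζ') (-1)) (eig (val e') 1) (eig (val ζ) (-1)), hp, hn, aN] at hsp
    rw [← sg_true, ← sg_false, H.finrank_three hC hD Dp Dz De, H.finrank_three hC hD Dp Dz De] at hsp
    revert hsp
    decide

/-- Every element preserves or exchanges the factors. -/
theorem inH_all (hS : Small QB M) {g : Grp Q} (hg : g ∈ M) : InH g := by
  obtain ⟨c₀, hc₀⟩ : ∃ c : α → F, QA c ≠ 0 := exists_aniso H.gA.nd (by rw [H.dimA]; omega)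
  obtain ⟨c, hc, -, hplus, r, hr, ar⟩ := H.exists_plus_perp hc₀
  obtain ⟨e, he, ae⟩ := hplus
  have oe : OneFac QA JA e := ⟨c, hc, Or.inl ae⟩
  obtain ⟨f, hf⟩ : ∃ f, f = e * r := ⟨_, rfl⟩
  have hfM : f ∈ M := hf ▸ M.mul_mem he hr
  have af : Act f (R QA JA c) (R QA JA c) := hf ▸ by simpa using ae.mul ar
  have f2 : f * f = 1 := H.invol_of_act af (H.R_sq hc) (H.R_sq hc)
  obtain ⟨e', he'⟩ : ∃ e', e' = g * f * g⁻¹ := ⟨_, rfl⟩
  have e'M : e' ∈ M := he' ▸ M.mul_mem (M.mul_mem hg hfM) (M.inv_mem hg)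
  have e'2 : e' * e' = 1 := by
    rw [he', show g * f * g⁻¹ * (g * f * g⁻¹) = g * (f * f) * g⁻¹ by group, f2, mul_one, mul_inv_cancel]
  have e'5 : Module.finrank F (eig (val e') 1) = 5 := by rw [he', finrank_eig_conj, H.finrank_both hc hc af]
  have finT : Tens (val e') → InH g := fun hT => by
    obtain ⟨p, s, hp, hs, ae'⟩ := H.both_of_fix e'M e'2 hT e'5
    have := H.key hS (g := g⁻¹) (M.inv_mem hg) hp hs hc hc ae' ⟨e, he, ae⟩ af (by rw [he']; group)
    simpa using H.inH_inv this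
  rcases dihedral_cases (H.onefac_sq oe) e'2 with ⟨m, hm⟩ | ⟨m, ζ, hζ, hζ1, hζ2, ζe, ζe', -, hord⟩
  · have := finrank_eig_conj ((e * e') ^ m) e (1 : F)
    rw [hm, e'5, H.finrank_onefac oe] at this
    omega
  have ζM : ζ ∈ M := hζ ▸ M.pow_mem (M.mul_mem he e'M) m
  have finP : ∀ {a d : α → F}, QA a ≠ 0 → QA d ≠ 0 → Act ζ (R QA JA a) (R QA JA d) → Plus QA JA M a → InH g := by
    intro a d ha hd haz hP
    rcases H.key hS e'M ha hd ha hd haz hP haz (by rw [ζe', mul_inv_cancel_right]) with h | h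
    · exact finT h
    · have := H.sw_fix e'M e'2 h
      omega
  obtain ⟨S, T, aζ, hS1, hT1⟩ := H.invol_class ζM hζ2 (H.tens_comm hS oe ζM ζe.symm)
  rcases hS1 with rfl | ⟨a, ha, rfl⟩
  · rcases hT1 with rfl | ⟨d, hd, rfl⟩
    · exact absurd (H.act_unique aζ act_one) hζ1
    · exact finT (H.tens_comm hS ⟨d, hd, Or.inr aζ⟩ e'M ζe')
  rcases hT1 with rfl | ⟨d, hd, rfl⟩
  · exact finT (H.tens_comm hS ⟨a, ha, Or.inl aζ⟩ e'M ζe')
  have cS : R QA JA a * R QA JA c = R QA JA c * R QA JA a :=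
    H.act_left_eq (by simpa using aζ.mul ae) (T := R QA JA d) (by rw [← ζe]; simpa using ae.mul aζ) (H.R_sq hd)
  rcases H.R_comm ha hc cS with hac | hca
  · exact finP ha hd aζ ⟨e, he, hac.symm ▸ ae⟩
  obtain ⟨C, C0, C1, hC⟩ := H.exists_C₂ hc ha hca
  obtain ⟨D, D0, hD⟩ := H.exists_C hd
  rcases Nat.even_or_odd m with hm | hm
  · exfalso
    obtain ⟨h1, -⟩ := dim_neg_even H.two (H.onefac_sq oe) e'2 (W := eig (val ζ) (-1)) (eig_inv ζe) (eig_inv ζe')
      (fun x hx => hζ ▸ hx) hm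
    have Dz := H.diag_both hC hD (k := ζ) (i := 1) (j := 0) (by rw [C1, D0]; exact aζ)
    have De := H.diag_left hC hD (k := e) (i := 0) (by rw [C0]; exact ae)
    rw [← sg_true, ← sg_false, H.finrank_two hC hD Dz De, H.finrank_two hC hD Dz De] at h1
    revert h1
    decide
  obtain ⟨a₂, ha₂, ea₂, ea₂'⟩ := H.R_mul_perp hc ha hca
  obtain ⟨n, hn⟩ : ∃ n, n = e * ζ := ⟨_, rfl⟩
  have an : Act n (R QA JA a₂) (R QA JA d) := hn ▸ by simpa [ea₂] using ae.mul aζ
  have n2 : n * n = 1 := H.invol_of_act an (H.R_sq ha₂) (H.R_sq hd)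
  have hnM : n ∈ M := hn ▸ M.mul_mem he ζM
  obtain ⟨j, hj⟩ := hm
  have hne : n * e' = (e * e') ^ (m + 1) := by
    rw [hn, ζe, mul_assoc, hζ, ← pow_succ]
  have hcj := conj_odd n2 e'2 (m := j) (by
    rw [hne, ← pow_mul, show (m + 1) * (2 * j + 1) = orderOf (e * e') * (j + 1) by rw [hord, hj]; ring, pow_mul,
      pow_orderOf_eq_one, one_pow])
  obtain ⟨k, hk⟩ : ∃ k, k = ((n * e') ^ j)⁻¹ * g := ⟨_, rfl⟩
  have hhM : (n * e') ^ j ∈ M := M.pow_mem (M.mul_mem hnM e'M) j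
  have hkM : k ∈ M := hk ▸ M.mul_mem (M.inv_mem hhM) hg
  have hkf : k * f * k⁻¹ = n := by
    rw [hk, show ((n * e') ^ j)⁻¹ * g * f * (((n * e') ^ j)⁻¹ * g)⁻¹ =
      ((n * e') ^ j)⁻¹ * (g * f * g⁻¹) * (n * e') ^ j by group, ← he']
    conv_lhs => arg 1; arg 2; rw [← hcj]
    group
  have hkH : InH k := by
    have := H.key hS (g := k⁻¹) (M.inv_mem hkM) ha₂ hd hc hc an ⟨e, he, ae⟩ af (by rw [← hkf]; group)
    simpa using H.inH_inv this
  obtain ⟨z, hz⟩ : ∃ z, z = k * e * k⁻¹ := ⟨_, rfl⟩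
  have hzM : z ∈ M := hz ▸ M.mul_mem (M.mul_mem hkM he) (M.inv_mem hkM)
  have oz : OneFac QA JA z := by
    refine H.onefac_of_fix hzM ?_ (hz ▸ H.tens_conj hkH ⟨_, _, ae.tens⟩) (by
      rw [hz, finrank_eig_conj, H.finrank_onefac oe])
    rw [hz, show k * e * k⁻¹ * (k * e * k⁻¹) = k * (e * e) * k⁻¹ by group, H.onefac_sq oe, mul_one, mul_inv_cancel]
  have cef : e * f = f * e := H.act_unique (by simpa using ae.mul af) (by simpa using af.mul ae)
  have czn : z * n = n * z := by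
    rw [hz, ← hkf, show k * e * k⁻¹ * (k * f * k⁻¹) = k * (e * f) * k⁻¹ by group, cef]
    group
  have fzn : Module.finrank F (eig (val (z * n)) 1) = 3 := by
    rw [hz, ← hkf, show k * e * k⁻¹ * (k * f * k⁻¹) = k * (e * f) * k⁻¹ by group, finrank_eig_conj]
    exact H.finrank_onefac ⟨c, hc, Or.inr (by simpa [H.R_sq hc] using ae.mul af)⟩
  refine finP ha hd aζ ?_
  obtain ⟨p, hp, az | az⟩ := oz
  · rcases H.R_comm hp ha₂ (H.act_left_eq (by simpa using az.mul an) (T := R QA JA d)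
      (by rw [czn]; simpa using an.mul az) (H.R_sq hd)) with h | h
    · refine ⟨ζ * (z * n), M.mul_mem ζM (M.mul_mem hzM hnM), ?_⟩
      simpa [h, H.R_sq ha₂, H.R_sq hd] using aζ.mul (az.mul an)
    · exfalso
      obtain ⟨t, ht, -, et⟩ := H.R_mul_perp ha₂ hp h
      have := H.finrank_both (k := z * n) ht hd (by simpa [et] using az.mul an)
      omega
  · rcases H.R_comm hp hd (H.act_right_eq (by simpa using az.mul an) (S := R QA JA a₂)
      (by rw [czn]; simpa using an.mul az) (H.R_sq ha₂)) with h | h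
    · refine ⟨ζ * z, M.mul_mem ζM hzM, ?_⟩
      simpa [h, H.R_sq hd] using aζ.mul az
    · exfalso
      obtain ⟨t, ht, -, et⟩ := H.R_mul_perp hd hp h
      have := H.finrank_both (k := z * n) ha₂ ht (by simpa [et] using az.mul an)
      omega

/-- An element of `Ω` which neither preserves nor exchanges the factors. -/
theorem exists_not_inH : ∃ g ∈ Cfsg.Omega F ⇑Q, ¬ InH g := by
  obtain ⟨a₀, ha₀, ha0⟩ := H.gA.exists_sing (by rw [H.cardA])
  obtain ⟨a₁, a₂, hA⟩ := H.exists_frameA ha₀ ha0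
  obtain ⟨w, hw, hw0⟩ := H.exists_singB
  obtain ⟨z, v, hf⟩ := H.exists_frameB hw hw0
  obtain ⟨g, hg⟩ := exists_siegel H.nondeg (u := ten a₀ w) (v := ten a₁ w) (H.q_ten_zero hw)
    (by rw [H.polar_ten, b_self_zero hw, mul_zero])
  refine ⟨g, by rw [omega_eq_El H.nondeg H.five_le_dim]; exact siegel_mem_El hg, ?_⟩
  have hc := H.siegel_cen hf hg
  obtain ⟨C, hC⟩ : ∃ C, C = sk JA a₁ a₀ := ⟨_, rfl⟩
  rw [← hC] at hc
  have hw1 : ∀ a, a = ctr JB w (ap g (ten a z)) := fun a => by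
    simp [hc.ez, ctr_add, H.ctr_ten, hf.wz, b_self_zero hw]
  rintro (hT | ⟨S, T, hST⟩)
  · obtain ⟨S, T, hST⟩ := H.exists_actT hT
    have e1 : ∀ a, a = QuadraticMap.polar ⇑QB w (T *ᵥ z) • S *ᵥ a := fun a => by
      have := hw1 a
      rwa [hST, H.ctr_ten] at this
    have e2 : ∀ a, C *ᵥ a = QuadraticMap.polar ⇑QB z (T *ᵥ z) • S *ᵥ a := fun a => by
      have := congrArg (ctr JB z) (hc.ez a)
      rw [hST] at this
      simpa [ctr_add, H.ctr_ten, b_comm z w, hf.wz, b_self_zero hf.qz] using this.symm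
    have hk : QuadraticMap.polar ⇑QB w (T *ᵥ z) ≠ 0 := fun k0 => ha0 (by rw [e1 a₀, k0, zero_smul])
    have hs : S *ᵥ a₂ = (QuadraticMap.polar ⇑QB w (T *ᵥ z))⁻¹ • a₂ := by
      conv_rhs => rw [e1 a₂]
      rw [smul_smul, inv_mul_cancel₀ hk, one_smul]
    have h := congrArg (QuadraticMap.polar ⇑QA a₁) (e2 a₂)
    rw [hs, hC, H.sk_mulVec, b_sub_right, b_smul_right, b_smul_right, b_smul_right, b_smul_right, hA.p02,
      b_comm a₁ a₂, hA.p21, b_comm a₁ a₀, hA.p01, b_self] at h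
    exact mul_ne_zero H.two hA.q1 (by linear_combination h)
  · obtain ⟨u, hu⟩ : ∃ u, u = S *ᵥ z := ⟨_, rfl⟩
    have e1 : ∀ a, a = QuadraticMap.polar ⇑QB w (T *ᵥ a) • u := fun a => by
      have := hw1 a
      rwa [hST, H.ctr_ten, ← hu] at this
    have h := hA.p02
    rw [e1 a₀, e1 a₂, b_smul_left, b_smul_right, b_self] at h
    have h0 := hA.q0
    rw [e1 a₀, q_smul, mul_eq_zero, mul_eq_zero, or_self] at h0
    rcases h0 with h0 | h0
    · exact ha0 (by rw [e1 a₀, h0, zero_smul])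
    · rw [h0] at h
      simp at h

/-- The group is the stabiliser or the whole of `Ω`. -/
theorem dichotomy : (∀ g ∈ M, InH g) ∨ M = Cfsg.Omega F ⇑Q := by
  by_cases hS : Small QB M
  · exact Or.inl fun g hg => H.inH_all hS hg
  · exact Or.inr (le_antisymm H.le (H.omega_le hS))

end Sym

end CfsgLib.Classical.TensorOrthNine
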