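import Cfsg.Agent.Lib.Classical.TensorOrthNine.Dihedral
import Cfsg.Agent.Lib.Classical.OrthTwoRank

set_option autoImplicit false
set_option linter.unusedSectionVars false
set_option linter.style.haveILetI false

/-!
The involutions preserving or exchanging the factors, and the dimensions of their eigenspaces.
-/

namespace CfsgLib.Classical.TensorOrthNine

open Matrix CfsgLib.Classical.TensorMax CfsgLib.Orth
open CfsgLib.Classical.TensorSymp (ten kron_mulVec_ten single_eq_ten ten_smul_left ten_smul_right)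
open CfsgLib.Classical.TensorOrth (Gram rk)
open scoped MatrixGroups Kronecker

variable {F : Type*} [Field F] {α : Type} [Fintype α] [DecidableEq α]

section conj

variable [Finite F] {γ : Type} [Fintype γ] [DecidableEq γ] {Q : QuadraticForm F (γ → F)}

theorem eig_conj (g k : Grp Q) (s : F) :
    eig (val (g * k * g⁻¹)) s = (eig (val k) s).map (val g).mulVecLin := by
  refine le_antisymm (fun x hx => ?_) ?_
  · refine ⟨ap g⁻¹ x, ?_, ap_ap_inv g x⟩
    show ap k (ap g⁻¹ x) = _
    have h : ap (g * k * g⁻¹) x = s • x := hx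
    rw [ap_mul, ap_mul] at h
    exact ap_inj g (by rw [h, ap_smul, ap_ap_inv])
  · rintro _ ⟨y, hy, rfl⟩
    show ap (g * k * g⁻¹) (ap g y) = s • ap g y
    rw [ap_mul, ap_mul, ap_inv_ap, show ap k y = s • y from hy, ap_smul]

theorem finrank_eig_conj (g k : Grp Q) (s : F) :
    Module.finrank F (eig (val (g * k * g⁻¹)) s) = Module.finrank F (eig (val k) s) := by
  rw [eig_conj]
  exact ((Submodule.equivMapOfInjective (val g).mulVecLin (fun _ _ h => ap_inj g h) _).finrank_eq).symm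

theorem finrank_eig_conj_inf (g k l : Grp Q) (s t : F) :
    Module.finrank F ↥(eig (val (g * k * g⁻¹)) s ⊓ eig (val (g * l * g⁻¹)) t) =
      Module.finrank F ↥(eig (val k) s ⊓ eig (val l) t) := by
  rw [eig_conj, eig_conj, ← Submodule.map_inf (val g).mulVecLin (fun _ _ h => ap_inj g h)]
  exact ((Submodule.equivMapOfInjective (val g).mulVecLin (fun _ _ h => ap_inj g h) _).finrank_eq).symm

/-- An eigenspace is invariant under what commutes with the element. -/
theorem eig_inv {k e : Grp Q} (h : e * k = k * e) {s : F} : ∀ x ∈ eig (val k) s, ap e x ∈ eig (val k) s :=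
  fun x hx => by
    show ap k (ap e x) = s • ap e x
    rw [← ap_mul, ← h, ap_mul, show ap k x = s • x from hx, ap_smul]

end conj

namespace Sym

variable [Finite F] {QA QB : QuadraticForm F (α → F)} {JA JB : Matrix α α F}
  {Q : QuadraticForm F (α × α → F)} {M : Subgroup (Grp Q)} (H : Sym QA QB JA JB Q M)
include H

theorem act_unique {k l : Grp Q} {S T : Matrix α α F} (hk : Act k S T) (hl : Act l S T) : k = l :=
  Subtype.ext (Units.ext (hk.tens.trans hl.tens.symm))

theorem invol_of_act {k : Grp Q} {S T : Matrix α α F} (hk : Act k S T) (hS : S * S = 1) (hT : T * T = 1) :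
    k * k = 1 := H.act_unique (by simpa [hS, hT] using hk.mul hk) act_one

theorem polA_key {k : Grp Q} {S T : Matrix α α F} (hk : Act k S T) (u u' v v' : α → F) :
    QuadraticMap.polar ⇑QA (S *ᵥ u) (S *ᵥ u') * QuadraticMap.polar ⇑QA (T *ᵥ v) (T *ᵥ v') =
      QuadraticMap.polar ⇑QA u u' * QuadraticMap.polar ⇑QA v v' := by
  obtain ⟨c, hc, h⟩ := H.prop
  have hp : ∀ x y, QuadraticMap.polar ⇑QA x y = c * QuadraticMap.polar ⇑QB x y := fun x y => by
    simp only [QuadraticMap.polar, h]; ring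
  have e := ap_b k (ten u v) (ten u' v')
  rw [hk, hk, H.polar_ten, H.polar_ten] at e
  rw [hp (T *ᵥ v), hp v]
  linear_combination c * e

/-- Involutive isometries of determinant one. -/
theorem iso_invol {S : Matrix α α F}
    (hS : ∀ u v, QuadraticMap.polar ⇑QA (S *ᵥ u) (S *ᵥ v) = QuadraticMap.polar ⇑QA u v) (h2S : S * S = 1)
    (hd : S.det = 1) : S = 1 ∨ ∃ c, QA c ≠ 0 ∧ S = R QA JA c := by
  have hsum := finrank_eig_add H.two h2S
  rw [H.cardA] at hsum
  have hdet := det_invol H.two h2S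
  rw [hd] at hdet
  have h11 : (1 : F) ≠ -1 := fun e => H.two (by linear_combination e)
  obtain ⟨n, hn⟩ : ∃ n, n = Module.finrank F (eig S (-1)) := ⟨_, rfl⟩
  rw [← hn] at hdet hsum
  rcases (by omega : n = 0 ∨ n = 1 ∨ n = 2 ∨ n = 3) with h | h | h | h
  · left
    rw [eq_of_eig (X := S) (s := 1) (by rw [H.cardA]; omega), one_smul]
  · rw [h, pow_one] at hdet; exact absurd hdet h11
  swap
  · rw [h] at hdet; exact absurd hdet (by norm_num; exact h11)
  right
  have hp1 : Module.finrank F (eig S 1) = 1 := by omega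
  obtain ⟨v, hv, hv0⟩ := Submodule.exists_mem_ne_zero_of_ne_bot (p := eig S 1) fun e => by
    rw [e, finrank_bot] at hp1; omega
  have hall := (finrank_eq_one_iff_of_nonzero' (⟨v, hv⟩ : eig S 1)
    (fun e => hv0 (congrArg Subtype.val e))).1 hp1
  have hv' : S *ᵥ v = v := by simpa using mem_eig.1 hv
  have dec : ∀ x, ∃ l : F, x + S *ᵥ x = l • v := fun x => by
    obtain ⟨l, hl⟩ := hall ⟨x + S *ᵥ x, by
      rw [mem_eig, Matrix.mulVec_add, Matrix.mulVec_mulVec, h2S, Matrix.one_mulVec, one_smul, add_comm]⟩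
    exact ⟨l, (congrArg Subtype.val hl).symm⟩
  have hpol : ∀ x l, x + S *ᵥ x = l • v → 2 * QuadraticMap.polar ⇑QA v x = l * (2 * QA v) := fun x l hl => by
    have e := congrArg (QuadraticMap.polar ⇑QA v) hl
    rw [b_add_right, b_smul_right, b_self] at e
    have h' := hS v x
    rw [hv'] at h'
    linear_combination e - h'
  have hq : QA v ≠ 0 := fun hq => hv0 (H.gA.nd v fun x => by
    obtain ⟨l, hl⟩ := dec x
    have := hpol x l hl
    rw [hq, mul_zero, mul_zero, mul_eq_zero] at this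
    exact this.resolve_left H.two)
  refine ⟨v, hq, Matrix.ext_iff_mulVec.2 fun x => ?_⟩
  obtain ⟨l, hl⟩ := dec x
  rw [H.R_mulVec, show QuadraticMap.polar ⇑QA v x / QA v = l by
    rw [div_eq_iff hq]
    refine mul_left_cancel₀ H.two ?_
    linear_combination hpol x l hl, ← hl, add_sub_cancel_left]

/-- Involutions preserving the factors are products of half-turns of them. -/
theorem invol_class {k : Grp Q} (hk : k ∈ M) (hk2 : k * k = 1) (hT : Tens (val k)) :
    ∃ S T : Matrix α α F, Act k S T ∧ (S = 1 ∨ ∃ c, QA c ≠ 0 ∧ S = R QA JA c) ∧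
      (T = 1 ∨ ∃ c, QA c ≠ 0 ∧ T = R QA JA c) := by
  obtain ⟨S, T, h⟩ := H.exists_actT hT
  obtain ⟨c, hc⟩ : ∃ c : α → F, QA c ≠ 0 := exists_aniso H.gA.nd (by rw [H.dimA]; omega)
  have hcc : QuadraticMap.polar ⇑QA c c ≠ 0 := by rw [b_self]; exact mul_ne_zero H.two hc
  obtain ⟨μ, hμ⟩ : ∃ μ, μ = QuadraticMap.polar ⇑QA (T *ᵥ c) (T *ᵥ c) := ⟨_, rfl⟩
  have hμ0 : μ ≠ 0 := fun e => mul_ne_zero hcc hcc (by rw [← H.polA_key h c c c c, ← hμ, e, mul_zero])
  obtain ⟨ν, hν⟩ : ∃ ν, ν = QuadraticMap.polar ⇑QA c c / μ := ⟨_, rfl⟩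
  have hν0 : ν ≠ 0 := hν ▸ div_ne_zero hcc hμ0
  have hSν : ∀ u v, QuadraticMap.polar ⇑QA (S *ᵥ u) (S *ᵥ v) = ν * QuadraticMap.polar ⇑QA u v := fun u v => by
    have e := H.polA_key h u v c c
    rw [← hμ] at e
    rw [hν]
    field_simp
    linear_combination e
  obtain ⟨s, hs⟩ : IsSquare ν := by
    have e : Sᵀ * JA * S = ν • JA := Matrix.ext fun i j => by
      have h := hSν (Pi.single i 1) (Pi.single j 1)
      rw [H.gA.pol, H.gA.pol, Matrix.mulVec_single_one, Matrix.mulVec_single_one, Matrix.mulVec_single_one,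
        single_dotProduct, one_mul] at h
      rw [Matrix.mul_assoc, Matrix.mul_apply, Matrix.smul_apply, smul_eq_mul]
      exact h
    have h := congrArg Matrix.det e
    rw [Matrix.det_mul, Matrix.det_mul, Matrix.det_transpose, Matrix.det_smul, H.cardA] at h
    have h' : S.det * S.det = ν ^ 3 := mul_right_cancel₀ H.gA.isUnit_det.ne_zero (by linear_combination h)
    exact ⟨S.det / ν, by field_simp; linear_combination -h'⟩
  have hs0 : s ≠ 0 := fun e => hν0 (by rw [hs, e, mul_zero])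
  obtain ⟨S₀, hS₀⟩ : ∃ S₀, S₀ = s⁻¹ • S := ⟨_, rfl⟩
  have iS₀ : ∀ u v, QuadraticMap.polar ⇑QA (S₀ *ᵥ u) (S₀ *ᵥ v) = QuadraticMap.polar ⇑QA u v := fun u v => by
    rw [hS₀, Matrix.smul_mulVec, Matrix.smul_mulVec, b_smul_left, b_smul_right, hSν, hs]
    field_simp
  have dS₀ : S₀.det * S₀.det = 1 := by
    have e : S₀ᵀ * JA * S₀ = JA := Matrix.ext fun i j => by
      have h := iS₀ (Pi.single i 1) (Pi.single j 1)
      rw [H.gA.pol, H.gA.pol, Matrix.mulVec_single_one, Matrix.mulVec_single_one, Matrix.mulVec_single_one,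
        single_dotProduct, one_mul] at h
      rw [Matrix.mul_assoc, Matrix.mul_apply]
      exact h
    have h := congrArg Matrix.det e
    rw [Matrix.det_mul, Matrix.det_mul, Matrix.det_transpose] at h
    exact mul_right_cancel₀ H.gA.isUnit_det.ne_zero (by linear_combination h)
  obtain ⟨ε, hε, hεd⟩ : ∃ ε : F, ε * ε = 1 ∧ S₀.det = ε := ⟨_, dS₀, rfl⟩
  have hε0 : ε ≠ 0 := fun e => one_ne_zero (α := F) (by rw [← hε, e, mul_zero])
  obtain ⟨A, hA⟩ : ∃ A, A = ε • S₀ := ⟨_, rfl⟩
  obtain ⟨B, hB⟩ : ∃ B, B = (ε * s) • T := ⟨_, rfl⟩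
  have hAB : Act k A B := fun a b => by
    rw [h, hA, hB, hS₀, Matrix.smul_mulVec, Matrix.smul_mulVec, Matrix.smul_mulVec, ten_smul_left, ten_smul_right,
      ten_smul_left, smul_smul, smul_smul, show ε * (ε * s) * s⁻¹ = 1 by field_simp; linear_combination hε,
      one_smul]
  have iA : ∀ u v, QuadraticMap.polar ⇑QA (A *ᵥ u) (A *ᵥ v) = QuadraticMap.polar ⇑QA u v := fun u v => by
    rw [hA, Matrix.smul_mulVec, Matrix.smul_mulVec, b_smul_left, b_smul_right, iS₀]
    linear_combination QuadraticMap.polar ⇑QA u v * hε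
  have iB : ∀ u v, QuadraticMap.polar ⇑QA (B *ᵥ u) (B *ᵥ v) = QuadraticMap.polar ⇑QA u v := fun u v => by
    have e := H.polA_key hAB c c u v
    rw [iA] at e
    exact mul_left_cancel₀ hcc e
  have dA : A.det = 1 := by
    rw [hA, Matrix.det_smul, H.cardA, hεd]
    linear_combination (ε * ε + 1) * hε
  have hkk : ∀ u v, ten ((A * A) *ᵥ u) ((B * B) *ᵥ v) = ten u v := fun u v => by
    rw [← Matrix.mulVec_mulVec, ← Matrix.mulVec_mulVec, ← hAB, ← hAB, ← ap_mul, hk2, ap_one]
  obtain ⟨kk, hkk'⟩ := Function.ne_iff.1 (H.aniso_ne hc)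
  obtain ⟨l, hl⟩ : ∃ l, l = c kk / ((B * B) *ᵥ c) kk := ⟨_, rfl⟩
  have hB0 : ((B * B) *ᵥ c) kk ≠ 0 := fun e => by
    have := congrFun (hkk c c) (kk, kk)
    change ((A * A) *ᵥ c) kk * ((B * B) *ᵥ c) kk = c kk * c kk at this
    rw [e, mul_zero] at this
    exact mul_ne_zero hkk' hkk' this.symm
  have hAl : ∀ u, (A * A) *ᵥ u = l • u := fun u => funext fun i => by
    have := congrFun (hkk u c) (i, kk)
    change ((A * A) *ᵥ u) i * ((B * B) *ᵥ c) kk = u i * c kk at this
    rw [Pi.smul_apply, smul_eq_mul, hl, div_mul_eq_mul_div, eq_div_iff hB0, this, mul_comm]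
  have hl1 : l = 1 := by
    have e : QuadraticMap.polar ⇑QA ((A * A) *ᵥ c) ((A * A) *ᵥ c) = QuadraticMap.polar ⇑QA c c := by
      rw [← Matrix.mulVec_mulVec, iA, iA]
    rw [hAl, b_smul_left, b_smul_right] at e
    have ll : l * l = 1 := mul_right_cancel₀ hcc (by linear_combination e)
    have hd := congrArg Matrix.det (Matrix.ext_iff_mulVec.2 fun u => by
      rw [hAl, Matrix.smul_mulVec, Matrix.one_mulVec] : A * A = l • 1)
    rw [Matrix.det_mul, dA, Matrix.det_smul, Matrix.det_one, H.cardA] at hd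
    linear_combination -hd - l * ll
  have hAA : A * A = 1 := Matrix.ext_iff_mulVec.2 fun u => by rw [hAl, hl1, one_smul, Matrix.one_mulVec]
  have hBB : B * B = 1 := Matrix.ext_iff_mulVec.2 fun v => by
    rw [Matrix.one_mulVec]
    refine ten_cancel_left (H.aniso_ne hc) ?_
    have := hkk c v
    rwa [hAA, Matrix.one_mulVec] at this
  have dB : B.det = 1 := by
    have hd := CfsgLib.Orth.TwoRank.det_omega (H.le hk)
    rw [show ((k : GL (α × α) F)).1 = A ⊗ₖ B from hAB.tens, Matrix.det_kronecker, dA, one_pow, one_mul, H.cardA] at hd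
    have t1 : B.det * B.det = 1 := by rw [← Matrix.det_mul, hBB, Matrix.det_one]
    linear_combination hd - B.det * t1
  exact ⟨A, B, hAB, H.iso_invol iA hAA dA, H.iso_invol iB hBB dB⟩

/-- An involution exchanging the factors fixes at most three dimensions. -/
theorem sw_fix {k : Grp Q} (hk : k ∈ M) (hk2 : k * k = 1) (hs : Sw k) :
    Module.finrank F (eig (val k) 1) ≤ 3 := by
  haveI := H.nonempty_left
  obtain ⟨S, T, h⟩ := hs
  obtain ⟨w, hw, hw0⟩ := H.exists_singB
  obtain ⟨kk, hkk⟩ := Function.ne_iff.1 hw0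
  have hsq : ∀ u v, ten ((S * T) *ᵥ u) ((T * S) *ᵥ v) = ten u v := fun u v => by
    rw [← Matrix.mulVec_mulVec, ← Matrix.mulVec_mulVec, ← h, ← h, ← ap_mul, hk2, ap_one]
  obtain ⟨l, hl⟩ : ∃ l, l = w kk / ((T * S) *ᵥ w) kk := ⟨_, rfl⟩
  have hB0 : ((T * S) *ᵥ w) kk ≠ 0 := fun e => by
    have := congrFun (hsq w w) (kk, kk)
    change ((S * T) *ᵥ w) kk * ((T * S) *ᵥ w) kk = w kk * w kk at this
    rw [e, mul_zero] at this
    exact mul_ne_zero hkk hkk this.symm
  have hAl : ∀ u, (S * T) *ᵥ u = l • u := fun u => funext fun i => by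
    have := congrFun (hsq u w) (i, kk)
    change ((S * T) *ᵥ u) i * ((T * S) *ᵥ w) kk = u i * w kk at this
    rw [Pi.smul_apply, smul_eq_mul, hl, div_mul_eq_mul_div, eq_div_iff hB0, this, mul_comm]
  have hl0 : l ≠ 0 := hl ▸ div_ne_zero hkk hB0
  obtain ⟨T', hT'⟩ : ∃ T' : Matrix α α F, T' = l⁻¹ • S := ⟨_, rfl⟩
  have hT'T : T' * T = 1 := Matrix.ext_iff_mulVec.2 fun u => by
    rw [hT', Matrix.smul_mul, Matrix.smul_mulVec, hAl, smul_smul, inv_mul_cancel₀ hl0, one_smul, Matrix.one_mulVec]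
  obtain ⟨Φ, hΦ⟩ : ∃ Φ : Matrix (α × α) (α × α) F, Φ = (1 : Matrix α α F) ⊗ₖ T := ⟨_, rfl⟩
  obtain ⟨Ψ, hΨ⟩ : ∃ Ψ : Matrix (α × α) (α × α) F, Ψ = (1 : Matrix α α F) ⊗ₖ T' := ⟨_, rfl⟩
  have hΨΦ : Ψ * Φ = 1 := by rw [hΨ, hΦ, ← Matrix.mul_kronecker_mul, hT'T, one_mul, Matrix.one_kronecker_one]
  obtain ⟨P, hP⟩ : ∃ P : Matrix (α × α) (α × α) F, P = Equiv.Perm.permMatrix F (Equiv.prodComm α α) := ⟨_, rfl⟩
  have hPt : ∀ a b : α → F, P *ᵥ ten a b = ten b a := fun a b => by
    rw [hP, Matrix.permMatrix_mulVec]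
    funext p
    show a p.2 * b p.1 = b p.1 * a p.2
    exact mul_comm _ _
  have hkΦ : val k * Φ = l • (Φ * P) := Matrix.ext_of_mulVec_single fun p => by
    obtain ⟨i, j⟩ := p
    rw [single_eq_ten, ← Matrix.mulVec_mulVec, Matrix.smul_mulVec, ← Matrix.mulVec_mulVec, hPt, hΦ, kron_mulVec_ten,
      kron_mulVec_ten, Matrix.one_mulVec, Matrix.one_mulVec]
    show ap k (ten _ _) = _
    rw [h, Matrix.mulVec_mulVec, hAl, ten_smul_left]
  have hdP : P.det = -1 := by
    obtain ⟨ι⟩ : Nonempty (α ≃ Fin 3) := ⟨Fintype.equivFinOfCardEq H.cardA⟩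
    rw [hP, Matrix.det_permutation, Equiv.Perm.sign_eq_sign_of_equiv (Equiv.prodComm α α)
      (Equiv.prodComm (Fin 3) (Fin 3)) (ι.prodCongr ι) (fun p => rfl),
      show Equiv.Perm.sign (Equiv.prodComm (Fin 3) (Fin 3)) = -1 by decide]
    norm_num
  have hl1 : l = -1 := by
    have hd := congrArg Matrix.det hkΦ
    have hdΦ : Φ.det ≠ 0 := fun e => by
      have := congrArg Matrix.det hΨΦ
      rw [Matrix.det_mul, e, mul_zero, Matrix.det_one] at this
      exact zero_ne_one this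
    rw [Matrix.det_mul, CfsgLib.Orth.TwoRank.det_omega (H.le hk), Matrix.det_smul, Matrix.det_mul, hdP,
      Fintype.card_prod, H.cardA] at hd
    have h9 : l ^ (3 * 3) = -1 := mul_right_cancel₀ hdΦ (by linear_combination hd)
    have hTS : T * S = l • 1 := by
      have := mul_eq_one_comm.1 hT'T
      rw [hT', Matrix.mul_smul] at this
      rw [← this, smul_smul, mul_inv_cancel₀ hl0, one_smul]
    have ll : l * l = 1 := by
      have := congrFun (hsq w w) (kk, kk)
      change ((S * T) *ᵥ w) kk * ((T * S) *ᵥ w) kk = w kk * w kk at this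
      rw [hAl, hTS, Matrix.smul_mulVec, Matrix.one_mulVec, Pi.smul_apply, smul_eq_mul] at this
      exact mul_right_cancel₀ (mul_ne_zero hkk hkk) (by linear_combination this)
    linear_combination h9 - l * ((l * l) ^ 3 + (l * l) ^ 2 + l * l + 1) * ll
  obtain ⟨ι⟩ : Nonempty (α ≃ Fin 3) := ⟨Fintype.equivFinOfCardEq H.cardA⟩
  let L : eig (val k) 1 →ₗ[F] (Fin 3 → F) :=
    (LinearMap.funLeft F F fun n : Fin 3 =>
      ((ι.symm (![0, 0, 1] n), ι.symm (![1, 2, 2] n)) : α × α)) ∘ₗ Ψ.mulVecLin ∘ₗ (eig (val k) 1).subtype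
  have hL : Function.Injective L := (injective_iff_map_eq_zero L).2 fun x hx => by
    obtain ⟨y, hy⟩ : ∃ y, y = Ψ *ᵥ (x : α × α → F) := ⟨_, rfl⟩
    have hxy : (x : α × α → F) = Φ *ᵥ y := by
      rw [hy, Matrix.mulVec_mulVec, mul_eq_one_comm.1 hΨΦ, Matrix.one_mulVec]
    have hswap : ∀ p, y (p.2, p.1) = -y p := by
      intro p
      have h1 : val k *ᵥ (x : α × α → F) = x := by simpa using mem_eig.1 x.2
      rw [hxy, Matrix.mulVec_mulVec, hkΦ, hl1, Matrix.smul_mulVec, ← Matrix.mulVec_mulVec] at h1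
      have h2 := congrArg (Ψ *ᵥ ·) h1
      simp only [Matrix.mulVec_smul, Matrix.mulVec_mulVec _ Ψ Φ, hΨΦ, Matrix.one_mulVec] at h2
      rw [hP, Matrix.permMatrix_mulVec] at h2
      have h3 : (-1 : F) * y (p.2, p.1) = y p := congrFun h2 p
      linear_combination -h3
    have h0 := fun n => congrFun hx n
    simp only [L, LinearMap.comp_apply, LinearMap.funLeft_apply, Matrix.mulVecLin_apply, Submodule.coe_subtype,
      ← hy, Pi.zero_apply] at h0
    have hdiag : ∀ a, y (a, a) = 0 := fun a => by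
      have := hswap (a, a)
      exact (mul_eq_zero.1 (by linear_combination this : (2 : F) * y (a, a) = 0)).resolve_left H.two
    have hall : ∀ i j : Fin 3, y (ι.symm i, ι.symm j) = 0 := by
      have e01 := h0 0; have e02 := h0 1; have e12 := h0 2
      simp only [Matrix.cons_val_zero, Matrix.cons_val_one, Matrix.cons_val] at e01 e02 e12
      intro i j
      fin_cases i <;> fin_cases j <;>
        first
        | exact hdiag _
        | exact e01
        | exact e02
        | exact e12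
        | (have := hswap (ι.symm 0, ι.symm 1); rw [e01, neg_zero] at this; exact this)
        | (have := hswap (ι.symm 0, ι.symm 2); rw [e02, neg_zero] at this; exact this)
        | (have := hswap (ι.symm 1, ι.symm 2); rw [e12, neg_zero] at this; exact this)
    have hy0 : y = 0 := funext fun ⟨a, b⟩ => by simpa using hall (ι a) (ι b)
    exact Subtype.ext (by rw [hxy, hy0, Matrix.mulVec_zero]; rfl)
  have := LinearMap.finrank_le_finrank_of_injective hL
  rwa [Module.finrank_fin_fun] at this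

/-- Commuting half-turns are equal or have orthogonal axes. -/
theorem R_comm {a c : α → F} (ha : QA a ≠ 0) (hc : QA c ≠ 0)
    (h : R QA JA a * R QA JA c = R QA JA c * R QA JA a) :
    R QA JA a = R QA JA c ∨ QuadraticMap.polar ⇑QA c a = 0 := by
  by_cases h0 : QuadraticMap.polar ⇑QA c a = 0
  · exact Or.inr h0
  left
  have e := congrArg (· *ᵥ c) h
  simp only [← Matrix.mulVec_mulVec, H.R_self hc] at e
  obtain ⟨y, hy⟩ : ∃ y, y = R QA JA a *ᵥ c := ⟨_, rfl⟩
  rw [← hy, H.R_mulVec c y] at e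
  have hk : QuadraticMap.polar ⇑QA a c / QA a ≠ 0 := div_ne_zero (by rwa [b_comm]) ha
  obtain ⟨t, ht⟩ : ∃ t, t = QuadraticMap.polar ⇑QA c y / QA c - 2 := ⟨_, rfl⟩
  have e' : (t + 2) • c = (2 : F) • y := by
    rw [ht, sub_add_cancel]
    linear_combination (norm := module) -e
  rw [hy, H.R_mulVec a c] at e'
  have ea : (t + 4) • c = (2 * (QuadraticMap.polar ⇑QA a c / QA a)) • a := by
    linear_combination (norm := module) e'
  have ht4 : t + 4 ≠ 0 := fun h4 => by
    rw [h4, zero_smul, eq_comm, smul_eq_zero] at ea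
    exact ea.elim (mul_ne_zero H.two hk) (H.aniso_ne ha)
  have hac : c = ((t + 4)⁻¹ * (2 * (QuadraticMap.polar ⇑QA a c / QA a))) • a := by
    rw [← smul_smul, ← ea, smul_smul, inv_mul_cancel₀ ht4, one_smul]
  rw [hac, H.R_smul (mul_ne_zero (inv_ne_zero ht4) (mul_ne_zero H.two hk)) ha]

end Sym

end CfsgLib.Classical.TensorOrthNine
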