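import Cfsg.Agent.Lib.Classical.TensorOrthNine.Setup

set_option autoImplicit false
set_option linter.unusedSectionVars false

/-!
The elements fixing `F^α ⊗ w` pointwise and trivial on the orthogonal modulo it: their levels at the
anisotropic vector of a frame, and their commutators.
-/

namespace CfsgLib.Classical.TensorOrthNine

open Matrix CfsgLib.Classical.TensorMax CfsgLib.Orth
open CfsgLib.Classical.TensorSymp (adj ten kc_mulVec kron_mulVec_ten ten_add_left ten_add_right ten_sub_left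
  ten_sub_right ten_smul_left ten_smul_right)
open CfsgLib.Classical.TensorOrth (Gram rk)
open scoped MatrixGroups Kronecker

variable {F : Type*} [Field F] {α β : Type} [Fintype α] [DecidableEq α] [Fintype β] [DecidableEq β]

section defs

variable [Finite F] {Q : QuadraticForm F (α × β → F)}

/-- The level `E` at `v`. -/
structure Lev (w v : β → F) (h : Grp Q) (E : Matrix α α F) : Prop where
  fix : ∀ a, ap h (ten a w) = ten a w
  e1 : ∀ a, ap h (ten a v) = ten a v + ten (E *ᵥ a) w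

/-- A central element. -/
structure Cen (w z v : β → F) (h : Grp Q) (C : Matrix α α F) : Prop extends Lev w v h 0 where
  ez : ∀ a, ap h (ten a z) = ten a z + ten (C *ᵥ a) w

/-- The skew matrix of two vectors. -/
def sk (JA : Matrix α α F) (x y : α → F) : Matrix α α F := rk JA x y - rk JA y x

/-- The level of the image of `F^α ⊗ z` along `w`. -/
def cm (JB : Matrix β β F) (z : β → F) (h : Grp Q) : Matrix α α F := kr α (JB *ᵥ z) * val h * kc α z

theorem cm_mulVec (JB : Matrix β β F) (z : β → F) (h : Grp Q) (a : α → F) :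
    cm JB z h *ᵥ a = ctr JB z (ap h (ten a z)) := by
  rw [cm, ← Matrix.mulVec_mulVec, ← Matrix.mulVec_mulVec, kc_mulVec]
  rfl

theorem Lev.mul {w v : β → F} {g h : Grp Q} {E G : Matrix α α F} (hg : Lev w v g E)
    (hh : Lev w v h G) : Lev w v (g * h) (E + G) :=
  ⟨fun a => by rw [ap_mul, hh.fix, hg.fix],
    fun a => by rw [ap_mul, hh.e1, ap_add, hg.e1, hg.fix, Matrix.add_mulVec, ten_add_left]; abel⟩

theorem Lev.inv {w v : β → F} {g : Grp Q} {E : Matrix α α F} (hg : Lev w v g E) : Lev w v g⁻¹ (-E) :=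
  ⟨fun a => ap_inj g (by rw [ap_ap_inv, hg.fix]),
    fun a => ap_inj g (by
      rw [ap_ap_inv, ap_add, hg.e1, hg.fix, Matrix.neg_mulVec, ← neg_one_smul F (E *ᵥ a), ten_smul_left]
      module)⟩

theorem lev_one (w v : β → F) : Lev w v (1 : Grp Q) (0 : Matrix α α F) :=
  ⟨fun a => ap_one _, fun a => by rw [ap_one, Matrix.zero_mulVec]; ext; simp [ten]⟩

theorem ten_zero_left (b : β → F) : ten (0 : α → F) b = 0 := by ext; simp [ten]

theorem Cen.mul {w z v : β → F} {g h : Grp Q} {C D : Matrix α α F} (hg : Cen w z v g C)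
    (hh : Cen w z v h D) : Cen w z v (g * h) (C + D) where
  toLev := by simpa using hg.toLev.mul hh.toLev
  ez a := by rw [ap_mul, hh.ez, ap_add, hg.ez, hg.fix, Matrix.add_mulVec, ten_add_left]; abel

theorem cen_one (w z v : β → F) : Cen w z v (1 : Grp Q) (0 : Matrix α α F) :=
  ⟨lev_one _ _, fun a => by rw [ap_one, Matrix.zero_mulVec, ten_zero_left, add_zero]⟩

end defs

namespace Hyp

variable [Finite F] {QA : QuadraticForm F (α → F)} {QB : QuadraticForm F (β → F)} {JA : Matrix α α F}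
  {JB : Matrix β β F} {Q : QuadraticForm F (α × β → F)} {M : Subgroup (Grp Q)} (H : Hyp QA QB JA JB Q M)
  {w z v : β → F} (hf : FrameB QB w z v)
include H

theorem sk_mulVec (x y a : α → F) :
    sk JA x y *ᵥ a = QuadraticMap.polar ⇑QA y a • x - QuadraticMap.polar ⇑QA x a • y := by
  rw [sk, Matrix.sub_mulVec, H.gA.rk_mulVec, H.gA.rk_mulVec]

theorem adj_sk (x y : α → F) : adj JA (sk JA x y) = -sk JA x y := by
  rw [sk, H.gA.adj_sub, H.gA.adj_rk, H.gA.adj_rk, neg_sub]

include hf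

theorem ctr_w {h : Grp Q} (hw : ∀ a, ap h (ten a w) = ten a w) (a : α → F) :
    ctr JB w (ap h (ten a z)) = a := by
  refine sub_eq_zero.1 (H.gA.nd _ fun b => ?_)
  have e : QuadraticMap.polar ⇑Q (ap h (ten a z)) (ten b w) = QuadraticMap.polar ⇑QA a b := by
    conv_lhs => rw [← hw b]
    rw [ap_b, H.polar_ten, b_comm z w, hf.wz, mul_one]
  rw [H.polar_ctr] at e
  rw [b_sub_left, e, sub_self]

theorem lev_z {h : Grp Q} {E : Matrix α α F} (hl : Lev w v h E) (a : α → F) :
    ap h (ten a z) = ten (cm JB z h *ᵥ a) w + ten a z - (2 * QB v)⁻¹ • ten (adj JA E *ᵥ a) v := by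
  have key : ctr JB v (ap h (ten a z)) = -(adj JA E *ᵥ a) := by
    refine sub_eq_zero.1 (H.gA.nd _ fun b => ?_)
    have e : QuadraticMap.polar ⇑Q (ap h (ten a z)) (ten b v) = -QuadraticMap.polar ⇑QA (adj JA E *ᵥ a) b := by
      rw [show ten b v = ap h (ten b v) - ap h (ten (E *ᵥ b) w) by rw [hl.e1, hl.fix, add_sub_cancel_right],
        b_sub_right, ap_b, ap_b, H.polar_ten, H.polar_ten, hf.z1, b_comm z w, hf.wz,
        b_comm (adj JA E *ᵥ a) b, H.gA.pol_adj]
      ring
    rw [H.polar_ctr] at e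
    rw [sub_neg_eq_add, b_add_left, e]
    ring
  conv_lhs => rw [H.expand hf (ap h (ten a z)), H.ctr_w hf hl.fix, ← cm_mulVec, key]
  rw [← neg_one_smul F (adj JA E *ᵥ a), ten_smul_left]
  module

theorem cen_of_lev {h : Grp Q} (hl : Lev w v h (0 : Matrix α α F)) : Cen w z v h (cm JB z h) := by
  refine ⟨hl, fun a => ?_⟩
  rw [H.lev_z hf hl, H.gA.adj_zero, Matrix.zero_mulVec, ten_zero_left, smul_zero, sub_zero, add_comm]

theorem cen_skew {h : Grp Q} {C : Matrix α α F} (hc : Cen w z v h C) : adj JA C = -C := by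
  refine Matrix.ext_iff_mulVec.2 fun a => sub_eq_zero.1 (H.gA.nd _ fun b => ?_)
  have e := ap_b h (ten a z) (ten b z)
  simp only [hc.ez, b_add_left, b_add_right, H.polar_ten, hf.wz, b_comm z w, b_self_zero hf.qz,
    b_self_zero hf.qw, mul_zero, mul_one, zero_add, add_zero] at e
  rw [Matrix.neg_mulVec, sub_neg_eq_add, b_add_left, b_comm (adj JA C *ᵥ a), H.gA.pol_adj]
  linear_combination e

theorem cen_unique {g h : Grp Q} {C : Matrix α α F} (hg : Cen w z v g C) (hh : Cen w z v h C) :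
    g = h :=
  H.ext_grp hf (fun a => by rw [hg.fix, hh.fix]) (fun a => by rw [hg.ez, hh.ez])
    (fun a => by rw [hg.e1, hh.e1])

/-- The commutator of two elements with levels. -/
theorem comm_cen {g h : Grp Q} {E G : Matrix α α F} (hg : Lev w v g E) (hh : Lev w v h G) :
    Cen w z v ((h * g)⁻¹ * (g * h)) ((2 * QB v)⁻¹ • (G * adj JA E - E * adj JA G)) := by
  refine ⟨?_, fun a => ?_⟩
  · have := ((hh.mul hg).inv).mul (hg.mul hh)
    rwa [show -(G + E) + (E + G) = (0 : Matrix α α F) by abel] at this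
  refine ap_inj (h * g) ?_
  rw [ap_mul (h * g)⁻¹, ap_ap_inv]
  simp only [ap_mul, ap_add, ap_sub, ap_smul, H.lev_z hf hg, H.lev_z hf hh, hg.fix, hh.fix, hg.e1,
    hh.e1, Matrix.add_mulVec, Matrix.smul_mulVec, Matrix.sub_mulVec, ← Matrix.mulVec_mulVec, ten_add_left,
    ten_sub_left, ten_smul_left]
  module

/-- Conjugation by a product of a scaling of the pair and an isometry of the first factor. -/
theorem lev_conj {h k : Grp Q} {E : Matrix α α F} (hl : Lev w v h E) {t : F} (ht : t ≠ 0)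
    {S : Grp QA} (kw : ∀ a, ap k (ten a w) = t • ten (ap S a) w) (k1 : ∀ a, ap k (ten a v) = ten (ap S a) v) :
    Lev w v (k * h * k⁻¹) (t • (val S * E * val S⁻¹)) := by
  have iw : ∀ a, ap k⁻¹ (ten a w) = t⁻¹ • ten (ap S⁻¹ a) w := fun a => ap_inj k (by
    rw [ap_ap_inv, ap_smul, kw, ap_ap_inv, smul_smul, inv_mul_cancel₀ ht, one_smul])
  have i1 : ∀ a, ap k⁻¹ (ten a v) = ten (ap S⁻¹ a) v := fun a => ap_inj k (by rw [ap_ap_inv, k1, ap_ap_inv])
  refine ⟨fun a => ?_, fun a => ?_⟩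
  · rw [ap_mul, ap_mul, iw, ap_smul, hl.fix, ap_smul, kw, ap_ap_inv, smul_smul, inv_mul_cancel₀ ht, one_smul]
  · rw [ap_mul, ap_mul, i1, hl.e1, ap_add, k1, ap_ap_inv, kw, Matrix.smul_mulVec, ten_smul_left]
    simp only [ap, Matrix.mulVec_mulVec, Matrix.mul_assoc]

theorem cen_conj {h k : Grp Q} {C : Matrix α α F} (hc : Cen w z v h C) {t : F} (ht : t ≠ 0)
    {S : Grp QA} (kw : ∀ a, ap k (ten a w) = t • ten (ap S a) w) (kz : ∀ a, ap k (ten a z) = t⁻¹ • ten (ap S a) z)
    (k1 : ∀ a, ap k (ten a v) = ten (ap S a) v) :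
    Cen w z v (k * h * k⁻¹) ((t * t) • (val S * C * val S⁻¹)) := by
  have iz : ∀ a, ap k⁻¹ (ten a z) = t • ten (ap S⁻¹ a) z := fun a => ap_inj k (by
    rw [ap_ap_inv, ap_smul, kz, ap_ap_inv, smul_smul, mul_inv_cancel₀ ht, one_smul])
  refine ⟨by simpa using H.lev_conj hf hc.toLev ht kw k1, fun a => ?_⟩
  rw [ap_mul, ap_mul, iz, ap_smul, hc.ez, ap_smul, ap_add, kz, ap_ap_inv, kw, smul_add, smul_smul, smul_smul,
    mul_inv_cancel₀ ht, one_smul, Matrix.smul_mulVec, ten_smul_left]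
  simp only [ap, Matrix.mulVec_mulVec, Matrix.mul_assoc]

/-- A transformation at a point of `F^α ⊗ w` towards `F^α ⊗ v`. -/
theorem siegel_lev {a b : α → F} {g : Grp Q} (hg : IsSiegel (ten a w) (ten b v) g) :
    Lev w v g ((-(2 * QB v)) • rk JA a b) := by
  have bs := b_self (Q := QB)
  refine ⟨fun c => ?_, fun c => ?_⟩
  · rw [hg.2.2]
    simp [H.polar_ten, b_self_zero hf.qw, hf.w1]
  · rw [hg.2.2]
    simp only [H.polar_ten, b_comm v w, hf.w1, mul_zero, zero_smul, add_zero, sub_zero, bs, Matrix.smul_mulVec,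
      H.gA.rk_mulVec, ten_smul_left, b_comm b c]
    module

/-- The long root transformations in `F^α ⊗ w`. -/
theorem siegel_cen {a b : α → F} {g : Grp Q} (hg : IsSiegel (ten a w) (ten b w) g) :
    Cen w z v g (sk JA b a) := by
  refine ⟨⟨fun c => ?_, fun c => ?_⟩, fun c => ?_⟩
  · rw [hg.2.2]; simp [H.polar_ten, b_self_zero hf.qw]
  · rw [hg.2.2]; simp [H.polar_ten, b_comm v w, hf.w1, ten_zero_left]
  · rw [hg.2.2, H.q_ten, hf.qw, H.sk_mulVec]
    simp only [H.polar_ten, b_comm z w, hf.wz, mul_one, mul_zero, zero_mul, zero_smul, sub_zero, ten_sub_left,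
      ten_smul_left, b_comm a c, b_comm b c]
    abel

/-- The transformation of the second factor at `w` towards `v`. -/
theorem exists_right : ∃ g ∈ M, Lev w v g ((-(2 * QB v)) • (1 : Matrix α α F)) := by
  obtain ⟨T, hT⟩ := exists_siegel H.gB.nd hf.qw hf.w1
  obtain ⟨g, hg, e⟩ := H.exists_elB (siegel_mem_El hT)
  refine ⟨g, hg, fun a => ?_, fun a => ?_⟩
  · rw [e, siegel_fix hT (b_self_zero hf.qw) hf.w1]
  · rw [e, hT.2.2, b_comm v w, hf.w1, b_self, Matrix.smul_mulVec, Matrix.one_mulVec, ten_smul_left]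
    ext p
    simp [ten]
    ring

end Hyp

end CfsgLib.Classical.TensorOrthNine
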