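import Cfsg.Agent.Lib.HallHigman.Layer
import Cfsg.Agent.Lib.Char.DegreesBelowPrime

set_option autoImplicit false
set_option linter.unusedSectionVars false
set_option linter.style.haveILetI false

/-!
A unipotent element of degree three normalising a linear group of order prime to the characteristic `p ≥ 5`
centralises it, by the theorem of Hall and Higman.
-/

namespace CfsgLib.Classical.TensorOrthNine

open Matrix

theorem commute_of_unipotent {F : Type*} [Field F] {γ : Type} [Fintype γ] [DecidableEq γ] [Nonempty γ]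
    {G : Type*} [Group G] [Finite G] (ρ : G →* Matrix γ γ F) (hρ : Function.Injective ρ) {p : ℕ}
    [hp : Fact p.Prime] [CharP F p] (hp5 : 5 ≤ p) {K : Subgroup G} (hK : ¬ p ∣ Nat.card K) {u : G}
    (hu : u ^ p = 1) (h3 : (ρ u - 1) ^ 3 = 0) (hn : u ∈ Subgroup.normalizer (K : Set G)) :
    ∀ k ∈ K, u * k = k * u := by
  intro k₀ hk₀
  by_cases hu1 : u = 1
  · rw [hu1, one_mul, mul_one]
  obtain ⟨H, hH⟩ : ∃ H : Subgroup G, H = K ⊔ Subgroup.zpowers u := ⟨_, rfl⟩
  have hKH : K ≤ H := hH ▸ le_sup_left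
  have huH : u ∈ H := hH ▸ Subgroup.mem_sup_right (Subgroup.mem_zpowers u)
  have hHn : H ≤ Subgroup.normalizer (K : Set G) :=
    hH ▸ sup_le Subgroup.le_normalizer ((Subgroup.zpowers_le).2 hn)
  obtain ⟨N, hN⟩ : ∃ N : Subgroup H, N = K.subgroupOf H := ⟨_, rfl⟩
  haveI hNn : N.Normal := hN ▸ Subgroup.normal_subgroupOf_of_le_normalizer hHn
  have hNc : Nat.card N = Nat.card K := hN ▸ Nat.card_congr (Subgroup.subgroupOfEquivOfLe hKH).toEquiv
  have hNcop : (Nat.card N).Coprime p := hNc ▸ ((hp.out.coprime_iff_not_dvd).2 hK).symm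
  have dec : ∀ x : H, ∃ y ∈ N, ∃ i : ℤ, x = y * ⟨u, huH⟩ ^ i := by
    intro x
    have hx : (x : G) ∈ (K ⊔ Subgroup.zpowers u : Subgroup G) := hH ▸ x.2
    rw [← SetLike.mem_coe, Subgroup.coe_mul_of_right_le_normalizer_left K _ ((Subgroup.zpowers_le).2 hn)] at hx
    obtain ⟨y, hy, w, hw, e⟩ := hx
    obtain ⟨i, rfl⟩ := Subgroup.mem_zpowers_iff.1 hw
    exact ⟨⟨y, hKH hy⟩, hN ▸ Subgroup.mem_subgroupOf.2 hy, i, Subtype.ext e.symm⟩
  have hQ : IsPGroup p (H ⧸ N) := by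
    intro q
    obtain ⟨x, rfl⟩ := QuotientGroup.mk'_surjective N q
    obtain ⟨y, hy, i, rfl⟩ := dec x
    refine ⟨1, ?_⟩
    have hU : (⟨u, huH⟩ : H) ^ p = 1 := Subtype.ext (by simpa using hu)
    rw [map_mul, show QuotientGroup.mk' N y = 1 from (QuotientGroup.eq_one_iff y).2 hy, one_mul, pow_one,
      ← map_pow, ← _root_.zpow_natCast, ← _root_.zpow_mul, mul_comm, _root_.zpow_mul, _root_.zpow_natCast, hU, _root_.one_zpow, map_one]
  have hsol : Cfsg.IsPSolvable p H := CfsgLib.PSolvable.isPSolvable_of_quotient N (Or.inr hNcop) (by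
    refine CfsgLib.PSolvable.isPSolvable_of_quotient ⊤ (Or.inl fun x => ?_) ?_
    · obtain ⟨k, hk⟩ := hQ x
      exact ⟨k, Subtype.ext (by simpa using hk)⟩
    · haveI : Subsingleton ((H ⧸ N) ⧸ (⊤ : Subgroup (H ⧸ N))) := QuotientGroup.subsingleton_quotient_top
      exact ⟨0, fun _ => ⊥, rfl, Subsingleton.elim _ _, monotone_const, fun _ => inferInstance, fun i => i.elim0⟩)
  let σ : H →* Module.End F (γ → F) :=
    ((Matrix.toLinAlgEquiv' (R := F) (n := γ)).toRingEquiv.toRingHom.toMonoidHom.comp ρ).comp H.subtype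
  have hσ : Function.Injective σ :=
    ((Matrix.toLinAlgEquiv' (R := F) (n := γ)).injective.comp hρ).comp H.subtype_injective
  have hord : orderOf (⟨u, huH⟩ : H) = p ^ 1 := by
    rw [pow_one]
    exact orderOf_eq_prime (Subtype.ext (by simpa using hu)) fun e => hu1 (congrArg Subtype.val e)
  have hσ3 : (σ ⟨u, huH⟩ - 1) ^ 3 = 0 := by
    show ((Matrix.toLinAlgEquiv' (R := F) (n := γ)) (ρ u) - 1) ^ 3 = 0
    rw [← map_one (Matrix.toLinAlgEquiv' (R := F) (n := γ)), ← map_sub, ← map_pow, h3, map_zero]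
  have hP : Cfsg.pCore p H ≠ ⊥ := fun hO => by
    rcases CfsgLib.HallHigman.theorem_b_field σ hσ hsol hO _ 1 hord 3 hσ3 with h | h
    · rw [pow_one] at h; omega
    · obtain ⟨n₀, q, m, a1, a2, -, -, -, -, h⟩ := h
      obtain rfl : n₀ = 1 := by omega
      rw [Nat.sub_self, pow_zero, one_mul, pow_one] at h
      omega
  haveI := CfsgLib.Fitting.pCore_normal (G := H) p
  have hPg := CfsgLib.Fitting.pCore_isPGroup (G := H) p
  obtain ⟨x, hx, hx1⟩ := (Subgroup.bot_or_exists_ne_one _).resolve_left hP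
  obtain ⟨n, hxn⟩ := hPg ⟨x, hx⟩
  have hxn' : x ^ p ^ n = 1 := by simpa using congrArg Subtype.val hxn
  have hdis : Disjoint (Cfsg.pCore p H) N := by
    rw [disjoint_iff]
    refine Subgroup.eq_bot_of_card_le _ ?_
    obtain ⟨j, hj⟩ := (hPg.to_le (inf_le_left : Cfsg.pCore p H ⊓ N ≤ Cfsg.pCore p H)).exists_card_eq
    have hd : Nat.card ↥(Cfsg.pCore p H ⊓ N) ∣ Nat.card N := Subgroup.card_dvd_of_le inf_le_right
    rw [hj] at hd ⊢
    rcases Nat.eq_zero_or_pos j with rfl | hj0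
    · simp
    · exact absurd (Nat.dvd_trans (dvd_pow_self p hj0.ne') hd) (fun h => hK (hNc ▸ h))
  have hcomm : ∀ y ∈ N, x * y = y * x := fun y hy =>
    (Subgroup.commute_of_normal_of_disjoint _ _ inferInstance inferInstance hdis x y hx hy).eq
  obtain ⟨y, hy, i, hxy⟩ := dec x
  obtain ⟨v, hv⟩ : ∃ v : H, v = ⟨u, huH⟩ := ⟨_, rfl⟩
  rw [← hv] at hxy
  have hvp : v ^ (p : ℤ) = 1 := by rw [hv, _root_.zpow_natCast]; exact Subtype.ext (by simpa using hu)
  have hpi : ¬ (p : ℤ) ∣ i := by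
    rintro ⟨l, rfl⟩
    rw [_root_.zpow_mul, hvp, _root_.one_zpow, mul_one] at hxy
    exact hx1 (hdis.le_bot (⟨hx, hxy ▸ hy⟩ : x ∈ Cfsg.pCore p H ⊓ N))
  have hy1 : y = 1 := by
    have hvy : v ^ i = y⁻¹ * x := by rw [hxy, inv_mul_cancel_left]
    have hc : Commute y⁻¹ x := (Commute.inv_left (hcomm y hy).symm)
    have hn1 : 1 ≤ n := Nat.one_le_iff_ne_zero.2 fun e => hx1 (by rw [← pow_one x, ← pow_zero p, ← e, hxn'])
    have h1 : (v ^ i) ^ p ^ n = 1 := by
      obtain ⟨n', rfl⟩ := Nat.exists_eq_add_of_le hn1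
      rw [pow_add, pow_one, pow_mul, ← _root_.zpow_natCast (v ^ i) p, ← _root_.zpow_mul, mul_comm, _root_.zpow_mul, hvp, _root_.one_zpow,
        one_pow]
    rw [hvy, hc.mul_pow, hxn', mul_one, inv_pow, inv_eq_one] at h1
    have h2 : orderOf y ∣ p ^ n := orderOf_dvd_of_pow_eq_one h1
    have h3 : orderOf y ∣ Nat.card N := N.orderOf_dvd_natCard hy
    exact orderOf_eq_one_iff.1 (Nat.eq_one_of_dvd_coprimes (hNcop.pow_right n) h3 h2)
  rw [hy1, one_mul] at hxy
  obtain ⟨a, b, hab⟩ : ∃ a b : ℤ, i * a + (p : ℤ) * b = 1 := by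
    have : IsCoprime i (p : ℤ) := ((Nat.prime_iff_prime_int.1 hp.out).coprime_iff_not_dvd.2 hpi).symm
    obtain ⟨a, b, h⟩ := this
    exact ⟨a, b, by linear_combination h⟩
  have hva : v = x ^ a := by
    rw [hxy, ← _root_.zpow_mul]
    conv_lhs => rw [← _root_.zpow_one v, ← hab, _root_.zpow_add, _root_.zpow_mul (a := v) (m := (p:ℤ)), hvp, _root_.one_zpow, mul_one]
  have hk' : (⟨k₀, hKH hk₀⟩ : H) ∈ N := hN ▸ Subgroup.mem_subgroupOf.2 hk₀
  have := (Commute.zpow_left (hcomm _ hk' : Commute x _) a).eq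
  rw [← hva, hv] at this
  exact congrArg Subtype.val this

end CfsgLib.Classical.TensorOrthNine
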