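import Cfsg.Agent.Lib.Classical.TensorOrthNine.Inv
import Cfsg.Agent.Lib.Classical.TensorOrthNine.Unipotent

set_option autoImplicit false
set_option linter.unusedSectionVars false

/-!
Without central elements, an element mapping one anisotropic `a ⊗ F^β` onto another is a Kronecker product.
-/

namespace CfsgLib.Classical.TensorOrthNine

open Matrix CfsgLib.Classical.TensorMax CfsgLib.Orth
open CfsgLib.Classical.TensorSymp (adj ten kc_mulVec kron_mulVec_ten ten_add_left ten_add_right ten_sub_left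
  ten_sub_right ten_smul_left ten_smul_right)
open CfsgLib.Classical.TensorOrth (Gram rk)
open scoped MatrixGroups Kronecker

variable {F : Type*} [Field F] {α β : Type} [Fintype α] [DecidableEq α] [Fintype β] [DecidableEq β]

/-- The action is that of an isometry of the second factor. -/
def ActsB {QB : QuadraticForm F (β → F)} {Q : QuadraticForm F (α × β → F)} (k : Grp Q) (T : Grp QB) : Prop :=
  ∀ (a : α → F) (y : β → F), ap k (ten a y) = ten a (ap T y)

theorem ActsB.mul {QB : QuadraticForm F (β → F)} {Q : QuadraticForm F (α × β → F)} {k k' : Grp Q} {T T' : Grp QB}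
    (h : ActsB k T) (h' : ActsB k' T') : ActsB (k * k') (T * T') := fun a y => by rw [ap_mul, h', h, ap_mul]

theorem ActsB.inv {QB : QuadraticForm F (β → F)} {Q : QuadraticForm F (α × β → F)} {k : Grp Q} {T : Grp QB}
    (h : ActsB k T) : ActsB k⁻¹ T⁻¹ := fun a y => ap_inj k (by rw [ap_ap_inv, h, ap_ap_inv])

namespace Hyp

variable [Finite F] {QA : QuadraticForm F (α → F)} {QB : QuadraticForm F (β → F)} {JA : Matrix α α F}
  {JB : Matrix β β F} {Q : QuadraticForm F (α × β → F)} {M : Subgroup (Grp Q)} (H : Hyp QA QB JA JB Q M)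
include H

theorem tens_actsB {k : Grp Q} {T : Grp QB} (h : ActsB k T) : Tens (val k) := by
  refine ⟨1, val T, Matrix.ext_iff_mulVec.2 fun x => ?_⟩
  obtain ⟨w, hw, hw0⟩ := H.exists_singB
  obtain ⟨z, v, hf⟩ := H.exists_frameB hw hw0
  have e : ∀ a y, val k *ᵥ ten a y = ((1 : Matrix α α F) ⊗ₖ val T) *ᵥ ten a y := fun a y => by
    rw [kron_mulVec_ten, Matrix.one_mulVec]
    exact h a y
  exact congrArg (· *ᵥ x) (H.ext_frame hf (fun a => e a _) (fun a => e a _) fun a => e a _)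

/-- Singular lines of the second factor are conjugate under root elements. -/
theorem exists_move_w {w₀ w : β → F} (h₀ : QB w₀ = 0) (h₀' : w₀ ≠ 0) (hw : QB w = 0) (hw0 : w ≠ 0) :
    ∃ T ∈ El QB, ∃ c : F, c ≠ 0 ∧ ap T w₀ = c • w := by
  by_cases hy : QuadraticMap.polar ⇑QB w₀ w = 0
  · obtain ⟨c, rfl⟩ := H.noPlane w₀ w h₀ hw hy h₀'
    have hc : c ≠ 0 := fun e => hw0 (by rw [e, zero_smul])
    exact ⟨1, (El QB).one_mem, c⁻¹, inv_ne_zero hc, by rw [ap_one, smul_smul, inv_mul_cancel₀ hc, one_smul]⟩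
  obtain ⟨u', hu'⟩ : ∃ u', u' = (QuadraticMap.polar ⇑QB w₀ w)⁻¹ • w := ⟨_, rfl⟩
  have qu' : QB u' = 0 := by rw [hu', q_smul, hw, mul_zero]
  have bu' : QuadraticMap.polar ⇑QB w₀ u' = 1 := by rw [hu', b_smul_right, inv_mul_cancel₀ hy]
  obtain ⟨n, hn⟩ := H.exists_frame_pair h₀ qu' bu'
  obtain ⟨T, hT, c, hc, ec⟩ := exists_move_line H.gB.nd h₀ qu' bu' hn.w1 hn.z1 hn.q1
  exact ⟨T, hT, c * (QuadraticMap.polar ⇑QB w₀ w)⁻¹, mul_ne_zero hc (inv_ne_zero hy),
    by rw [ec, hu', smul_smul]⟩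

/-- An element mapping `F^α ⊗ w` onto `F^α ⊗ w'` is a Kronecker product. -/
theorem tens_of_map (hS : Small QB M) {g : Grp Q} (hg : g ∈ M) {w w' : β → F} (hw : QB w = 0) (hw0 : w ≠ 0)
    (hw' : QB w' = 0) (hw'0 : w' ≠ 0) (h : ∀ a, ∃ a', ap g (ten a w) = ten a' w') : Tens (val g) := by
  obtain ⟨z, v, hf⟩ := H.exists_frameB hw hw0
  obtain ⟨T, hT, c, hc, ec⟩ := H.exists_move_w hw' hw'0 hw hw0
  obtain ⟨x, hx, ex⟩ := H.exists_elB hT
  obtain ⟨A, hA⟩ : ∃ A : Matrix α α F, A = kr α (JB *ᵥ z) * val (x * g) * kc α w := ⟨_, rfl⟩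
  have h1 : ∀ a, ap (x * g) (ten a w) = ten (A *ᵥ a) w := fun a => by
    obtain ⟨a', ha'⟩ := h a
    have e : A *ᵥ a = ctr JB z (ap (x * g) (ten a w)) := by
      rw [hA, ← Matrix.mulVec_mulVec, ← Matrix.mulVec_mulVec, kc_mulVec]
      rfl
    rw [e, ap_mul, ha', ex, ec, ten_smul_right, ctr_smul, H.ctr_ten, b_comm z w, hf.wz, one_smul, ten_smul_left]
  have h2 := H.tens_of_stab hf hS (M.mul_mem hx hg) h1
  have h3 := H.tens_actsB (k := x⁻¹) (T := T⁻¹) (ActsB.inv ex)
  have := tens_mul h3 h2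
  rwa [show val x⁻¹ * val (x * g) = val g from
    congrArg (fun y : Grp Q => val y) (inv_mul_cancel_left x g)] at this

/-- The fixed points of a root element of the second factor. -/
theorem fix_siegel {w z v : β → F} (hf : FrameB QB w z v) {k : Grp Q} {T : Grp QB}
    (hT : IsSiegel w v T) (hk : ActsB k T) :
    (∀ x, ap k x = x → x = ten (ctr JB z x) w) ∧ ∀ a, ap k (ten a w) = ten a w := by
  have tw : ap T w = w := siegel_fix hT (b_self_zero hf.qw) hf.w1
  refine ⟨fun x hx => ?_, fun a => by rw [hk, tw]⟩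
  have t1 : ap T v = v - (2 * QB v) • w := by
    rw [hT.2.2, b_comm v w, hf.w1, b_self]; module
  have tz : ap T z = z + v - QB v • w := by
    rw [hT.2.2, b_comm z w, hf.wz, hf.z1]; module
  have e1 := mul_ne_zero H.two hf.q1
  conv_lhs at hx => rw [H.expand hf x]
  conv_rhs at hx => rw [H.expand hf x]
  rw [ap_add, ap_add, ap_smul, hk, hk, hk, tw, t1, tz] at hx
  have hd : ten (ctr JB w x) v - QB v • ten (ctr JB w x) w - ten (ctr JB v x) w = 0 := by
    simp only [ten_add_right, ten_sub_right, ten_smul_right] at hx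
    have h := sub_eq_zero.2 hx
    rw [← h]
    have := H.two
    have := hf.q1
    match_scalars <;> field_simp <;> ring
  have h1 := congrArg (ctr JB v) hd
  simp only [ctr_sub, ctr_smul, H.ctr_ten, b_comm v w, hf.w1, zero_smul, smul_zero, sub_zero, b_self] at h1
  rw [show ctr JB v (0 : α × β → F) = 0 from Matrix.mulVec_zero _, smul_eq_zero] at h1
  have hw0 := h1.resolve_left e1
  have h2 := congrArg (ctr JB z) hd
  simp only [ctr_sub, ctr_smul, H.ctr_ten, hf.z1, b_comm z w, hf.wz, one_smul, zero_smul, hw0, smul_zero,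
    sub_zero, zero_sub] at h2
  rw [show ctr JB z (0 : α × β → F) = 0 from Matrix.mulVec_zero _, neg_eq_zero] at h2
  conv_lhs => rw [H.expand hf x, hw0, h2]
  simp [ten_zero_left]

/-- A root element of the second factor has degree three. -/
theorem siegel_cube {w z v : β → F} (hf : FrameB QB w z v) {k : Grp Q} {T : Grp QB}
    (hT : IsSiegel w v T) (hk : ActsB k T) : (val k - 1) ^ 3 = 0 := by
  have tw : ap T w = w := siegel_fix hT (b_self_zero hf.qw) hf.w1
  have t1 : ap T v = v - (2 * QB v) • w := by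
    rw [hT.2.2, b_comm v w, hf.w1, b_self]; module
  have tz : ap T z = z + v - QB v • w := by
    rw [hT.2.2, b_comm z w, hf.wz, hf.z1]; module
  have nw : ∀ a, (val k - 1) *ᵥ ten a w = 0 := fun a => by
    rw [Matrix.sub_mulVec, Matrix.one_mulVec, show val k *ᵥ ten a w = ten a w from (hk a w).trans (by rw [tw]),
      sub_self]
  have nv : ∀ a, (val k - 1) *ᵥ ten a v = (-(2 * QB v)) • ten a w := fun a => by
    rw [Matrix.sub_mulVec, Matrix.one_mulVec, show val k *ᵥ ten a v = ten a (ap T v) from hk a v, t1,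
      ten_sub_right, ten_smul_right]
    module
  have nz : ∀ a, (val k - 1) *ᵥ ten a z = ten a v - QB v • ten a w := fun a => by
    rw [Matrix.sub_mulVec, Matrix.one_mulVec, show val k *ᵥ ten a z = ten a (ap T z) from hk a z, tz,
      ten_sub_right, ten_add_right, ten_smul_right]
    abel
  refine H.ext_frame hf (fun a => ?_) (fun a => ?_) fun a => ?_
  all_goals rw [pow_succ, pow_two, ← Matrix.mulVec_mulVec, ← Matrix.mulVec_mulVec, Matrix.zero_mulVec]
  · simp only [nw, Matrix.mulVec_zero]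
  · simp only [nz, nw, nv, Matrix.mulVec_sub, Matrix.mulVec_smul, smul_zero, sub_zero]
  · simp only [nv, nw, Matrix.mulVec_smul, smul_zero, Matrix.mulVec_zero]

/-- The root elements of the second factor at a singular point form an elementary abelian group. -/
theorem exists_u {p : ℕ} [CharP F p] {w : β → F} (hw : QB w = 0) :
    ∃ U : Subgroup (Grp Q), U ≤ M ∧
      (∀ k ∈ U, ∃ (T : Grp QB) (v : β → F), IsSiegel w v T ∧ ActsB k T) ∧
      (∀ (T : Grp QB) (v : β → F), IsSiegel w v T → ∃ k ∈ U, ActsB k T) ∧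
      IsMulCommutative U ∧ ∀ k ∈ U, k ^ p = 1 := by
  let U : Subgroup (Grp Q) :=
    { carrier := {k | k ∈ M ∧ ∃ (T : Grp QB) (v : β → F), IsSiegel w v T ∧ ActsB k T}
      mul_mem' := fun ⟨hk, T, v, hT, e⟩ ⟨hk', T', v', hT', e'⟩ =>
        ⟨M.mul_mem hk hk', T * T', v + v', siegel_mul hT hT', e.mul e'⟩
      one_mem' := ⟨M.one_mem, 1, 0, siegel_one hw, fun a y => by rw [ap_one, ap_one]⟩
      inv_mem' := fun {k} ⟨hk, T, v, hT, e⟩ => by
        obtain ⟨T', hT'⟩ := exists_siegel H.gB.nd hw (v := -v)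
          (by rw [← neg_one_smul F v, b_smul_right, hT.2.1, mul_zero])
        have h := siegel_mul hT hT'
        rw [add_neg_cancel] at h
        refine ⟨M.inv_mem hk, T⁻¹, -v, ?_, e.inv⟩
        rw [inv_eq_of_mul_eq_one_right (siegel_unique h (siegel_one hw))]
        exact hT' }
  refine ⟨U, fun k hk => hk.1, fun k hk => hk.2, fun T v hT => ?_, ⟨⟨fun ⟨k, hk, T, v, hT, e⟩ ⟨k', hk', T', v', hT', e'⟩ => ?_⟩⟩, ?_⟩
  · obtain ⟨x, hx, ex⟩ := H.exists_elB (siegel_mem_El hT)
    exact ⟨x, ⟨hx, T, v, hT, ex⟩, ex⟩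
  · refine Subtype.ext (H.ext_left fun a y => ?_)
    show ap (k * k') (ten a y) = ap (k' * k) (ten a y)
    have h := siegel_mul hT' hT
    rw [add_comm] at h
    rw [e.mul e' a y, e'.mul e a y, siegel_unique (siegel_mul hT hT') h]
  · rintro k ⟨-, T, v, hT, e⟩
    have hn : ∀ n : ℕ, IsSiegel w (n • v) (T ^ n) ∧ ActsB (k ^ n) (T ^ n) := by
      intro n
      induction n with
      | zero => exact ⟨by simpa using siegel_one hw, fun a y => by simp⟩
      | succ n ih =>
        rw [succ_nsmul, pow_succ, pow_succ]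
        exact ⟨siegel_mul ih.1 hT, ih.2.mul e⟩
    refine H.ext_left fun a y => ?_
    have h := (hn p).1
    rw [← Nat.cast_smul_eq_nsmul F p v, CharP.cast_eq_zero, zero_smul] at h
    rw [(hn p).2 a y, siegel_unique h (siegel_one hw), ap_one, ap_one]

/-- A Kronecker product fixing `b ⊗ F^β` acts on the first factor only. -/
theorem split_fix {k : Grp Q} (hk : Tens (val k)) {b : α → F} (hb : QA b ≠ 0)
    (hfix : ∀ y, ap k (ten b y) = ten b y) :
    ∃ S : Matrix α α F, S *ᵥ b = b ∧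
      (∀ u v, QuadraticMap.polar ⇑QA (S *ᵥ u) (S *ᵥ v) = QuadraticMap.polar ⇑QA u v) ∧
      ∀ a y, ap k (ten a y) = ten (S *ᵥ a) y := by
  obtain ⟨S, T, μ, -, hST, hSb, hS, -⟩ := H.tens_split hk hb hb fun y => ⟨y, hfix y⟩
  have hap : ∀ u v, ap k (ten u v) = ten (S *ᵥ u) (T *ᵥ v) := fun u v => by
    show val k *ᵥ ten u v = _
    rw [hST, kron_mulVec_ten]
  have hT : ∀ y, T *ᵥ y = y := fun y => ten_cancel_left (H.aniso_ne hb) (by
    have h := hfix y
    rwa [hap, hSb] at h)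
  have hμ : μ = 1 := by
    have := hS b b
    rw [hSb] at this
    exact (mul_eq_right₀ (by rw [b_self]; exact mul_ne_zero H.two hb)).1 this.symm
  refine ⟨S, hSb, fun u v => by rw [hS, hμ, one_mul], fun a y => by rw [hap, hT]⟩

/-- The elements fixing `b ⊗ F^β` pointwise act on the first factor only. -/
theorem tens_of_fix (hS : Small QB M) {b : α → F} (hb : QA b ≠ 0) {k₀ : Grp Q} (hk₀ : k₀ ∈ M)
    (hfix : ∀ y, ap k₀ (ten b y) = ten b y) : Tens (val k₀) := by
  classical
  obtain ⟨p, hp⟩ := CharP.exists F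
  haveI : Fact p.Prime := ⟨CharP.char_is_prime F p⟩
  obtain ⟨w, hw, hw0⟩ := H.exists_singB
  obtain ⟨z, v, hf⟩ := H.exists_frameB hw hw0
  obtain ⟨U, hUM, hU1, hU2, hUc, hUp⟩ := H.exists_u (p := p) hw
  let K : Subgroup (Grp Q) :=
    { carrier := {k | k ∈ M ∧ ∀ y, ap k (ten b y) = ten b y}
      mul_mem' := fun hk hk' => ⟨M.mul_mem hk.1 hk'.1, fun y => by rw [ap_mul, hk'.2, hk.2]⟩
      one_mem' := ⟨M.one_mem, fun y => ap_one _⟩
      inv_mem' := fun {k} hk => ⟨M.inv_mem hk.1, fun y => ap_inj k (by rw [ap_ap_inv, hk.2])⟩ }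
  haveI := H.nonempty_left
  haveI := H.nonempty_right
  let Y : Subgroup (Grp Q) :=
    { carrier := {k | Tens (val k)}
      mul_mem' := fun hk hk' => tens_mul hk hk'
      one_mem' := ⟨1, 1, by rw [Matrix.one_kronecker_one]; rfl⟩
      inv_mem' := fun {k} hk => tens_inv hk (k : GL (α × β) F).mul_inv H.nonempty_left H.nonempty_right }
  have hUK : U ≤ Subgroup.normalizer (K : Set (Grp Q)) := by
    have step : ∀ u ∈ U, ∀ k ∈ K, u * k * u⁻¹ ∈ K := by
      intro u hu k hk
      obtain ⟨T, v, -, e⟩ := hU1 u hu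
      refine ⟨M.mul_mem (M.mul_mem (hUM hu) hk.1) (M.inv_mem (hUM hu)), fun y => ?_⟩
      rw [ap_mul, ap_mul, e.inv b y, hk.2, e, ap_ap_inv]
    intro u hu
    refine Subgroup.mem_normalizer_iff.2 fun k => ⟨step u hu k, fun h => ?_⟩
    have := step u⁻¹ (U.inv_mem hu) _ h
    rwa [inv_inv, show u⁻¹ * (u * k * u⁻¹) * u = k by group] at this
  have comm : ∀ u ∈ U, u ≠ 1 → ∀ k ∈ K, u * k = k * u → Tens (val k) := by
    intro u hu hu1 k hk hcu
    obtain ⟨T, v₁, hT, e⟩ := hU1 u hu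
    obtain ⟨v', hv'⟩ : ∃ v', v' = v₁ - QuadraticMap.polar ⇑QB z v₁ • w := ⟨_, rfl⟩
    have hT' : IsSiegel w v' T := by
      have := siegel_add_self hT (-QuadraticMap.polar ⇑QB z v₁)
      rwa [neg_smul, ← sub_eq_add_neg, ← hv'] at this
    have z1 : QuadraticMap.polar ⇑QB z v' = 0 := by
      rw [hv', b_sub_right, b_smul_right, b_comm z w, hf.wz, mul_one, sub_self]
    have v0 : v' ≠ 0 := fun e0 => hu1 (H.ext_left fun a y => by
      rw [e0] at hT'
      rw [e, siegel_unique hT' (siegel_one hw), ap_one, ap_one])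
    have hf' : FrameB QB w z v' :=
      ⟨hw, hf.qz, hf.wz, hT'.2.1, z1, H.aniso_of_perp hw hf.qz hf.wz hT'.2.1 z1 v0⟩
    obtain ⟨f1, f2⟩ := H.fix_siegel hf' hT' e
    exact H.tens_of_map hS hk.1 hw hw0 hw hw0 fun a => ⟨_, f1 (ap k (ten a w)) (by rw [← ap_mul, hcu, ap_mul, f2 a])⟩
  obtain ⟨T₁, hT₁⟩ := exists_siegel H.gB.nd hw hf.w1
  obtain ⟨u₁, hu₁, eu₁⟩ := hU2 T₁ _ hT₁
  have u1ne : u₁ ≠ 1 := fun e => by
    have h := congrArg (fun k : Grp Q => ap k (ten b v)) e
    simp only [eu₁ b v, ap_one] at h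
    have h' := ten_cancel_left (H.aniso_ne hb) h
    rw [hT₁.2.2, b_comm v w, hf.w1, b_self, zero_smul, add_zero, mul_zero, zero_smul, sub_zero] at h'
    exact smul_ne_zero (mul_ne_zero H.two hf.q1) hf.w_ne (sub_eq_self.1 h')
  have hUg : IsPGroup p U := fun u => ⟨1, Subtype.ext (by simpa using hUp u u.2)⟩
  have hcop : ¬ p ∣ Nat.card K := by
    intro hd
    obtain ⟨k, hk, hk1, hkp, hkc⟩ := exists_commuting hUg hUK hd
    obtain ⟨S, hSb, hS', e⟩ := H.split_fix (comm u₁ hu₁ u1ne k hk (hkc u₁ hu₁)) hb hk.2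
    have hn : ∀ n : ℕ, ∀ a y, ap (k ^ n) (ten a y) = ten (S ^ n *ᵥ a) y := by
      intro n
      induction n with
      | zero => intro a y; simp
      | succ n ih =>
        intro a y
        rw [pow_succ, ap_mul, e, ih, pow_succ, Matrix.mulVec_mulVec]
    have hSp : S ^ p = 1 := Matrix.ext_iff_mulVec.2 fun a => ten_cancel_right hw0 (by
      rw [← hn p, hkp, ap_one, Matrix.one_mulVec])
    have hS1 := H.eq_one_of_pow hS' hSp hb hSb
    exact hk1 (H.ext_left fun a y => by rw [e, hS1, Matrix.one_mulVec, ap_one])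
  haveI := Fintype.ofFinite F
  obtain ⟨m, -, hm⟩ := FiniteField.card F p
  by_cases hm1 : (m : ℕ) = 1
  · rw [hm1, pow_one] at hm
    have hp5 : 5 ≤ p := by
      have h2 := (Fact.out : p.Prime).two_le
      have hne2 : p ≠ 2 := fun e => H.two (by
        have := CharP.cast_eq_zero F p
        rw [e] at this
        exact_mod_cast this)
      have hne3 : p ≠ 3 := fun e => by
        obtain ⟨t, ht, ht1⟩ := H.ext
        have := FiniteField.pow_card_sub_one_eq_one t ht
        rw [hm, e] at this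
        exact ht1 (by linear_combination this)
      have hne4 : p ≠ 4 := fun e => by
        have := (Fact.out : p.Prime)
        rw [e] at this
        exact absurd this (by norm_num)
      omega
    let ρ : Grp Q →* Matrix (α × β) (α × β) F :=
      { toFun := val, map_one' := rfl, map_mul' := fun _ _ => rfl }
    have hρ : Function.Injective ρ := fun x y h => Subtype.ext (Units.ext h)
    refine comm u₁ hu₁ u1ne k₀ ⟨hk₀, hfix⟩ ?_
    exact commute_of_unipotent ρ hρ hp5 hcop (hUp u₁ hu₁) (H.siegel_cube hf hT₁ eu₁) (hUK hu₁) k₀ ⟨hk₀, hfix⟩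
  obtain ⟨n, hn⟩ := hUg.exists_card_eq
  refine CfsgLib.Coprime.le_of_centralizer_le (A := U) (K := K) (Y := Y) ?_ hUK ?_ ?_ ⟨hk₀, hfix⟩
  · refine CfsgLib.Coprime.not_isCyclic_of_exponent hUp (Fact.out : p.Prime).pos ?_
    have hpq : p < Nat.card F := by
      rw [Nat.card_eq_fintype_card, hm]
      have h2 : 2 ≤ (m : ℕ) := by
        have := m.pos
        omega
      calc p = p ^ 1 := (pow_one p).symm
        _ < p ^ (m : ℕ) := Nat.pow_lt_pow_right (Fact.out : p.Prime).one_lt h2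
    have hinj : ∀ x : F, ∃ k : U, ∃ T : Grp QB, IsSiegel w (x • v) T ∧ ActsB (k : Grp Q) T := by
      intro x
      obtain ⟨T, hT⟩ := exists_siegel H.gB.nd hw (v := x • v) (by rw [b_smul_right, hf.w1]; ring)
      obtain ⟨k, hk, e⟩ := hU2 T _ hT
      exact ⟨⟨k, hk⟩, T, hT, e⟩
    choose f T hT hf' using hinj
    have finj : Function.Injective f := by
      intro x y hxy
      have e : ap (T x) z = ap (T y) z := ten_cancel_left (H.aniso_ne hb) (by rw [← hf' x b, ← hf' y b, hxy])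
      rw [(hT x).2.2, (hT y).2.2, b_comm z w, hf.wz] at e
      have k1 := congrArg (QuadraticMap.polar ⇑QB v) e
      simp only [b_sub_right, b_add_right, b_smul_right, b_self, b_comm v z, b_comm v w, hf.z1, hf.w1, mul_zero,
        add_zero, zero_add, sub_zero, one_mul] at k1
      exact mul_right_cancel₀ (mul_ne_zero H.two hf.q1) k1
    exact hpq.trans_le (Nat.card_le_card_of_injective f finj)
  · rw [hn]
    exact Nat.Coprime.pow_left n ((Fact.out : p.Prime).coprime_iff_not_dvd.2 hcop)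
  · rintro u hu hu1 k ⟨hk, hkc⟩
    exact comm u hu hu1 k hk (Subgroup.mem_centralizer_iff.1 hkc u rfl)

/-- An element mapping an anisotropic `a ⊗ F^β` into another is a Kronecker product. -/
theorem tens_of_line (hS : Small QB M) {g : Grp Q} (hg : g ∈ M) {a b : α → F} (ha : QA a ≠ 0) (hb : QA b ≠ 0)
    (hab : ∀ y, ∃ y', ap g (ten a y) = ten b y') : Tens (val g) := by
  classical
  obtain ⟨p, hp⟩ := CharP.exists F
  haveI : Fact p.Prime := ⟨CharP.char_is_prime F p⟩
  obtain ⟨w, hw, hw0⟩ := H.exists_singB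
  obtain ⟨z, v, hf⟩ := H.exists_frameB hw hw0
  choose R hR using hab
  have hb0 := H.aniso_ne hb
  obtain ⟨m, hm⟩ : ∃ m, m = QA a / QA b := ⟨_, rfl⟩
  have hm0 : m ≠ 0 := hm ▸ div_ne_zero ha hb
  have hRb : ∀ y y', QuadraticMap.polar ⇑QB (R y) (R y') = m * QuadraticMap.polar ⇑QB y y' := fun y y' => by
    have e := ap_b g (ten a y) (ten a y')
    rw [hR, hR, H.polar_ten, H.polar_ten, b_self, b_self] at e
    rw [hm, div_mul_eq_mul_div, eq_div_iff hb]
    refine mul_left_cancel₀ H.two ?_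
    linear_combination e
  have hRs : ∀ (c : F) y, R (c • y) = c • R y := fun c y => ten_cancel_left hb0 (by
    rw [← hR, ten_smul_right, ap_smul, hR, ten_smul_right])
  have hRa : ∀ y y', R (y + y') = R y + R y' := fun y y' => ten_cancel_left hb0 (by
    rw [← hR, ten_add_right, ap_add, hR, hR, ten_add_right])
  have hRsub : ∀ y y', R (y - y') = R y - R y' := fun y y' => ten_cancel_left hb0 (by
    rw [← hR, ten_sub_right, ap_sub, hR, hR, ten_sub_right])
  have hRinj : Function.Injective R := fun y y' e => ten_cancel_left (H.aniso_ne ha) (ap_inj g (by rw [hR, hR, e]))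
  haveI : Finite (β → F) := inferInstance
  have hRsurj := Finite.injective_iff_surjective.1 hRinj
  have hRq : ∀ y, QB (R y) = m * QB y := fun y => by
    have := hRb y y
    rw [b_self, b_self] at this
    refine mul_left_cancel₀ H.two ?_
    linear_combination this
  obtain ⟨U, hUM, hU1, hU2, -, hUp⟩ := H.exists_u (p := p) hw
  obtain ⟨U', hU'M, -, hU'2, -, hU'p⟩ := H.exists_u (p := p) (w := R w) (by rw [hRq, hw, mul_zero])
  have conj : ∀ (v : β → F) (T : Grp QB), IsSiegel w v T → ∀ u ∈ U, ActsB u T →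
      ∃ T' : Grp QB, IsSiegel (R w) (m⁻¹ • R v) T' ∧ ActsB (g * u * g⁻¹) T' := by
    intro v T hT u hu hu'
    obtain ⟨T', hT'⟩ := exists_siegel H.gB.nd (u := R w) (v := m⁻¹ • R v) (by rw [hRq, hw, mul_zero])
      (by rw [b_smul_right, hRb, hT.2.1, mul_zero, mul_zero])
    obtain ⟨u', hu'U, eu'⟩ := hU'2 T' _ hT'
    have key : ∀ y, R (ap T y) = ap T' (R y) := fun y => by
      rw [hT.2.2, hT'.2.2, hRsub, hRsub, hRa, hRs, hRs, hRs, hRb, b_smul_right, hRb, q_smul, hRq, smul_smul]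
      match_scalars <;> field_simp
    obtain ⟨k, hk⟩ : ∃ k, k = u'⁻¹ * (g * u * g⁻¹) := ⟨_, rfl⟩
    have hkM : k ∈ M := hk ▸ M.mul_mem (M.inv_mem (hU'M hu'U)) (M.mul_mem (M.mul_mem hg (hUM hu)) (M.inv_mem hg))
    have hkfix : ∀ y, ap k (ten b y) = ten b y := fun y => by
      obtain ⟨y₀, rfl⟩ := hRsurj y
      refine ap_inj u' ?_
      rw [hk, ap_mul u'⁻¹, ap_ap_inv, eu', ← hR, ap_mul, ap_mul, ap_inv_ap, hu', hR, key]
    obtain ⟨S, hSb, hS', eS⟩ := H.split_fix (H.tens_of_fix hS hb hkM hkfix) hb hkfix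
    have hc : ∀ n : ℕ, ∀ a' y, ap ((g * u * g⁻¹) ^ n) (ten a' y) = ten (S ^ n *ᵥ a') (ap (T' ^ n) y) := by
      intro n
      induction n with
      | zero => intro a' y; simp
      | succ n ih =>
        intro a' y
        have e : g * u * g⁻¹ = u' * k := by rw [hk, mul_inv_cancel_left]
        rw [pow_succ, ap_mul]
        conv_lhs => arg 2; rw [e, ap_mul, eS, eu']
        rw [ih, pow_succ, pow_succ, Matrix.mulVec_mulVec, ap_mul]
    refine ⟨T', hT', fun a' y => ?_⟩
    have hSp : S ^ p = 1 := Matrix.ext_iff_mulVec.2 fun a' => by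
      have h := hc p a' w
      have e1 : (g * u * g⁻¹) ^ p = 1 := by
        rw [conj_pow, hUp u hu, mul_one, mul_inv_cancel]
      have e2 : ap (T' ^ p) w = w := by
        have hn : ∀ n : ℕ, ActsB (u' ^ n) (T' ^ n) := fun n => by
          induction n with
          | zero => exact fun a y => by simp
          | succ n ih => rw [pow_succ, pow_succ]; exact ih.mul eu'
        refine ten_cancel_left hb0 ?_
        rw [← hn p, hU'p u' hu'U, ap_one]
      rw [e1, ap_one, e2] at h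
      rw [Matrix.one_mulVec]
      exact ten_cancel_right hw0 h.symm
    have := hc 1 a' y
    rwa [pow_one, pow_one, pow_one, H.eq_one_of_pow hS' hSp hb hSb, Matrix.one_mulVec] at this
  have hRw : R w ≠ 0 := fun e => hw0 (hRinj (by rw [e]; simpa using (hRs 0 0).symm))
  have hfR : FrameB QB (R w) (m⁻¹ • R z) (m⁻¹ • R v) :=
    ⟨by rw [hRq, hw, mul_zero], by rw [q_smul, hRq, hf.qz, mul_zero, mul_zero],
      by rw [b_smul_right, hRb, hf.wz, mul_one, inv_mul_cancel₀ hm0],
      by rw [b_smul_right, hRb, hf.w1, mul_zero, mul_zero],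
      by rw [b_smul_right, b_smul_left, hRb, hf.z1, mul_zero, mul_zero, mul_zero],
      by rw [q_smul, hRq]; exact mul_ne_zero (mul_ne_zero (inv_ne_zero hm0) (inv_ne_zero hm0)) (mul_ne_zero hm0 hf.q1)⟩
  refine H.tens_of_map hS hg hw hw0 (w' := R w) (by rw [hRq, hw, mul_zero]) hRw fun a' => ?_
  obtain ⟨T₁, hT₁⟩ := exists_siegel H.gB.nd hw hf.w1
  obtain ⟨u₁, hu₁, eu₁⟩ := hU2 T₁ _ hT₁
  obtain ⟨S₁, hS₁, eS₁⟩ := conj _ T₁ hT₁ u₁ hu₁ eu₁
  exact ⟨_, (H.fix_siegel hfR hS₁ eS₁).1 (ap g (ten a' w))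
    (by rw [ap_mul, ap_mul, ap_inv_ap, (H.fix_siegel hf hT₁ eu₁).2 a'])⟩

end Hyp

end CfsgLib.Classical.TensorOrthNine
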