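import Cfsg.Agent.Lib.Classical.TensorOrthNine.Global
import Cfsg.Agent.Lib.Classical.TensorOrth.Main
import Cfsg.Agent.Lib.Classical.TensorWreath.Main

set_option autoImplicit false
set_option linter.unusedSectionVars false
set_option linter.style.haveILetI false

/-!
The stabiliser in `Ω` of a tensor square of a three-dimensional orthogonal space is maximal, for odd fields
with more than three elements.
-/

namespace CfsgLib.Classical.TensorOrthNine

open Matrix CfsgLib.Classical.TensorMax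
open CfsgLib.Classical.TensorSymp (ten single_eq_ten)
open CfsgLib.Classical.TensorOrth (coords coords_apply toGL exists_form gram_symm gram_det smul_symm smul_det
  excl_three formOfGram_eq)
open scoped MatrixGroups Kronecker

variable {F : Type*} [Field F]

/-- The pairs as functions on two points. -/
abbrev pairEquiv : (Fin 2 → Fin 3) ≃ Fin 3 × Fin 3 := finTwoArrowEquiv (Fin 3)

theorem mono_iff [Finite F] {X : Matrix (Fin 3 × Fin 3) (Fin 3 × Fin 3) F} :
    TensorWreath.Mono (X.submatrix pairEquiv pairEquiv) ↔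
      Tens X ∨ ∃ S T : Matrix (Fin 3) (Fin 3) F, ∀ a b, X *ᵥ ten a b = ten (S *ᵥ b) (T *ᵥ a) := by
  have sw : ∀ (S T : Matrix (Fin 3) (Fin 3) F), (∀ a b, X *ᵥ ten a b = ten (S *ᵥ b) (T *ᵥ a)) ↔
      ∀ i k j l, X (i, k) (j, l) = S i l * T k j := by
    intro S T
    constructor
    · intro h i k j l
      have e := congrFun (h (Pi.single j 1) (Pi.single l 1)) (i, k)
      rw [← single_eq_ten, Matrix.mulVec_single_one, Matrix.mulVec_single_one, Matrix.mulVec_single_one] at e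
      exact e
    · intro h a b
      funext ⟨i, k⟩
      show ∑ p, X (i, k) p * ten a b p = (S *ᵥ b) i * (T *ᵥ a) k
      rw [Fintype.sum_prod_type]
      simp only [Matrix.mulVec, dotProduct, Finset.sum_mul, Finset.mul_sum, h]
      exact Finset.sum_congr rfl fun l _ => Finset.sum_congr rfl fun j _ => by simp only [ten]; ring
  constructor
  · rintro ⟨gs, σ, h⟩
    have hX : ∀ i k j l, X (i, k) (j, l) = gs 0 i (![j, l] (σ.symm 0)) * gs 1 k (![j, l] (σ.symm 1)) := by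
      intro i k j l
      have e := congrFun₂ h ![i, k] ![j, l]
      rw [TensorWreath.mul_permM_apply, TensorWreath.pureM_apply, Fin.prod_univ_two] at e
      simpa using e
    have hσ : ∀ σ : Equiv.Perm (Fin 2), σ = 1 ∨ σ = Equiv.swap 0 1 := by decide
    rcases hσ σ with rfl | rfl
    · exact Or.inl ⟨gs 0, gs 1, Matrix.ext fun ⟨i, k⟩ ⟨j, l⟩ => by
        rw [hX, Matrix.kronecker_apply]; rfl⟩
    · exact Or.inr ⟨gs 0, gs 1, (sw _ _).2 fun i k j l => by rw [hX]; simp⟩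
  · rintro (⟨S, T, rfl⟩ | ⟨S, T, h⟩)
    · refine ⟨![S, T], 1, ?_⟩
      rw [TensorWreath.permM_one, mul_one]
      ext x y
      rw [TensorWreath.pureM_apply, Fin.prod_univ_two]
      rfl
    · refine ⟨![S, T], Equiv.swap 0 1, ?_⟩
      ext x y
      rw [TensorWreath.mul_permM_apply, TensorWreath.pureM_apply, Fin.prod_univ_two, Matrix.submatrix_apply]
      simp only [pairEquiv, finTwoArrowEquiv_apply, (sw S T).1 h, Function.comp_apply, Equiv.symm_swap,
        Equiv.swap_apply_left, Equiv.swap_apply_right, Matrix.cons_val_zero, Matrix.cons_val_one]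
      rfl

theorem toGL_wreath_iff [Finite F] {ι : Type} [Fintype ι] [DecidableEq ι] (e : ι ≃ (Fin 2 → Fin 3)) (P : GL ι F)
    (g : GL (Fin 3 × Fin 3) F) :
    toGL (e.trans pairEquiv) P g ∈ Cfsg.Geo.tensorWreathSubgroup 3 2 e P ↔
      Tens g.1 ∨ ∃ S T : Matrix (Fin 3) (Fin 3) F, ∀ a b, g.1 *ᵥ ten a b = ten (S *ᵥ b) (T *ᵥ a) := by
  obtain ⟨h, hh⟩ : ∃ h : GL (Fin 2 → Fin 3) F, h = Cfsg.Geo.glReindex (F := F) pairEquiv.symm g := ⟨_, rfl⟩
  have hval : h.1 = g.1.submatrix pairEquiv pairEquiv := by rw [hh]; rfl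
  have hφ : toGL (e.trans pairEquiv) P g = MulAut.conj P (Cfsg.Geo.glReindex (F := F) e.symm h) := by
    rw [hh]
    refine Units.ext ?_
    show _ = (P : Matrix ι ι F) * _ * _
    rfl
  rw [← mono_iff, ← hval, ← TensorWreath.mem_standard_iff, hφ]
  constructor
  · rintro ⟨_, ⟨x, hx, rfl⟩, hx'⟩
    have := (Cfsg.Geo.glReindex (F := F) e.symm).injective ((MulAut.conj P).injective hx')
    exact this ▸ hx
  · exact fun hm => ⟨_, ⟨h, hm, rfl⟩, rfl⟩

theorem isMaximalIn [Fintype F] {ι : Type} [Fintype ι] [DecidableEq ι] {Q : QuadraticForm F (ι → F)}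
    (h2 : (2 : F) ≠ 0) (h5 : 5 ≤ Fintype.card F) (e : ι ≃ (Fin 2 → Fin 3)) (P : GL ι F)
    {f₁ : (Fin 3 → F) → (Fin 3 → F) → F} (hf₁ : Cfsg.Geo.IsSymmetricForm f₁)
    (hT : Cfsg.Geo.IsTensorPowerFormStructure id (QuadraticMap.polar ⇑Q) f₁ e P) :
    Cfsg.Geo.IsMaximalIn (Cfsg.Geo.omegaGL ⇑Q)
      (Cfsg.Geo.tensorWreathSubgroup 3 2 e P ⊓ Cfsg.Geo.omegaGL ⇑Q) := by
  classical
  obtain ⟨c, hc, hB⟩ := hT
  obtain ⟨QA, gA, hQA⟩ := exists_form h2 (smul_symm c (gram_symm hf₁)) (smul_det hc (gram_det hf₁))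
  obtain ⟨QB, gB, hQB⟩ := exists_form h2 (gram_symm hf₁) (gram_det hf₁)
  have hprop : ∀ x, QA x = c * QB x := fun x => by
    refine mul_left_cancel₀ h2 ?_
    rw [hQA, Matrix.smul_mulVec, dotProduct_smul, smul_eq_mul, ← hQB]
    ring
  obtain ⟨JA, hJA⟩ : ∃ JA, JA = c • Cfsg.Geo.gramMatrix f₁ := ⟨_, rfl⟩
  obtain ⟨JB, hJB⟩ : ∃ JB, JB = Cfsg.Geo.gramMatrix f₁ := ⟨_, rfl⟩
  rw [← hJA] at gA
  rw [← hJB] at gB
  obtain ⟨e', he'⟩ : ∃ e', e' = e.trans pairEquiv := ⟨_, rfl⟩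
  obtain ⟨φ, hφ⟩ : ∃ φ, φ = toGL e' P := ⟨_, rfl⟩
  have hkr : ∀ g : GL (Fin 3 × Fin 3) F, φ g ∈ Cfsg.Geo.tensorWreathSubgroup 3 2 e P ↔
      Tens g.1 ∨ ∃ S T : Matrix (Fin 3) (Fin 3) F, ∀ a b, g.1 *ᵥ ten a b = ten (S *ᵥ b) (T *ᵥ a) := by
    rw [hφ, he']; exact toGL_wreath_iff e P
  set Q₀ : QuadraticForm F (Fin 3 × Fin 3 → F) := Q.comp (coords e' P) with hQ₀
  have hap : ∀ (g : GL (Fin 3 × Fin 3) F) z, (φ g).1 *ᵥ coords e' P z = coords e' P (g.1 *ᵥ z) := by
    intro g z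
    rw [hφ]
    show ((P : Matrix ι ι F) * Matrix.submatrix g.1 e' e' * (P⁻¹ : GL ι F).1) *ᵥ _ = _
    rw [coords_apply, coords_apply, Matrix.mulVec_mulVec, Matrix.mul_assoc, Units.inv_mul, Matrix.mul_one,
      ← Matrix.mulVec_mulVec, Matrix.submatrix_mulVec_equiv]
    congr 2
    rw [Function.comp_assoc, Equiv.self_comp_symm, Function.comp_id]
  have hsurj : ∀ v, ∃ z, coords e' P z = v := fun v => ⟨((P⁻¹ : GL ι F).1 *ᵥ v) ∘ e'.symm, by
    rw [coords_apply, Function.comp_assoc, Equiv.symm_comp_self, Function.comp_id, Matrix.mulVec_mulVec,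
      Units.mul_inv, Matrix.one_mulVec]⟩
  have hiso : (Cfsg.isometryGroup F ⇑Q₀).map φ.toMonoidHom = Cfsg.isometryGroup F ⇑Q := by
    ext x
    constructor
    · rintro ⟨g, hg, rfl⟩ u w
      obtain ⟨z, rfl⟩ := hsurj u
      show Q ((φ g).1 *ᵥ coords e' P z) = Q (coords e' P z)
      rw [hap]
      exact hg z z
    · intro hx
      obtain ⟨g, rfl⟩ := φ.surjective x
      refine ⟨g, fun z w => ?_, rfl⟩
      have h0 : Q ((φ g).1 *ᵥ coords e' P z) = Q (coords e' P z) := hx _ (coords e' P w)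
      rw [hap] at h0
      exact h0
  have hom : (Cfsg.Geo.omegaGL ⇑Q₀).map φ.toMonoidHom = Cfsg.Geo.omegaGL ⇑Q := by
    simp only [Cfsg.Geo.omegaGL, Cfsg.Omega, Subgroup.map_subtype_commutator, Subgroup.map_commutator, hiso]
  have homg : ∀ g, φ g ∈ Cfsg.Geo.omegaGL ⇑Q ↔ g ∈ Cfsg.Geo.omegaGL ⇑Q₀ := fun g => by
    rw [← hom]
    exact Subgroup.mem_map_iff_mem (f := φ.toMonoidHom) φ.injective
  have hpol0 : ∀ x y, QuadraticMap.polar ⇑Q₀ x y = x ⬝ᵥ (JA ⊗ₖ JB) *ᵥ y := by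
    intro x y
    have h0 : QuadraticMap.polar ⇑Q₀ x y = QuadraticMap.polar ⇑Q (coords e' P x) (coords e' P y) := by
      simp only [QuadraticMap.polar, hQ₀, QuadraticMap.comp_apply, map_add]
    have hco : ∀ z, coords e' P z = (P : Matrix ι ι F) *ᵥ ((z ∘ pairEquiv) ∘ e) := fun z => by
      rw [coords_apply, he']; rfl
    rw [h0, hco, hco, hB, hJA, hJB, Matrix.smul_kronecker, Matrix.smul_mulVec, dotProduct_smul, smul_eq_mul,
      ← formOfGram_eq, Cfsg.Geo.formOfGram]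
    congr 1
    rw [← pairEquiv.sum_comp]
    refine Finset.sum_congr rfl fun a _ => ?_
    rw [← pairEquiv.sum_comp]
    refine Finset.sum_congr rfl fun b _ => ?_
    rw [Fin.prod_univ_two]
    rfl
  have hext : ∃ t : F, t ≠ 0 ∧ t * t ≠ 1 :=
    (excl_three (F := F) le_rfl (fun h => by omega) h2).resolve_left (by omega)
  have mk : ∀ M : Subgroup (CfsgLib.Orth.Grp Q₀), M ≤ Cfsg.Omega F ⇑Q₀ →
      (∀ g, g ∈ Cfsg.Omega F ⇑Q₀ → InH g → g ∈ M) → Sym QA QB JA JB Q₀ M := fun M hle ht =>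
    { gA := gA
      gB := gB
      polar := hpol0
      cardA := Fintype.card_fin 3
      cardB := Fintype.card_fin 3
      ext := hext
      le := hle
      tens := fun g hg h => ht g hg (Or.inl h)
      prop := ⟨c, hc, hprop⟩
      swapT := fun g hg h => ht g hg (Or.inr h) }
  refine ⟨lt_of_le_of_ne inf_le_right fun hh => ?_, fun K hK hK' => ?_⟩
  · obtain ⟨g, hg, hnt⟩ := (mk _ le_rfl fun g hg _ => hg).exists_not_inH
    refine hnt ((hkr g.1).1 ?_)
    have := (homg g.1).2 (Subgroup.mem_map_of_mem _ hg)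
    rw [← hh] at this
    exact this.1
  · have H := mk ((K.comap φ.toMonoidHom).comap (Cfsg.isometryGroup F ⇑Q₀).subtype)
      (fun g hg => (Subgroup.mem_map_iff_mem (Subgroup.subtype_injective _)).1 ((homg g.1).1 (hK' hg)))
      fun g hg ht => hK ⟨(hkr g.1).2 ht, (homg g.1).2 (Subgroup.mem_map_of_mem _ hg)⟩
    rcases H.dichotomy with h | h
    · refine Or.inl (le_antisymm (fun y hy => ?_) hK)
      obtain ⟨g, rfl⟩ := φ.surjective y
      obtain ⟨g₀, -, rfl⟩ := (homg g).1 (hK' hy)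
      exact ⟨(hkr _).2 (h g₀ hy), hK' hy⟩
    · refine Or.inr (le_antisymm hK' fun y hy => ?_)
      obtain ⟨g, rfl⟩ := φ.surjective y
      obtain ⟨g₀, hg₀, rfl⟩ := (homg g).1 hy
      have : g₀ ∈ (K.comap φ.toMonoidHom).comap (Cfsg.isometryGroup F ⇑Q₀).subtype := h ▸ hg₀
      exact this

end CfsgLib.Classical.TensorOrthNine
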