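import Cfsg.Agent.Lib.Classical.TensorOrthNine.Swap

set_option autoImplicit false
set_option linter.unusedSectionVars false
set_option linter.style.haveILetI false

/-!
The elements preserving or exchanging the factors form a group; without central elements it contains every
element of the group sending one anisotropic fibre, of either kind, into another.
-/

namespace CfsgLib.Classical.TensorOrthNine

open Matrix CfsgLib.Classical.TensorMax CfsgLib.Orth
open CfsgLib.Classical.TensorSymp (ten kron_mulVec_ten ten_smul_left ten_smul_right)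
open CfsgLib.Classical.TensorOrth (Gram rk)
open scoped MatrixGroups Kronecker

variable {F : Type*} [Field F] {α : Type} [Fintype α] [DecidableEq α]

namespace Sym

variable [Finite F] {QA QB : QuadraticForm F (α → F)} {JA JB : Matrix α α F}
  {Q : QuadraticForm F (α × α → F)} {M : Subgroup (Grp Q)} (H : Sym QA QB JA JB Q M)
include H

theorem exists_actT {g : Grp Q} (h : Tens (val g)) : ∃ S T, Act g S T := by
  obtain ⟨S, T, e⟩ := h
  exact ⟨S, T, act_of_tens e⟩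

theorem tens_one : Tens (val (1 : Grp Q)) := ⟨1, 1, act_one.tens⟩

theorem tens_inv' {g : Grp Q} (h : Tens (val g)) : Tens (val g⁻¹) :=
  TensorMax.tens_inv h (g : GL (α × α) F).mul_inv H.nonempty_left H.nonempty_right

theorem inH_mul {g h : Grp Q} (hg : InH g) (hh : InH h) : InH (g * h) := by
  rcases hg with hg | ⟨S, T, hg⟩ <;> rcases hh with hh | ⟨S', T', hh⟩
  · exact Or.inl (TensorMax.tens_mul hg hh)
  · obtain ⟨S, T, e⟩ := H.exists_actT hg
    exact Or.inr ⟨S * S', T * T', fun a b => by rw [ap_mul, hh, e, Matrix.mulVec_mulVec, Matrix.mulVec_mulVec]⟩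
  · obtain ⟨S', T', e⟩ := H.exists_actT hh
    exact Or.inr ⟨S * T', T * S', fun a b => by rw [ap_mul, e, hg, Matrix.mulVec_mulVec, Matrix.mulVec_mulVec]⟩
  · exact Or.inl ⟨S * T', T * S', Act.tens fun a b => by
      rw [ap_mul, hh, hg, Matrix.mulVec_mulVec, Matrix.mulVec_mulVec]⟩

theorem sw_sq {g : Grp Q} (h : Sw g) : Tens (val (g * g)) := by
  obtain ⟨S, T, hg⟩ := h
  exact ⟨S * T, T * S, Act.tens fun a b => by
    rw [ap_mul, hg, hg, Matrix.mulVec_mulVec, Matrix.mulVec_mulVec]⟩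

theorem inH_inv {g : Grp Q} (hg : InH g) : InH g⁻¹ := by
  rcases hg with h | h
  · exact Or.inl (H.tens_inv' h)
  · rw [show g⁻¹ = g * (g * g)⁻¹ by group]
    exact H.inH_mul (Or.inr h) (Or.inl (H.tens_inv' (H.sw_sq h)))

theorem mem_of_inH {g : Grp Q} (hΩ : g ∈ Cfsg.Omega F ⇑Q) (h : InH g) : g ∈ M :=
  h.elim (H.tens g hΩ) (H.swapT g hΩ)

/-- Conjugates of Kronecker products are Kronecker products. -/
theorem tens_conj {g k : Grp Q} (hg : InH g) (hk : Tens (val k)) : Tens (val (g * k * g⁻¹)) := by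
  rcases hg with h | ⟨S, T, h⟩
  · exact TensorMax.tens_mul (TensorMax.tens_mul h hk) (H.tens_inv' h)
  · obtain ⟨A, B, e⟩ := H.exists_actT hk
    have hsw : Sw (g * k) := ⟨S * B, T * A, fun a b => by
      rw [ap_mul, e, h, Matrix.mulVec_mulVec, Matrix.mulVec_mulVec]⟩
    rw [show g * k * g⁻¹ = g * k * g * (g * g)⁻¹ by group]
    obtain ⟨S', T', e'⟩ := hsw
    exact TensorMax.tens_mul (⟨S' * T, T' * S, Act.tens fun a b => by
      rw [ap_mul, h, e', Matrix.mulVec_mulVec, Matrix.mulVec_mulVec]⟩ : Tens (val (g * k * g)))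
      (H.tens_inv' (H.sw_sq ⟨S, T, h⟩))

theorem line_left (hS : Small QB M) {g : Grp Q} (hg : g ∈ M) {a b : α → F} (ha : QA a ≠ 0) (hb : QA b ≠ 0)
    (h : ∀ y, ∃ y', ap g (ten a y) = ten b y') : InH g :=
  Or.inl (H.tens_of_line hS hg ha hb h)

theorem ap_neg' (g : Grp Q) (x : α × α → F) : ap g (-x) = -ap g x := Matrix.mulVec_neg _ _

theorem tau_data : ∃ t ∈ M, Sw t ∧ ∃ P U : Grp QA,
    (∀ a b, ap t (ten a b) = -ten (ap P b) (ap U a)) ∧
    (∀ a b, ap t⁻¹ (ten a b) = -ten (ap U⁻¹ b) (ap P⁻¹ a)) := by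
  obtain ⟨t, ht, P, U, h⟩ := H.exists_tau
  refine ⟨t, ht, ⟨(-1 : F) • val P, val U, fun a b => by
    rw [h, Matrix.smul_mulVec, ten_smul_left, neg_one_smul]; rfl⟩, P, U, h, fun a b => ap_inj t ?_⟩
  rw [ap_ap_inv, H.ap_neg', h, neg_neg, ap_ap_inv, ap_ap_inv]

theorem aniso_ap (P : Grp QA) {a : α → F} (ha : QA a ≠ 0) : QA (ap P a) ≠ 0 := by rwa [ap_q]

/-- `F^α ⊗ d` into `F^α ⊗ d'`. -/
theorem line_right (hS : Small QB M) {g : Grp Q} (hg : g ∈ M) {d d' : α → F} (hd : QA d ≠ 0) (hd' : QA d' ≠ 0)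
    (h : ∀ a, ∃ a', ap g (ten a d) = ten a' d') : Tens (val g) := by
  obtain ⟨t, ht, st, P, U, e, ei⟩ := H.tau_data
  have key : Tens (val (t * g * t⁻¹)) := by
    refine H.tens_of_line hS (M.mul_mem (M.mul_mem ht hg) (M.inv_mem ht)) (H.aniso_ap P hd) (H.aniso_ap P hd')
      fun y => ?_
    obtain ⟨a', ha'⟩ := h (ap U⁻¹ y)
    refine ⟨ap U a', ?_⟩
    rw [ap_mul, ap_mul, ei, ap_inv_ap, H.ap_neg', ha', H.ap_neg', e, neg_neg]
  rw [show g = t⁻¹ * (t * g * t⁻¹) * t⁻¹⁻¹ by group]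
  exact H.tens_conj (H.inH_inv (Or.inr st)) key

/-- `a ⊗ F^α` into `F^α ⊗ d`. -/
theorem line_lr (hS : Small QB M) {g : Grp Q} (hg : g ∈ M) {a d : α → F} (ha : QA a ≠ 0) (hd : QA d ≠ 0)
    (h : ∀ y, ∃ a', ap g (ten a y) = ten a' d) : InH g := by
  obtain ⟨t, ht, st, P, U, e, -⟩ := H.tau_data
  have key : InH (t * g) := by
    refine H.line_left hS (M.mul_mem ht hg) ha (H.aniso_ap P hd) fun y => ?_
    obtain ⟨a', ha'⟩ := h y
    refine ⟨(-1 : F) • ap U a', ?_⟩
    rw [ap_mul, ha', e, ten_smul_right, neg_one_smul]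
  rw [show g = t⁻¹ * (t * g) by group]
  exact H.inH_mul (H.inH_inv (Or.inr st)) key

/-- `F^α ⊗ d` into `a ⊗ F^α`. -/
theorem line_rl (hS : Small QB M) {g : Grp Q} (hg : g ∈ M) {a d : α → F} (ha : QA a ≠ 0) (hd : QA d ≠ 0)
    (h : ∀ x, ∃ y', ap g (ten x d) = ten a y') : InH g := by
  obtain ⟨t, ht, st, P, U, e, -⟩ := H.tau_data
  have key : InH (g * t) := by
    refine H.line_left hS (M.mul_mem hg ht) (a := ap U⁻¹ d) (H.aniso_ap _ hd) ha fun y => ?_
    obtain ⟨y', hy'⟩ := h (ap P y)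
    refine ⟨(-1 : F) • y', ?_⟩
    rw [ap_mul, e, ap_ap_inv, H.ap_neg', hy', ten_smul_right, neg_one_smul]
  rw [show g = g * t * t⁻¹ by group]
  exact H.inH_mul key (H.inH_inv (Or.inr st))

end Sym

end CfsgLib.Classical.TensorOrthNine
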