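import Cfsg.Agent.Lib.Classical.TensorOrthNine.Gen

set_option autoImplicit false
set_option linter.unusedSectionVars false

/-!
Orthogonal bases of the three-dimensional factor, and normalised Kronecker products.
-/

namespace CfsgLib.Classical.TensorOrthNine

open Matrix CfsgLib.Classical.TensorMax CfsgLib.Orth
open CfsgLib.Classical.TensorSymp (adj ten kc_mulVec kron_mulVec_ten ten_add_left ten_add_right ten_sub_left
  ten_sub_right ten_smul_left ten_smul_right single_eq_ten)
open CfsgLib.Classical.TensorOrth (Gram rk)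
open scoped MatrixGroups Kronecker

variable {F : Type*} [Field F] {α β : Type} [Fintype α] [DecidableEq α] [Fintype β] [DecidableEq β]

/-- An orthogonal basis. -/
structure OrthA (QA : QuadraticForm F (α → F)) (a b c : α → F) : Prop where
  qa : QA a ≠ 0
  qb : QA b ≠ 0
  qc : QA c ≠ 0
  ab : QuadraticMap.polar ⇑QA a b = 0
  ac : QuadraticMap.polar ⇑QA a c = 0
  bc : QuadraticMap.polar ⇑QA b c = 0

theorem OrthA.rot {QA : QuadraticForm F (α → F)} {a b c : α → F} (ho : OrthA QA a b c) : OrthA QA b c a :=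
  ⟨ho.qb, ho.qc, ho.qa, ho.bc, by rw [b_comm]; exact ho.ab, by rw [b_comm]; exact ho.ac⟩

/-- The contraction with a vector of the first factor. -/
def ctrA (JA : Matrix α α F) (o : α → F) (x : α × β → F) : β → F := fun k => (JA *ᵥ o) ⬝ᵥ fun i => x (i, k)

theorem ctrA_add (JA : Matrix α α F) (o : α → F) (x y : α × β → F) :
    ctrA JA o (x + y) = ctrA JA o x + ctrA JA o y := by
  funext k
  exact dotProduct_add (JA *ᵥ o) (fun i => x (i, k)) fun i => y (i, k)

theorem ctrA_smul (JA : Matrix α α F) (o : α → F) (c : F) (x : α × β → F) :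
    ctrA JA o (c • x) = c • ctrA JA o x := by
  funext k
  exact dotProduct_smul c (JA *ᵥ o) fun i => x (i, k)

theorem ten_zero_right (a : α → F) : ten a (0 : β → F) = 0 := by ext; simp [ten]

theorem ten_cancel_left {a : α → F} (ha : a ≠ 0) {y y' : β → F} (h : ten a y = ten a y') : y = y' := by
  obtain ⟨i, hi⟩ := Function.ne_iff.1 ha
  exact funext fun k => mul_left_cancel₀ hi (congrFun h (i, k))

theorem ten_cancel_right {y : β → F} (hy : y ≠ 0) {a a' : α → F} (h : ten a y = ten a' y) : a = a' := by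
  obtain ⟨k, hk⟩ := Function.ne_iff.1 hy
  exact funext fun i => mul_right_cancel₀ hk (congrFun h (i, k))

theorem left_of_ten_eq {u b : α → F} {v y : β → F} (h : ten u v = ten b y) (hv : v ≠ 0) :
    ∃ c : F, u = c • b := by
  obtain ⟨k, hk⟩ := Function.ne_iff.1 hv
  refine ⟨y k / v k, funext fun i => ?_⟩
  have h' : u i * v k = b i * y k := congrFun h (i, k)
  rw [Pi.smul_apply, smul_eq_mul, div_mul_eq_mul_div, eq_div_iff hk, h', mul_comm]

namespace Hyp

variable [Finite F] {QA : QuadraticForm F (α → F)} {QB : QuadraticForm F (β → F)} {JA : Matrix α α F}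
  {JB : Matrix β β F} {Q : QuadraticForm F (α × β → F)} {M : Subgroup (Grp Q)} (H : Hyp QA QB JA JB Q M)
include H

theorem aniso_ne {a : α → F} (ha : QA a ≠ 0) : a ≠ 0 := fun e => ha (by rw [e, QuadraticMap.map_zero])

theorem ctrA_ten (o a : α → F) (y : β → F) : ctrA JA o (ten a y) = QuadraticMap.polar ⇑QA o a • y := by
  funext k
  show (JA *ᵥ o) ⬝ᵥ (fun i => a i * y k) = QuadraticMap.polar ⇑QA o a * y k
  rw [show (fun i => a i * y k) = y k • a from funext fun i => mul_comm _ _, dotProduct_smul, H.gA.dot_polar,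
    smul_eq_mul, mul_comm]

/-- Every anisotropic vector lies in an orthogonal basis. -/
theorem exists_ortho {a : α → F} (ha : QA a ≠ 0) : ∃ b c, OrthA QA a b c := by
  classical
  have e1 := mul_ne_zero H.two ha
  obtain ⟨pr, hpr⟩ : ∃ pr : (α → F) → (α → F),
      ∀ x, pr x = x - (QuadraticMap.polar ⇑QA a x / (2 * QA a)) • a := ⟨_, fun _ => rfl⟩
  have hpa : ∀ x, QuadraticMap.polar ⇑QA a (pr x) = 0 := fun x => by
    rw [hpr, b_sub_right, b_smul_right, b_self, div_mul_cancel₀ _ e1, sub_self]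
  have perp : ∀ x y, QuadraticMap.polar ⇑QA a y = 0 →
      QuadraticMap.polar ⇑QA y (pr x) = QuadraticMap.polar ⇑QA y x := fun x y hy => by
    rw [hpr, b_sub_right, b_smul_right, b_comm y a, hy, mul_zero, sub_zero]
  obtain ⟨b, hab, hb⟩ : ∃ b, QuadraticMap.polar ⇑QA a b = 0 ∧ QA b ≠ 0 := by
    by_contra hc
    push Not at hc
    obtain ⟨y, hy, hy'⟩ : ∃ y, QuadraticMap.polar ⇑QA a y = 0 ∧ y ≠ 0 := by
      obtain ⟨y, hy, hy0⟩ := (orth QA (Submodule.span F (({a} : Finset (α → F)) : Set (α → F)))).exists_mem_ne_zero_of_ne_bot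
        fun e => by
          have h := finrank_orth_span H.gA.nd ({a} : Finset (α → F))
          rw [e, finrank_bot, H.dimA, Finset.card_singleton] at h
          omega
      exact ⟨y, mem_orth_span.1 hy a (by simp), hy0⟩
    refine hy' (H.gA.nd y fun x => ?_)
    have h := hc (y + pr x) (by rw [b_add_right, hy, hpa, add_zero])
    rw [q_add, hc y hy, hc _ (hpa x), zero_add, zero_add] at h
    rwa [← perp x y hy]
  obtain ⟨c, hc, hc0⟩ := (orth QA (Submodule.span F (({a, b} : Finset (α → F)) : Set (α → F)))).exists_mem_ne_zero_of_ne_bot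
    fun e => by
      have h := finrank_orth_span H.gA.nd ({a, b} : Finset (α → F))
      have := (Finset.card_le_two : ({a, b} : Finset (α → F)).card ≤ 2)
      rw [e, finrank_bot, H.dimA] at h
      omega
  have hac : QuadraticMap.polar ⇑QA a c = 0 := mem_orth_span.1 hc a (by simp)
  have hbc : QuadraticMap.polar ⇑QA b c = 0 := mem_orth_span.1 hc b (by simp)
  refine ⟨b, c, ha, hb, fun qc => hc0 (H.gA.nd c fun x => ?_), hab, hac, hbc⟩
  have e2 := mul_ne_zero H.two hb
  obtain ⟨d, hd⟩ : ∃ d, d = pr x - (QuadraticMap.polar ⇑QA b (pr x) / (2 * QA b)) • b := ⟨_, rfl⟩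
  have had : QuadraticMap.polar ⇑QA a d = 0 := by
    rw [hd, b_sub_right, b_smul_right, hpa, hab, mul_zero, sub_zero]
  have hbd : QuadraticMap.polar ⇑QA b d = 0 := by
    rw [hd, b_sub_right, b_smul_right, b_self, div_mul_cancel₀ _ e2, sub_self]
  have hcd : QuadraticMap.polar ⇑QA c x = QuadraticMap.polar ⇑QA c d := by
    rw [hd, b_sub_right, b_smul_right, b_comm c b, hbc, mul_zero, sub_zero, perp x c hac]
  rw [hcd]
  by_contra hne
  have hli : LinearIndependent F ![a, b, c, d] := by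
    rw [Fintype.linearIndependent_iff]
    intro g hg
    simp only [Fin.sum_univ_four, Matrix.cons_val_zero, Matrix.cons_val_one, Matrix.cons_val] at hg
    have k1 := congrArg (QuadraticMap.polar ⇑QA a) hg
    have k2 := congrArg (QuadraticMap.polar ⇑QA b) hg
    have k3 := congrArg (QuadraticMap.polar ⇑QA c) hg
    simp only [b_add_right, b_smul_right, b_zero_right, b_self, hab, hac, hbc, had, hbd, qc, b_comm b a, b_comm c a,
      b_comm c b, mul_zero, add_zero, zero_add] at k1 k2 k3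
    have g0 := (mul_eq_zero.1 k1).resolve_right e1
    have g1 := (mul_eq_zero.1 k2).resolve_right e2
    have g3 := (mul_eq_zero.1 k3).resolve_right hne
    intro i
    fin_cases i
    · exact g0
    · exact g1
    · rw [g0, g1, g3, zero_smul, zero_smul, zero_smul, zero_add, zero_add, add_zero, smul_eq_zero] at hg
      exact hg.resolve_right hc0
    · exact g3
  have := hli.fintype_card_le_finrank
  rw [Fintype.card_fin, H.dimA] at this
  omega

theorem resolveO {a b c : α → F} (ho : OrthA QA a b c) (v : α → F) :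
    v = ((2 * QA a)⁻¹ * QuadraticMap.polar ⇑QA a v) • a + ((2 * QA b)⁻¹ * QuadraticMap.polar ⇑QA b v) • b +
      ((2 * QA c)⁻¹ * QuadraticMap.polar ⇑QA c v) • c := by
  have e1 := mul_ne_zero H.two ho.qa
  have e2 := mul_ne_zero H.two ho.qb
  have e3 := mul_ne_zero H.two ho.qc
  have hli : LinearIndependent F ![a, b, c] := by
    rw [Fintype.linearIndependent_iff]
    intro g hg
    simp only [Fin.sum_univ_three, Matrix.cons_val_zero, Matrix.cons_val_one, Matrix.cons_val] at hg
    have k1 := congrArg (QuadraticMap.polar ⇑QA a) hg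
    have k2 := congrArg (QuadraticMap.polar ⇑QA b) hg
    have k3 := congrArg (QuadraticMap.polar ⇑QA c) hg
    simp only [b_add_right, b_smul_right, b_zero_right, b_self, ho.ab, ho.ac, ho.bc, b_comm b a, b_comm c a,
      b_comm c b, mul_zero, add_zero, zero_add] at k1 k2 k3
    intro i
    fin_cases i
    · exact (mul_eq_zero.1 k1).resolve_right e1
    · exact (mul_eq_zero.1 k2).resolve_right e2
    · exact (mul_eq_zero.1 k3).resolve_right e3
  have hspan := hli.span_eq_top_of_card_eq_finrank (by rw [Fintype.card_fin, H.dimA])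
  have hx : v ∈ Submodule.span F (Set.range ![a, b, c]) := hspan ▸ Submodule.mem_top
  obtain ⟨g, rfl⟩ := (Submodule.mem_span_range_iff_exists_fun F).1 hx
  simp only [Fin.sum_univ_three, Matrix.cons_val_zero, Matrix.cons_val_one, Matrix.cons_val, b_add_right,
    b_smul_right, b_self, ho.ab, ho.ac, ho.bc, b_comm b a, b_comm c a, b_comm c b, mul_zero, add_zero, zero_add]
  have := H.two
  have := ho.qa
  have := ho.qb
  have := ho.qc
  match_scalars <;> field_simp

theorem expandO {a b c : α → F} (ho : OrthA QA a b c) (x : α × β → F) :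
    x = (2 * QA a)⁻¹ • ten a (ctrA JA a x) + (2 * QA b)⁻¹ • ten b (ctrA JA b x) +
      (2 * QA c)⁻¹ • ten c (ctrA JA c x) := by
  funext ⟨i, k⟩
  have e := congrFun (H.resolveO ho fun i => x (i, k)) i
  simp only [Pi.add_apply, Pi.smul_apply, smul_eq_mul, ← H.gA.dot_polar] at e
  show x (i, k) = (2 * QA a)⁻¹ * (a i * ctrA JA a x k) + (2 * QA b)⁻¹ * (b i * ctrA JA b x k) +
    (2 * QA c)⁻¹ * (c i * ctrA JA c x k)
  rw [show ctrA JA a x k = (JA *ᵥ a) ⬝ᵥ fun i => x (i, k) from rfl,
    show ctrA JA b x k = (JA *ᵥ b) ⬝ᵥ fun i => x (i, k) from rfl,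
    show ctrA JA c x k = (JA *ᵥ c) ⬝ᵥ fun i => x (i, k) from rfl, e]
  ring

theorem ext_left {g h : Grp Q} (he : ∀ a y, ap g (ten a y) = ap h (ten a y)) : g = h :=
  ext_ap fun x => by
    obtain ⟨w, hw, hw0⟩ := H.exists_singB
    obtain ⟨z, v, hf⟩ := H.exists_frameB hw hw0
    exact congrArg (ap · x) (H.ext_grp hf (fun a => he a _) (fun a => he a _) fun a => he a _)

/-- A map keeping the products of pure vectors keeps the form. -/
theorem iso_of_pure {X : Matrix (α × β) (α × β) F}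
    (h : ∀ a a' y y', QuadraticMap.polar ⇑Q (X *ᵥ ten a y) (X *ᵥ ten a' y') =
      QuadraticMap.polar ⇑Q (ten a y) (ten a' y')) (x : α × β → F) : Q (X *ᵥ x) = Q x := by
  refine H.iso_of_gram (Matrix.ext fun p q => ?_) x
  obtain ⟨i, k⟩ := p
  obtain ⟨j, l⟩ := q
  have e := h (Pi.single i 1) (Pi.single j 1) (Pi.single k 1) (Pi.single l 1)
  rw [← single_eq_ten, ← single_eq_ten, H.polar, H.polar, Matrix.mulVec_single_one, Matrix.mulVec_single_one,
    Matrix.mulVec_single_one, single_dotProduct, one_mul] at e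
  rw [Matrix.mul_assoc, Matrix.mul_apply]
  exact e

/-- A Kronecker product isometry taking `a ⊗ F^β` into `b ⊗ F^β`, normalised. -/
theorem tens_split {g : Grp Q} (hT : Tens (val g)) {a b : α → F} (ha : QA a ≠ 0) (hb : QA b ≠ 0)
    (hab : ∀ y, ∃ y', ap g (ten a y) = ten b y') :
    ∃ (S : Matrix α α F) (T : Matrix β β F) (μ : F), μ ≠ 0 ∧ val g = S ⊗ₖ T ∧ S *ᵥ a = b ∧
      (∀ u v, QuadraticMap.polar ⇑QA (S *ᵥ u) (S *ᵥ v) = μ * QuadraticMap.polar ⇑QA u v) ∧
      ∀ u v, QuadraticMap.polar ⇑QB (T *ᵥ u) (T *ᵥ v) = μ⁻¹ * QuadraticMap.polar ⇑QB u v := by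
  obtain ⟨S, T, hST⟩ := hT
  obtain ⟨w, hw, hw0⟩ := H.exists_singB
  obtain ⟨z, v, hf⟩ := H.exists_frameB hw hw0
  have hap : ∀ u v, ap g (ten u v) = ten (S *ᵥ u) (T *ᵥ v) := fun u v => by
    show val g *ᵥ ten u v = _
    rw [hST, kron_mulVec_ten]
  have key : ∀ u u' v v', QuadraticMap.polar ⇑QA (S *ᵥ u) (S *ᵥ u') * QuadraticMap.polar ⇑QB (T *ᵥ v) (T *ᵥ v') =
      QuadraticMap.polar ⇑QA u u' * QuadraticMap.polar ⇑QB v v' := fun u u' v v' => by
    rw [← H.polar_ten, ← H.polar_ten, ← hap, ← hap, ap_b]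
  have hne : ∀ u v, u ≠ 0 → v ≠ 0 → ten u v ≠ (0 : α × β → F) := fun u v hu hv e => hv
    (ten_cancel_left hu (e.trans (ten_zero_right u).symm))
  have hTw : T *ᵥ w ≠ 0 := fun e => hne a w (H.aniso_ne ha) hw0 (ap_inj g (by
    rw [hap, e, ten_zero_right, ap_zero]))
  obtain ⟨l, hl⟩ : ∃ l, S *ᵥ a = l • b := by
    obtain ⟨y', hy'⟩ := hab w
    rw [hap] at hy'
    exact left_of_ten_eq hy' hTw
  have hl0 : l ≠ 0 := fun e => hne a w (H.aniso_ne ha) hw0 (ap_inj g (by
    rw [hap, hl, e, zero_smul, ten_zero_left, ap_zero]))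
  obtain ⟨c, hc⟩ : ∃ c, c = QuadraticMap.polar ⇑QB (T *ᵥ w) (T *ᵥ z) := ⟨_, rfl⟩
  have k1 : ∀ u u', QuadraticMap.polar ⇑QA (S *ᵥ u) (S *ᵥ u') * c = QuadraticMap.polar ⇑QA u u' := fun u u' => by
    rw [hc, key, hf.wz, mul_one]
  have e1 := mul_ne_zero H.two ha
  have hc0 : c ≠ 0 := fun e => e1 (by rw [← b_self, ← k1, e, mul_zero])
  refine ⟨l⁻¹ • S, l • T, (l * l * c)⁻¹, inv_ne_zero (mul_ne_zero (mul_ne_zero hl0 hl0) hc0), ?_, ?_,
    fun u v => ?_, fun u v => ?_⟩
  · rw [Matrix.smul_kronecker, Matrix.kronecker_smul, smul_smul, inv_mul_cancel₀ hl0, one_smul, hST]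
  · rw [Matrix.smul_mulVec, hl, smul_smul, inv_mul_cancel₀ hl0, one_smul]
  · rw [Matrix.smul_mulVec, Matrix.smul_mulVec, b_smul_left, b_smul_right, ← k1 u v]
    field_simp
  · have k2 := key a a u v
    rw [← k1 a a, b_self] at k2
    have hs : QA (S *ᵥ a) ≠ 0 := by rw [hl, q_smul]; exact mul_ne_zero (mul_ne_zero hl0 hl0) hb
    have k3 : QuadraticMap.polar ⇑QB (T *ᵥ u) (T *ᵥ v) = c * QuadraticMap.polar ⇑QB u v := by
      refine mul_left_cancel₀ (mul_ne_zero H.two hs) ?_
      linear_combination k2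
    rw [Matrix.smul_mulVec, Matrix.smul_mulVec, b_smul_left, b_smul_right, k3, inv_inv]
    ring

end Hyp

end CfsgLib.Classical.TensorOrthNine
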