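import Cfsg.Agent.Lib.Classical.TensorOrthNine.Central

set_option autoImplicit false
set_option linter.unusedSectionVars false

/-!
When no central element lies in the group, its elements stabilising `F^α ⊗ w` for a singular `w` are
Kronecker products.
-/

namespace CfsgLib.Classical.TensorOrthNine

open Matrix CfsgLib.Classical.TensorMax CfsgLib.Orth
open CfsgLib.Classical.TensorSymp (adj ten kc_mulVec kron_mulVec_ten ten_add_left ten_add_right ten_sub_left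
  ten_sub_right ten_smul_left ten_smul_right)
open CfsgLib.Classical.TensorOrth (Gram rk)
open scoped MatrixGroups Kronecker

variable {F : Type*} [Field F] {α β : Type} [Fintype α] [DecidableEq α] [Fintype β] [DecidableEq β]

/-- No central element lies in the group. -/
def Small {Q : QuadraticForm F (α × β → F)} (QB : QuadraticForm F (β → F)) (M : Subgroup (Grp Q)) : Prop :=
  ∀ w z v : β → F, FrameB QB w z v → ∀ C : Matrix α α F, Cz M w z v C → C = 0

theorem FrameA.neg {QA : QuadraticForm F (α → F)} {a₀ a₁ a₂ : α → F} (hf : FrameA QA a₀ a₁ a₂) :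
    FrameA QA a₀ (-a₁) a₂ :=
  ⟨hf.q0, hf.q2, hf.p02, by rw [← neg_one_smul F a₁, b_smul_right, hf.p01, mul_zero],
    by rw [← neg_one_smul F a₁, b_smul_right, hf.p21, mul_zero],
    by rw [QuadraticMap.map_neg]; exact hf.q1⟩

namespace Hyp

variable [Finite F] {QA : QuadraticForm F (α → F)} {QB : QuadraticForm F (β → F)} {JA : Matrix α α F}
  {JB : Matrix β β F} {Q : QuadraticForm F (α × β → F)} {M : Subgroup (Grp Q)} (H : Hyp QA QB JA JB Q M)
  {w z v : β → F} (hf : FrameB QB w z v)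
include H hf

theorem lev_scalar (hS : Small QB M) {h : Grp Q} (hh : h ∈ M) {E : Matrix α α F}
    (hl : Lev w v h E) : ∃ c : F, E = c • 1 := by
  by_contra hc
  push Not at hc
  obtain ⟨C, hC, hCz⟩ := H.cz_of_level hf hh hl hc
  exact hC (hS w z v hf C hCz)

/-- A matrix moved by scalars only is a scalar. -/
theorem scalar_of_shift {Y : Matrix α α F}
    (h : ∀ S ∈ El QA, ∃ e : F, Y * val S = val S * Y + e • val S) : ∃ c : F, Y = c • 1 := by
  have hinv : ∀ S : Grp QA, val S⁻¹ * val S = 1 := fun S => (S : GL α F).inv_mul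
  have hinv' : ∀ S : Grp QA, val S * val S⁻¹ = 1 := fun S => (S : GL α F).mul_inv
  have hk : ∀ {a₀ a₁ a₂ : α → F}, FrameA QA a₀ a₁ a₂ → QuadraticMap.polar ⇑QA a₀ (Y *ᵥ a₀) = 0 := by
    intro a₀ a₁ a₂ hA
    obtain ⟨S, hS, s0, s1, s2, i0, i1, i2⟩ := H.second_diff hf hA
    obtain ⟨e, he⟩ := h S hS
    have e1 : val S * Y * val S⁻¹ = Y - e • 1 := by
      have := congrArg (· * val S⁻¹) he
      simp only [Matrix.add_mul, Matrix.smul_mul, Matrix.mul_assoc, hinv', Matrix.mul_one] at this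
      rw [Matrix.mul_assoc]
      exact eq_sub_of_add_eq this.symm
    have e2 : val S⁻¹ * Y * val S⁻¹⁻¹ = Y + e • 1 := by
      rw [inv_inv, Matrix.mul_assoc, he, Matrix.mul_add, Matrix.mul_smul, ← Matrix.mul_assoc, hinv, Matrix.one_mul]
    have hD : val S * Y * val S⁻¹ + val S⁻¹ * Y * val S⁻¹⁻¹ - (Y + Y) = 0 := by rw [e1, e2]; abel
    rw [H.expandA hA Y] at hD
    simp only [Matrix.mul_add, Matrix.add_mul, Matrix.mul_smul, Matrix.smul_mul, H.gA.rk_conj, s0, s1, s2, i0, i1,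
      i2, H.gA.rk_add_left, H.rk_sub_left, H.gA.rk_smul_left, H.rk_add_right, H.rk_sub_right,
      H.gA.rk_smul_right] at hD
    have := congrArg (fun X => QuadraticMap.polar ⇑QA a₁ (X *ᵥ a₁)) hD
    simp only [Matrix.add_mulVec, Matrix.sub_mulVec, Matrix.smul_mulVec, H.gA.rk_mulVec, Matrix.zero_mulVec,
      b_add_right, b_sub_right, b_smul_right, b_zero_right, hA.p01, hA.p21, b_comm a₁ a₀, b_comm a₁ a₂, b_self,
      mul_zero, add_zero, zero_add, sub_zero, zero_sub, neg_zero] at this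
    have hne : (2 : F) * (2 * QA a₁ * (2 * QA a₁)) ≠ 0 :=
      mul_ne_zero H.two (mul_ne_zero (mul_ne_zero H.two hA.q1) (mul_ne_zero H.two hA.q1))
    refine (mul_eq_zero.1 (?_ : (2 : F) * (2 * QA a₁ * (2 * QA a₁)) *
      QuadraticMap.polar ⇑QA a₀ (Y *ᵥ a₀) = 0)).resolve_left hne
    linear_combination this
  obtain ⟨c, hc⟩ := H.lin.scalar_of_sing (S := Y + adj JA Y) (by rw [H.gA.adj_add, H.gA.adj_adj, add_comm])
    fun u hu => by
      by_cases hu0 : u = 0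
      · rw [hu0, b_zero_left]
      obtain ⟨a₁, a₂, hA⟩ := H.exists_frameA hu hu0
      rw [Matrix.add_mulVec, b_add_right, H.gA.pol_adj, hk hA, add_zero]
  obtain ⟨K, hK⟩ : ∃ K, K = Y - ((2 : F)⁻¹ * c) • 1 := ⟨_, rfl⟩
  have hKa : adj JA K = -K := by
    have h2 := H.two
    rw [hK, H.gA.adj_sub, H.gA.adj_smul, H.gA.adj_one, eq_sub_of_add_eq' hc]
    match_scalars <;> field_simp <;> ring
  have hKc : ∀ S ∈ El QA, val S * K * val S⁻¹ = K := by
    intro S hS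
    obtain ⟨e, he⟩ := h S hS
    have e1 : val S * K * val S⁻¹ = K - e • 1 := by
      have := congrArg (· * val S⁻¹) he
      simp only [Matrix.add_mul, Matrix.smul_mul, Matrix.mul_assoc, hinv', Matrix.mul_one] at this
      rw [hK, Matrix.mul_sub, Matrix.sub_mul, Matrix.mul_smul, Matrix.smul_mul, Matrix.mul_one, hinv',
        Matrix.mul_assoc, eq_sub_of_add_eq this.symm]
      abel
    have e2 := congrArg (adj JA) e1
    rw [H.gA.adj_mul, H.gA.adj_mul, hKa, H.gA.adj_sub, hKa, H.gA.adj_smul, H.gA.adj_one, H.gA.adj_grp, H.gA.adj_grp,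
      inv_inv, Matrix.neg_mul, Matrix.mul_neg, ← Matrix.mul_assoc] at e2
    change -(val S * K * val S⁻¹) = -K - e • (1 : Matrix α α F) at e2
    rw [e1] at e2
    have h0 : e • (1 : Matrix α α F) = 0 := by
      refine (smul_eq_zero.1 (?_ : (2 : F) • (e • (1 : Matrix α α F)) = 0)).resolve_left H.two
      linear_combination (norm := module) e2
    rw [e1, h0, sub_zero]
  refine ⟨(2 : F)⁻¹ * c, sub_eq_zero.1 (hK ▸ ?_)⟩
  have hs : ∀ x y, QuadraticMap.polar ⇑QA x (K *ᵥ y) = -QuadraticMap.polar ⇑QA y (K *ᵥ x) := fun x y => by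
    rw [← H.gA.pol_adj K x y, hKa, Matrix.neg_mulVec, ← neg_one_smul F (K *ᵥ y), b_smul_right]; ring
  have hd : ∀ x, QuadraticMap.polar ⇑QA x (K *ᵥ x) = 0 := fun x => by
    have : (2 : F) * QuadraticMap.polar ⇑QA x (K *ᵥ x) = 0 := by linear_combination hs x x
    exact (mul_eq_zero.1 this).resolve_left H.two
  have rel : ∀ {a₀ a₁ a₂ : α → F}, FrameA QA a₀ a₁ a₂ →
      QuadraticMap.polar ⇑QA a₀ (K *ᵥ a₁) = 2 * QuadraticMap.polar ⇑QA a₀ (K *ᵥ a₂) := by
    intro a₀ a₁ a₂ hA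
    obtain ⟨S, hS, s0, s1, s2, i0, i1, i2⟩ := H.second_diff hf hA
    have e : K *ᵥ ap S a₂ = ap S (K *ᵥ a₂) := by
      conv_lhs => rw [← hKc S hS]
      rw [← Matrix.mulVec_mulVec, ← Matrix.mulVec_mulVec]
      show ap S (K *ᵥ ap S⁻¹ (ap S a₂)) = _
      rw [ap_inv_ap]
    have e' := congrArg (QuadraticMap.polar ⇑QA a₁) e
    rw [b_comm a₁ (ap S _), ap_b_left, b_comm _ (ap S⁻¹ a₁), s2, i1, Matrix.mulVec_sub, Matrix.mulVec_add,
      Matrix.mulVec_smul, b_sub_right, b_add_right, b_smul_right, b_add_left, b_smul_left, hd, hs a₁ a₀] at e'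
    refine mul_left_cancel₀ hA.q1 ?_
    linear_combination e'
  have zero : ∀ {a₀ a₁ a₂ : α → F}, FrameA QA a₀ a₁ a₂ →
      QuadraticMap.polar ⇑QA a₀ (K *ᵥ a₁) = 0 ∧ QuadraticMap.polar ⇑QA a₀ (K *ᵥ a₂) = 0 := by
    intro a₀ a₁ a₂ hA
    have r1 := rel hA
    have r2 := rel hA.neg
    rw [Matrix.mulVec_neg, ← neg_one_smul F (K *ᵥ a₁), b_smul_right] at r2
    have h4 : (2 : F) * (2 * QuadraticMap.polar ⇑QA a₀ (K *ᵥ a₂)) = 0 := by linear_combination -(r1 + r2)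
    have h0 := (mul_eq_zero.1 h4).resolve_left H.two
    exact ⟨r1.trans h0, (mul_eq_zero.1 h0).resolve_left H.two⟩
  obtain ⟨u, hu, hu0⟩ := H.gA.exists_sing (by rw [H.cardA])
  obtain ⟨a₁, a₂, hA⟩ := H.exists_frameA hu hu0
  obtain ⟨r0, p0⟩ := zero hA
  obtain ⟨r2, p2⟩ := zero hA.swap
  rw [H.expandA hA K]
  simp [hd, hs a₁, r0, r2, p0, p2]

theorem ctr_w_perp {g : Grp Q} {A A' : Matrix α α F} (hA : ∀ a, ap g (ten a w) = ten (A *ᵥ a) w)
    (hAA : A * A' = 1) {y : β → F} (hy : QuadraticMap.polar ⇑QB w y = 0) (a : α → F) :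
    ctr JB w (ap g (ten a y)) = 0 := by
  refine H.gA.nd _ fun b => ?_
  rw [← H.polar_ctr, show ten b w = ap g (ten (A' *ᵥ b) w) by rw [hA, Matrix.mulVec_mulVec, hAA, Matrix.one_mulVec],
    ap_b, H.polar_ten, b_comm y w, hy, mul_zero]

/-- The image modulo `F^α ⊗ w` of the block. -/
theorem mix (hS : Small QB M) {g : Grp Q} (hg : g ∈ M) {A A' : Matrix α α F}
    (hA : ∀ a, ap g (ten a w) = ten (A *ᵥ a) w) (hAA : A * A' = 1) :
    ∃ c : F, ∀ a, ctr JB v (ap g⁻¹ (ten a v)) = c • (A' *ᵥ a) := by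
  have hinv : ∀ a, ap g⁻¹ (ten a w) = ten (A' *ᵥ a) w := fun a => ap_inj g (by
    rw [ap_ap_inv, hA, Matrix.mulVec_mulVec, hAA, Matrix.one_mulVec])
  obtain ⟨t, ht, et⟩ := H.exists_right hf
  have hinvA : A' * A = 1 := mul_eq_one_comm.1 hAA
  obtain ⟨G, hG⟩ : ∃ G : Matrix α α F, G = kr α (JB *ᵥ v) * val g⁻¹ * kc α v := ⟨_, rfl⟩
  have hGa : ∀ a, G *ᵥ a = ctr JB v (ap g⁻¹ (ten a v)) := fun a => by
    rw [hG, ← Matrix.mulVec_mulVec, ← Matrix.mulVec_mulVec, kc_mulVec]; rfl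
  have hlev : ∀ a, ap (g * t * g⁻¹) (ten a v) = ten a v + ten (((-1 : F) • (A * G)) *ᵥ a) w := by
    intro a
    have e : ap t (ap g⁻¹ (ten a v)) = ap g⁻¹ (ten a v) - ten (G *ᵥ a) w := by
      have h1 := H.expand hf (ap g⁻¹ (ten a v))
      have h2 := H.ctr_w_perp hf hinv hinvA hf.w1 a
      rw [h2, ten_zero_left, add_zero, ← hGa] at h1
      conv_lhs => rw [h1]
      conv_rhs => rw [h1]
      rw [ap_add, ap_smul, et.fix, et.e1, Matrix.smul_mulVec, Matrix.one_mulVec, ten_smul_left]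
      have := H.two
      have := hf.q1
      match_scalars <;> field_simp <;> ring
    rw [ap_mul, ap_mul, e, ap_sub, ap_ap_inv, hA, Matrix.mulVec_mulVec, Matrix.smul_mulVec, ten_smul_left]
    module
  have hl : Lev w v (g * t * g⁻¹) ((-1 : F) • (A * G)) := by
    refine ⟨fun a => ?_, hlev⟩
    rw [ap_mul, ap_mul, hinv, et.fix, hA, Matrix.mulVec_mulVec, hAA, Matrix.one_mulVec]
  obtain ⟨c, hc⟩ := H.lev_scalar hf hS (M.mul_mem (M.mul_mem hg ht) (M.inv_mem hg)) hl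
  refine ⟨-c, fun a => ?_⟩
  rw [← hGa, ← Matrix.smul_mulVec]
  congr 1
  have := congrArg (A' * ·) hc
  simp only [Matrix.mul_smul, ← Matrix.mul_assoc, hinvA, Matrix.one_mul, Matrix.mul_one] at this
  rw [neg_smul, ← this, neg_one_smul, neg_neg]

/-- The block of an element stabilising `F^α ⊗ w`. -/
theorem blocks (hS : Small QB M) {g : Grp Q} (hg : g ∈ M) {A A' : Matrix α α F}
    (hA : ∀ a, ap g (ten a w) = ten (A *ᵥ a) w) (hAA : A * A' = 1) :
    ∃ y : β → F, QuadraticMap.polar ⇑QB w y = 0 ∧ QuadraticMap.polar ⇑QB z y = 0 ∧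
      ∀ a, ap g⁻¹ (ten a v) = ten (ctr JB z (ap g⁻¹ (ten a v))) w + ten (A' *ᵥ a) y := by
  obtain ⟨c, h1⟩ := H.mix hf hS hg hA hAA
  refine ⟨((2 * QB v)⁻¹ * c) • v, by rw [b_smul_right, hf.w1, mul_zero],
    by rw [b_smul_right, hf.z1, mul_zero], fun a => ?_⟩
  have hinv : ∀ a, ap g⁻¹ (ten a w) = ten (A' *ᵥ a) w := fun a => ap_inj g (by
    rw [ap_ap_inv, hA, Matrix.mulVec_mulVec, hAA, Matrix.one_mulVec])
  conv_lhs => rw [H.expand hf (ap g⁻¹ (ten a v)), H.ctr_w_perp hf hinv (mul_eq_one_comm.1 hAA) hf.w1, h1]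
  rw [ten_zero_left, add_zero, ten_smul_left, ten_smul_right]
  module

/-- The first block is a similitude. -/
theorem block_simil (hS : Small QB M) {g : Grp Q} (hg : g ∈ M) {A A' : Matrix α α F}
    (hA : ∀ a, ap g (ten a w) = ten (A *ᵥ a) w) (hAA : A * A' = 1) :
    ∃ μ : F, μ ≠ 0 ∧ ∀ a b, QuadraticMap.polar ⇑QA (A *ᵥ a) (A *ᵥ b) = μ * QuadraticMap.polar ⇑QA a b := by
  have hinv : ∀ a, ap g⁻¹ (ten a w) = ten (A' *ᵥ a) w := fun a => ap_inj g (by
    rw [ap_ap_inv, hA, Matrix.mulVec_mulVec, hAA, Matrix.one_mulVec])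
  obtain ⟨y, yw, -, hy⟩ := H.blocks hf hS (M.inv_mem hg) hinv (mul_eq_one_comm.1 hAA)
  rw [inv_inv] at hy
  have key : ∀ a b, QuadraticMap.polar ⇑QA (A *ᵥ a) (A *ᵥ b) * (2 * QB y) =
      QuadraticMap.polar ⇑QA a b * (2 * QB v) := fun a b => by
    have e := ap_b g (ten a v) (ten b v)
    rw [hy a, hy b, b_add_left, b_add_right, b_add_right] at e
    simp only [H.polar_ten, b_self_zero hf.qw, yw, b_comm y w, b_self, mul_zero, zero_add] at e
    exact e
  have q1 := mul_ne_zero H.two hf.q1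
  obtain ⟨a, b, hab⟩ : ∃ a b, QuadraticMap.polar ⇑QA a b ≠ 0 := by
    obtain ⟨u, hu, hu0⟩ := H.gA.exists_sing (by rw [H.cardA])
    obtain ⟨f, -, hf'⟩ := exists_partner H.gA.nd hu hu0
    exact ⟨u, f, by rw [hf']; exact one_ne_zero⟩
  have hy0 : (2 : F) * QB y ≠ 0 := fun e => mul_ne_zero hab q1 (by rw [← key, e, mul_zero])
  exact ⟨2 * QB v / (2 * QB y), div_ne_zero q1 hy0, fun a b => by
    rw [div_mul_eq_mul_div, eq_div_iff hy0, key, mul_comm]⟩

/-- Conjugation by a similitude preserves the root generated group. -/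
theorem el_conj {A A' : Matrix α α F} (hAA : A * A' = 1) {μ : F} (hμ : μ ≠ 0)
    (hsim : ∀ a b, QuadraticMap.polar ⇑QA (A *ᵥ a) (A *ᵥ b) = μ * QuadraticMap.polar ⇑QA a b)
    {S : Grp QA} (hS : S ∈ El QA) : ∃ S' ∈ El QA, val S' = A * val S * A' := by
  have hA'A : A' * A = 1 := mul_eq_one_comm.1 hAA
  have hq : ∀ a, QA (A *ᵥ a) = μ * QA a := fun a => by
    refine mul_left_cancel₀ H.two ?_
    rw [← b_self, hsim, b_self]; ring
  induction hS using Subgroup.closure_induction with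
  | mem g hg =>
    obtain ⟨u, v, h⟩ := hg
    obtain ⟨S', hS'⟩ := exists_siegel H.gA.nd (u := A *ᵥ u) (by rw [hq, h.1, mul_zero]) (v := μ⁻¹ • (A *ᵥ v))
      (by rw [b_smul_right, hsim, h.2.1, mul_zero, mul_zero])
    refine ⟨S', siegel_mem_El hS', Matrix.ext_iff_mulVec.2 fun x => ?_⟩
    obtain ⟨y, rfl⟩ : ∃ y, x = A *ᵥ y := ⟨A' *ᵥ x, by rw [Matrix.mulVec_mulVec, hAA, Matrix.one_mulVec]⟩
    rw [← Matrix.mulVec_mulVec, Matrix.mulVec_mulVec y A' A, hA'A, Matrix.one_mulVec, ← Matrix.mulVec_mulVec]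
    show ap S' (A *ᵥ y) = A *ᵥ ap g y
    rw [hS'.2.2, h.2.2]
    simp only [Matrix.mulVec_sub, Matrix.mulVec_add, Matrix.mulVec_smul, b_smul_right, hsim, q_smul, hq, smul_smul]
    match_scalars <;> field_simp
  | one => exact ⟨1, (El QA).one_mem, by
      rw [show val (1 : Grp QA) = 1 from rfl, Matrix.mul_one, hAA]⟩
  | mul g h _ _ hg hh =>
    obtain ⟨x, hx, ex⟩ := hg
    obtain ⟨y, hy, ey⟩ := hh
    refine ⟨x * y, (El QA).mul_mem hx hy, ?_⟩
    show val x * val y = A * (val g * val h) * A'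
    rw [ex, ey, show A * val g * A' * (A * val h * A') = A * val g * (A' * A) * (val h * A') by
      simp only [Matrix.mul_assoc], hA'A, Matrix.mul_one]
    simp only [Matrix.mul_assoc]
  | inv g _ hg =>
    obtain ⟨x, hx, ex⟩ := hg
    refine ⟨x⁻¹, (El QA).inv_mem hx, ?_⟩
    have e : val x * (A * val g⁻¹ * A') = 1 := by
      rw [ex, show A * val g * A' * (A * val g⁻¹ * A') = A * val g * (A' * A) * (val g⁻¹ * A') by
        simp only [Matrix.mul_assoc], hA'A, Matrix.mul_one, Matrix.mul_assoc, ← Matrix.mul_assoc (val g),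
        show val g * val g⁻¹ = 1 from (g : GL α F).mul_inv, Matrix.one_mul, hAA]
    calc val x⁻¹ = val x⁻¹ * (val x * (A * val g⁻¹ * A')) := by rw [e, Matrix.mul_one]
      _ = _ := by rw [← Matrix.mul_assoc, show val x⁻¹ * val x = 1 from (x : GL α F).inv_mul, Matrix.one_mul]

/-- The inverse maps the first block to a pure block. -/
theorem inv_image (hS : Small QB M) {g : Grp Q} (hg : g ∈ M) {A A' : Matrix α α F}
    (hA : ∀ a, ap g (ten a w) = ten (A *ᵥ a) w) (hAA : A * A' = 1) :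
    ∃ u : β → F, QuadraticMap.polar ⇑QB w u = 0 ∧ ∀ a, ap g⁻¹ (ten a v) = ten (A' *ᵥ a) u := by
  obtain ⟨y, yw, yz, hy⟩ := H.blocks hf hS hg hA hAA
  obtain ⟨μ, hμ, hsim⟩ := H.block_simil hf hS hg hA hAA
  have hA'A : A' * A = 1 := mul_eq_one_comm.1 hAA
  obtain ⟨X, hX⟩ : ∃ X : Matrix α α F, X = kr α (JB *ᵥ z) * val g⁻¹ * kc α v := ⟨_, rfl⟩
  have hXa : ∀ a, X *ᵥ a = ctr JB z (ap g⁻¹ (ten a v)) := fun a => by
    rw [hX, ← Matrix.mulVec_mulVec, ← Matrix.mulVec_mulVec, kc_mulVec]; rfl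
  simp only [← hXa] at hy
  have hgy : ∀ b, ap g (ten b y) = ten (A *ᵥ b) v - ten ((A * X * A) *ᵥ b) w := by
    intro b
    have e := congrArg (ap g) (hy (A *ᵥ b))
    rw [ap_ap_inv, ap_add, hA, Matrix.mulVec_mulVec, Matrix.mulVec_mulVec, Matrix.mulVec_mulVec _ A', hA'A,
      Matrix.one_mulVec] at e
    rw [e, add_sub_cancel_left]
  obtain ⟨ξ, hξ⟩ : ∃ ξ : F, X * A = ξ • 1 := by
    refine H.scalar_of_shift hf fun S hS' => ?_
    obtain ⟨S', hS'', eS⟩ := H.el_conj hf hAA hμ hsim hS'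
    obtain ⟨x, hx, ex⟩ := H.exists_elA hS'
    obtain ⟨x', hx', ex'⟩ := H.exists_elA hS''
    have hS'inv : val S'⁻¹ = A * val S⁻¹ * A' := by
      have e : val S' * (A * val S⁻¹ * A') = 1 := by
        rw [eS, show A * val S * A' * (A * val S⁻¹ * A') = A * val S * (A' * A) * (val S⁻¹ * A') by
          simp only [Matrix.mul_assoc], hA'A, Matrix.mul_one, Matrix.mul_assoc, ← Matrix.mul_assoc (val S),
          show val S * val S⁻¹ = 1 from (S : GL α F).mul_inv, Matrix.one_mul, hAA]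
      calc val S'⁻¹ = val S'⁻¹ * (val S' * (A * val S⁻¹ * A')) := by rw [e, Matrix.mul_one]
        _ = _ := by rw [← Matrix.mul_assoc, show val S'⁻¹ * val S' = 1 from (S' : GL α F).inv_mul, Matrix.one_mul]
    obtain ⟨k, hk⟩ : ∃ k, k = g * x * g⁻¹ * x'⁻¹ := ⟨_, rfl⟩
    have hkM : k ∈ M := hk ▸ M.mul_mem (M.mul_mem (M.mul_mem hg hx) (M.inv_mem hg)) (M.inv_mem hx')
    have ix : ∀ a b, ap x'⁻¹ (ten a b) = ten (ap S'⁻¹ a) b := fun a b => ap_inj x' (by
      rw [ap_ap_inv, ex', ap_ap_inv])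
    have hinv : ∀ a, ap g⁻¹ (ten a w) = ten (A' *ᵥ a) w := fun a => ap_inj g (by
      rw [ap_ap_inv, hA, Matrix.mulVec_mulVec, hAA, Matrix.one_mulVec])
    have hE1 : ∀ a, ap k (ten a v) = ten a v +
        ten ((A * (val S * X - X * A * val S * A') * val S'⁻¹) *ᵥ a) w := by
      intro a
      rw [hk, ap_mul, ap_mul, ap_mul, ix, hy, ap_add, ex, ex, ap_add, hA, hgy]
      simp only [ap, Matrix.mulVec_mulVec, Matrix.mul_sub, Matrix.sub_mul, Matrix.sub_mulVec, ten_sub_left]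
      have e1 : A * (val S * (A' * val S'⁻¹)) = 1 := by
        rw [← Matrix.mul_assoc (val S), ← Matrix.mul_assoc, ← Matrix.mul_assoc A, ← eS]
        exact (S' : GL α F).mul_inv
      rw [e1, Matrix.one_mulVec]
      simp only [Matrix.mul_assoc]
      abel
    have hfix : ∀ a, ap k (ten a w) = ten a w := fun a => by
      rw [hk, ap_mul, ap_mul, ap_mul, ix, hinv, ex, hA]
      congr 1
      simp only [ap, Matrix.mulVec_mulVec]
      rw [show A * (val S * (A' * val S'⁻¹)) = (A * val S * A') * val S'⁻¹ by simp only [Matrix.mul_assoc], ← eS,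
        show val S' * val S'⁻¹ = 1 from (S' : GL α F).mul_inv, Matrix.one_mulVec]
    obtain ⟨c, hc⟩ := H.lev_scalar hf hS hkM ⟨hfix, hE1⟩
    refine ⟨-c, ?_⟩
    have e := congrArg (fun T => A' * (T * val S') * A) hc
    simp only [Matrix.mul_assoc, Matrix.smul_mul, Matrix.mul_smul, Matrix.one_mul] at e
    rw [← Matrix.mul_assoc (val S'⁻¹), show val S'⁻¹ * val S' = 1 from (S' : GL α F).inv_mul, Matrix.one_mul,
      ← Matrix.mul_assoc A' A, hA'A, Matrix.one_mul, eS, Matrix.sub_mul] at e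
    simp only [Matrix.mul_assoc, hA'A, Matrix.mul_one] at e
    rw [← Matrix.mul_assoc A' A, hA'A, Matrix.one_mul] at e
    rw [Matrix.mul_assoc, neg_smul, ← e]
    abel
  refine ⟨ξ • w + y, by rw [b_add_right, b_smul_right, b_self_zero hf.qw, yw]; ring, fun a => ?_⟩
  have : X = ξ • A' := by
    rw [← Matrix.mul_one X, ← hAA, ← Matrix.mul_assoc, hξ, Matrix.smul_mul, Matrix.one_mul]
  rw [hy, this, Matrix.smul_mulVec, ten_smul_left, ten_add_right, ten_smul_right]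

/-- An element stabilising `F^α ⊗ w` is a Kronecker product. -/
theorem tens_of_stab (hS : Small QB M) {g : Grp Q} (hg : g ∈ M) {A : Matrix α α F}
    (hA : ∀ a, ap g (ten a w) = ten (A *ᵥ a) w) : Tens (val g) := by
  obtain ⟨A', hAA⟩ : ∃ A' : Matrix α α F, A * A' = 1 := by
    have hd : A.det ≠ 0 := fun h0 => by
      obtain ⟨a, ha, ha'⟩ := Matrix.exists_mulVec_eq_zero_iff.2 h0
      have e := hA a
      rw [ha', ten_zero_left] at e
      have e' : ten a w = 0 := ap_inj g (by rw [e, ap_zero])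
      obtain ⟨i, hi⟩ := Function.ne_iff.1 ha
      obtain ⟨k, hk⟩ := Function.ne_iff.1 hf.w_ne
      exact mul_ne_zero hi hk (congrFun e' (i, k))
    exact ⟨A⁻¹, Matrix.mul_nonsing_inv A (Ne.isUnit hd)⟩
  have hA'A : A' * A = 1 := mul_eq_one_comm.1 hAA
  have hinv : ∀ a, ap g⁻¹ (ten a w) = ten (A' *ᵥ a) w := fun a => ap_inj g (by
    rw [ap_ap_inv, hA, Matrix.mulVec_mulVec, hAA, Matrix.one_mulVec])
  obtain ⟨μ, hμ, hsim⟩ := H.block_simil hf hS hg hA hAA
  obtain ⟨u₁, uw1, hu₁⟩ := H.inv_image hf hS hg hA hAA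
  obtain ⟨y₁, -, hy₁⟩ := H.inv_image hf hS (M.inv_mem hg) hinv hA'A
  rw [inv_inv] at hy₁
  have hA' : ∀ a b, QuadraticMap.polar ⇑QA a (A' *ᵥ b) = μ⁻¹ * QuadraticMap.polar ⇑QA (A *ᵥ a) b := fun a b => by
    conv_rhs => rw [← Matrix.one_mulVec b, ← hAA, ← Matrix.mulVec_mulVec, hsim, ← mul_assoc,
      inv_mul_cancel₀ hμ, one_mul]
  have hz : ∀ (a : α → F) (v u : β → F), (∀ b, ap g⁻¹ (ten b v) = ten (A' *ᵥ b) u) →
      ctr JB v (ap g (ten a z)) = (μ⁻¹ * QuadraticMap.polar ⇑QB z u) • (A *ᵥ a) := by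
    intro a v u hu
    refine sub_eq_zero.1 (H.gA.nd _ fun b => ?_)
    rw [b_sub_left, b_smul_left, ← H.polar_ctr, ap_b_left, hu, H.polar_ten, hA']
    ring
  obtain ⟨uz, huz⟩ : ∃ uz, uz = μ⁻¹ • z + ((2 * QB v)⁻¹ * (μ⁻¹ * QuadraticMap.polar ⇑QB z u₁)) • v := ⟨_, rfl⟩
  obtain ⟨P, hP⟩ : ∃ P : Matrix α α F, P = kr α (JB *ᵥ z) * val g * kc α z := ⟨_, rfl⟩
  have hgz : ∀ a, ap g (ten a z) = ten (P *ᵥ a) w + ten (A *ᵥ a) uz := by
    intro a
    conv_lhs => rw [H.expand hf (ap g (ten a z)), hz a w w (fun b => hinv b), hz a v u₁ hu₁]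
    rw [hP, ← Matrix.mulVec_mulVec, ← Matrix.mulVec_mulVec, kc_mulVec, huz, b_comm z w, hf.wz, mul_one,
      ten_add_right, ten_smul_left, ten_smul_left, ten_smul_right, ten_smul_right]
    simp only [smul_smul, add_assoc]
    rfl
  obtain ⟨π, hπ⟩ : ∃ π : F, P = π • A := by
    obtain ⟨c, hc⟩ : ∃ c : F, A' * P = c • 1 := by
      refine H.scalar_of_shift hf fun S hS' => ⟨0, ?_⟩
      obtain ⟨S', hS'', eS⟩ := H.el_conj hf hAA hμ hsim hS'
      obtain ⟨x, hx, ex⟩ := H.exists_elA hS'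
      obtain ⟨x', hx', ex'⟩ := H.exists_elA hS''
      have eA : ∀ b, A *ᵥ ap S (A' *ᵥ b) = ap S' b := fun b => by
        simp only [ap, Matrix.mulVec_mulVec]
        rw [← Matrix.mul_assoc, ← eS]
      obtain ⟨k, hk⟩ : ∃ k, k = g * x * g⁻¹ * x'⁻¹ := ⟨_, rfl⟩
      have hkM : k ∈ M := hk ▸ M.mul_mem (M.mul_mem (M.mul_mem hg hx) (M.inv_mem hg)) (M.inv_mem hx')
      have hback : ∀ (v u : β → F), (∀ b, ap g⁻¹ (ten b v) = ten (A' *ᵥ b) u) → ∀ c,
          ap g (ten (A' *ᵥ c) u) = ten c v := fun v u hu c => by rw [← hu, ap_ap_inv]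
      have hfix : ∀ (v u : β → F), (∀ b, ap g⁻¹ (ten b v) = ten (A' *ᵥ b) u) → ∀ a,
          ap k (ten a v) = ten a v := by
        intro v u hu a
        obtain ⟨b, rfl⟩ : ∃ b, a = ap S' b := ⟨ap S'⁻¹ a, (ap_ap_inv S' a).symm⟩
        rw [hk, ap_mul, show ap x'⁻¹ (ten (ap S' b) v) = ten b v from ap_inj x' (by rw [ap_ap_inv, ex']), ap_mul,
          ap_mul, hu, ex, show ap S (A' *ᵥ b) = A' *ᵥ ap S' b by
            rw [← eA, Matrix.mulVec_mulVec, hA'A, Matrix.one_mulVec], hback v u hu]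
      have hc : Cen w z v k (cm JB z k) := by
        refine H.cen_of_lev hf ⟨hfix w w hinv, fun a => ?_⟩
        rw [hfix v u₁ hu₁, Matrix.zero_mulVec, ten_zero_left, add_zero]
      rw [hS w z v hf _ ⟨k, hkM, hc⟩] at hc
      have hk1 : k = 1 := H.cen_unique hf hc (cen_one w z v)
      have hgx : g * x = x' * g := by
        rw [hk, mul_inv_eq_one] at hk1
        rw [← hk1]; group
      refine Matrix.ext_iff_mulVec.2 fun a => ?_
      have e := congrArg (fun h => ap h (ten a z)) hgx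
      simp only [ap_mul, ex, hgz, ap_add, ex'] at e
      have e' := congrArg (ctr JB z) e
      simp only [ctr_add, H.ctr_ten, b_comm z w, hf.wz, one_smul] at e'
      rw [← eA (A *ᵥ a), Matrix.mulVec_mulVec a A' A, hA'A, Matrix.one_mulVec, add_left_inj] at e'
      have e'' := congrArg (A' *ᵥ ·) e'
      rw [zero_smul, add_zero]
      simp only [ap, Matrix.mulVec_mulVec] at e''
      rw [Matrix.mul_assoc, e'']
      show (A' * (val S' * P)) *ᵥ a = _
      rw [eS, ← Matrix.mul_assoc A', ← Matrix.mul_assoc A', ← Matrix.mul_assoc A', hA'A,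
        Matrix.one_mul, Matrix.mul_assoc]
    exact ⟨c, by rw [← Matrix.one_mul P, ← hAA, Matrix.mul_assoc, hc, Matrix.mul_smul, Matrix.mul_one]⟩
  obtain ⟨T, hT⟩ : ∃ T : Matrix β β F, T = Matrix.vecMulVec w (JB *ᵥ z) + Matrix.vecMulVec (π • w + uz) (JB *ᵥ w) +
      (2 * QB v)⁻¹ • Matrix.vecMulVec y₁ (JB *ᵥ v) := ⟨_, rfl⟩
  have hap : ∀ x, T *ᵥ x = QuadraticMap.polar ⇑QB z x • w + QuadraticMap.polar ⇑QB w x • (π • w + uz) +
      ((2 * QB v)⁻¹ * QuadraticMap.polar ⇑QB v x) • y₁ :=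
    fun x => by simp only [hT, Matrix.add_mulVec, Matrix.smul_mulVec, Matrix.vecMulVec_mulVec, op_smul_eq_smul,
      H.gB.dot_polar, smul_smul]
  have e1 := mul_ne_zero H.two hf.q1
  refine ⟨A, T, H.ext_frame hf (fun a => ?_) (fun a => ?_) fun a => ?_⟩
  all_goals rw [kron_mulVec_ten, hap]
  · show ap g (ten a w) = _
    rw [hA, b_comm z w, hf.wz, b_self_zero hf.qw, b_comm v w, hf.w1]; simp
  · show ap g (ten a z) = _
    rw [hgz, hπ, hf.wz, b_self_zero hf.qz, b_comm v z, hf.z1, Matrix.smul_mulVec, ten_smul_left]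
    simp [ten_add_right, ten_smul_right]
  · show ap g (ten a v) = _
    rw [hy₁, hf.z1, hf.w1, b_self, inv_mul_cancel₀ e1]; simp

end Hyp

end CfsgLib.Classical.TensorOrthNine
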