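import Cfsg.Agent.Lib.Classical.TensorOrthNine.Line
import Cfsg.Agent.Lib.Classical.OrthIndexTwo

set_option autoImplicit false
set_option linter.unusedSectionVars false
set_option linter.style.haveILetI false

/-!
Two proportional factors: elements preserving or exchanging the factors, the half-turns of the factors, and
the elements of the group sending one fibre onto another.
-/

namespace CfsgLib.Classical.TensorOrthNine

open Matrix CfsgLib.Classical.TensorMax CfsgLib.Orth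
open CfsgLib.Classical.TensorSymp (ten kron_mulVec_ten single_eq_ten ten_add_left ten_sub_left ten_smul_left
  ten_smul_right)
open CfsgLib.Classical.TensorOrth (Gram rk)
open scoped MatrixGroups Kronecker

variable {F : Type*} [Field F] {α : Type} [Fintype α] [DecidableEq α]

/-- An element acting as `S ⊗ T`. -/
def Act {Q : QuadraticForm F (α × α → F)} (g : Grp Q) (S T : Matrix α α F) : Prop :=
  ∀ a b, ap g (ten a b) = ten (S *ᵥ a) (T *ᵥ b)

/-- An element exchanging the factors. -/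
def Sw {Q : QuadraticForm F (α × α → F)} (g : Grp Q) : Prop :=
  ∃ S T : Matrix α α F, ∀ a b, ap g (ten a b) = ten (S *ᵥ b) (T *ᵥ a)

/-- An element preserving or exchanging the factors. -/
def InH {Q : QuadraticForm F (α × α → F)} (g : Grp Q) : Prop := Tens (val g) ∨ Sw g

/-- The setting: two proportional factors, with the whole stabiliser in the group. -/
structure Sym (QA QB : QuadraticForm F (α → F)) (JA JB : Matrix α α F) (Q : QuadraticForm F (α × α → F))
    (M : Subgroup (Grp Q)) : Prop extends Hyp QA QB JA JB Q M where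
  prop : ∃ c : F, c ≠ 0 ∧ ∀ x, QA x = c * QB x
  swapT : ∀ g : Grp Q, g ∈ Cfsg.Omega F ⇑Q → Sw g → g ∈ M

theorem Act.mul {Q : QuadraticForm F (α × α → F)} {g h : Grp Q} {S T S' T' : Matrix α α F} (hg : Act g S T)
    (hh : Act h S' T') : Act (g * h) (S * S') (T * T') := fun a b => by
  rw [ap_mul, hh, hg, Matrix.mulVec_mulVec, Matrix.mulVec_mulVec]

theorem act_one {Q : QuadraticForm F (α × α → F)} : Act (1 : Grp Q) (1 : Matrix α α F) 1 := fun a b => by
  rw [ap_one, Matrix.one_mulVec, Matrix.one_mulVec]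

theorem Act.tens [Finite F] {Q : QuadraticForm F (α × α → F)} {g : Grp Q} {S T : Matrix α α F} (hg : Act g S T) :
    val g = S ⊗ₖ T :=
  Matrix.ext_of_mulVec_single fun p => by
    obtain ⟨i, k⟩ := p
    rw [single_eq_ten, kron_mulVec_ten]
    exact hg _ _

theorem act_of_tens {Q : QuadraticForm F (α × α → F)} {g : Grp Q} {S T : Matrix α α F} (h : val g = S ⊗ₖ T) :
    Act g S T := fun a b => by
  show val g *ᵥ ten a b = _
  rw [h, kron_mulVec_ten]

/-- The half-turn about a vector. -/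
def R (QA : QuadraticForm F (α → F)) (JA : Matrix α α F) (c : α → F) : Matrix α α F := (QA c)⁻¹ • rk JA c c - 1

/-- The half-turn about `c` in the first factor lies in the group. -/
def Plus {Q : QuadraticForm F (α × α → F)} (QA : QuadraticForm F (α → F)) (JA : Matrix α α F)
    (M : Subgroup (Grp Q)) (c : α → F) : Prop :=
  ∃ e ∈ M, Act e (R QA JA c) 1

namespace Sym

variable [Finite F] {QA QB : QuadraticForm F (α → F)} {JA JB : Matrix α α F}
  {Q : QuadraticForm F (α × α → F)} {M : Subgroup (Grp Q)} (H : Sym QA QB JA JB Q M)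
include H

theorem polB (x y : α → F) : ∃ c : F, c ≠ 0 ∧
    QuadraticMap.polar ⇑QA x y = c * QuadraticMap.polar ⇑QB x y := by
  obtain ⟨c, hc, h⟩ := H.prop
  refine ⟨c, hc, ?_⟩
  simp only [QuadraticMap.polar, h]
  ring

theorem anisoB {x : α → F} (hx : QA x ≠ 0) : QB x ≠ 0 := by
  obtain ⟨c, -, h⟩ := H.prop
  exact fun e => hx (by rw [h, e, mul_zero])

theorem perpB {x y : α → F} (h : QuadraticMap.polar ⇑QA x y = 0) : QuadraticMap.polar ⇑QB x y = 0 := by
  obtain ⟨c, hc, e⟩ := H.polB x y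
  rw [e] at h
  exact (mul_eq_zero.1 h).resolve_left hc

theorem ortho_B {a b c : α → F} (ho : OrthA QA a b c) : OrthA QB a b c :=
  ⟨H.anisoB ho.qa, H.anisoB ho.qb, H.anisoB ho.qc, H.perpB ho.ab, H.perpB ho.ac, H.perpB ho.bc⟩

/-- An isometry of the first factor is one of the second. -/
theorem exists_toB (S : Grp QA) : ∃ T : Grp QB, ∀ x, ap T x = ap S x := by
  obtain ⟨c, hc, h⟩ := H.prop
  exact exists_iso H.gB.nd (val S).mulVecLin fun x => mul_left_cancel₀ hc (by
    rw [← h, ← h]; exact ap_q S x)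

theorem exists_act (S T : Grp QA) : ∃ g : Grp Q, Act g (val S) (val T) := by
  obtain ⟨T', hT'⟩ := H.exists_toB T
  obtain ⟨g, hg⟩ := H.exists_kron S T'
  refine ⟨g, act_of_tens (hg.trans ?_)⟩
  congr 1
  exact Matrix.ext_iff_mulVec.2 hT'

theorem exists_sq_act (S T : Grp QA) : ∃ g ∈ M, Act g (val S * val S) (val T * val T) := by
  obtain ⟨g, hg⟩ := H.exists_act S T
  exact ⟨g * g, H.sq_mem g ⟨_, _, (hg.mul hg).tens⟩, hg.mul hg⟩

theorem R_mulVec (c a : α → F) :
    R QA JA c *ᵥ a = (QuadraticMap.polar ⇑QA c a / QA c) • c - a := by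
  rw [R, Matrix.sub_mulVec, Matrix.smul_mulVec, H.gA.rk_mulVec, Matrix.one_mulVec, smul_smul, div_eq_inv_mul]

theorem R_self {c : α → F} (hc : QA c ≠ 0) : R QA JA c *ᵥ c = c := by
  rw [H.R_mulVec, b_self]
  match_scalars
  field_simp
  ring

theorem R_perp {c o : α → F} (ho : QuadraticMap.polar ⇑QA c o = 0) : R QA JA c *ᵥ o = -o := by
  rw [H.R_mulVec, ho, zero_div, zero_smul, zero_sub]

theorem R_iso {c : α → F} (hc : QA c ≠ 0) (a : α → F) : QA (R QA JA c *ᵥ a) = QA a := by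
  rw [H.R_mulVec, q_sub, q_smul, b_smul_left]
  field_simp
  ring

theorem R_sq {c : α → F} (hc : QA c ≠ 0) : R QA JA c * R QA JA c = 1 :=
  Matrix.ext_iff_mulVec.2 fun a => by
    rw [← Matrix.mulVec_mulVec, H.R_mulVec c a, Matrix.mulVec_sub, Matrix.mulVec_smul, H.R_self hc, H.R_mulVec,
      Matrix.one_mulVec, sub_sub_cancel]

theorem exists_R {c : α → F} (hc : QA c ≠ 0) : ∃ S : Grp QA, val S = R QA JA c := by
  obtain ⟨S, hS⟩ := exists_iso H.gA.nd (R QA JA c).mulVecLin (H.R_iso hc)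
  exact ⟨S, Matrix.ext_iff_mulVec.2 hS⟩

theorem R_smul {l : F} (hl : l ≠ 0) {c : α → F} (hc : QA c ≠ 0) : R QA JA (l • c) = R QA JA c :=
  Matrix.ext_iff_mulVec.2 fun a => by
    rw [H.R_mulVec, H.R_mulVec, q_smul, b_smul_left, smul_smul]
    match_scalars <;> field_simp

/-- Matrices agreeing on an orthogonal basis. -/
theorem ext_ortho {a b c : α → F} (ho : OrthA QA a b c) {X Y : Matrix α α F} (ha : X *ᵥ a = Y *ᵥ a)
    (hb : X *ᵥ b = Y *ᵥ b) (hc : X *ᵥ c = Y *ᵥ c) : X = Y :=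
  Matrix.ext_iff_mulVec.2 fun v => by
    rw [H.resolveO ho v]
    simp only [Matrix.mulVec_add, Matrix.mulVec_smul, ha, hb, hc]

theorem R_mul {a b c : α → F} (ho : OrthA QA a b c) : R QA JA a * R QA JA b = R QA JA c := by
  have ba : QuadraticMap.polar ⇑QA b a = 0 := by rw [b_comm]; exact ho.ab
  have ca : QuadraticMap.polar ⇑QA c a = 0 := by rw [b_comm]; exact ho.ac
  have cb : QuadraticMap.polar ⇑QA c b = 0 := by rw [b_comm]; exact ho.bc
  refine H.ext_ortho ho ?_ ?_ ?_ <;> rw [← Matrix.mulVec_mulVec]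
  · rw [H.R_perp ba, Matrix.mulVec_neg, H.R_self ho.qa, H.R_perp ca]
  · rw [H.R_self ho.qb, H.R_perp ho.ab, H.R_perp cb]
  · rw [H.R_perp ho.bc, Matrix.mulVec_neg, H.R_perp ho.ac, neg_neg, H.R_self ho.qc]

/-- A half-turn whose other two axes have norms in the same class is a square. -/
theorem plus_of_square {c p r : α → F} (ho : OrthA QA c p r) (h : IsSquare (QA p * QA r)) :
    Plus QA JA M c ∧ ∃ e ∈ M, Act e 1 (R QA JA c) := by
  obtain ⟨d, hd⟩ := h
  have hd0 : d ≠ 0 := fun e => mul_ne_zero ho.qb ho.qc (by rw [hd, e, mul_zero])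
  obtain ⟨t, ht⟩ : ∃ t, t = d / QA r := ⟨_, rfl⟩
  have ht0 : t ≠ 0 := ht ▸ div_ne_zero hd0 ho.qc
  have htt : t * t * QA r = QA p := by
    have := ho.qc
    rw [ht]
    field_simp
    linear_combination -hd
  obtain ⟨X, hX⟩ : ∃ X : Matrix α α F, X = (2 * QA c)⁻¹ • rk JA c c + (t / (2 * QA p)) • rk JA r p -
      (1 / (t * (2 * QA r))) • rk JA p r := ⟨_, rfl⟩
  have pc : QuadraticMap.polar ⇑QA p c = 0 := by rw [b_comm]; exact ho.ab
  have rc : QuadraticMap.polar ⇑QA r c = 0 := by rw [b_comm]; exact ho.ac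
  have rp : QuadraticMap.polar ⇑QA r p = 0 := by rw [b_comm]; exact ho.bc
  have hap : ∀ a, X *ᵥ a = ((2 * QA c)⁻¹ * QuadraticMap.polar ⇑QA c a) • c +
      (t / (2 * QA p) * QuadraticMap.polar ⇑QA p a) • r -
      (1 / (t * (2 * QA r)) * QuadraticMap.polar ⇑QA r a) • p := fun a => by
    simp only [hX, Matrix.sub_mulVec, Matrix.add_mulVec, Matrix.smul_mulVec, H.gA.rk_mulVec, smul_smul]
  have h2 := H.two; have e1 := ho.qa; have e2 := ho.qb; have e3 := ho.qc
  obtain ⟨S, hS⟩ := exists_iso H.gA.nd X.mulVecLin fun a => by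
    rw [Matrix.mulVecLin_apply, hap]
    conv_rhs => rw [H.resolveO ho a]
    simp only [q_sub, q_add, q_smul, b_smul_left, b_smul_right, b_add_left, ho.ab, ho.ac, ho.bc, rp, mul_zero,
      add_zero, sub_zero, ← htt]
    field_simp
  have hS' : val S = X := Matrix.ext_iff_mulVec.2 hS
  have hXX : X * X = R QA JA c := by
    refine H.ext_ortho ho ?_ ?_ ?_ <;> rw [← Matrix.mulVec_mulVec]
    · rw [H.R_self e1, show X *ᵥ c = c by
        rw [hap, b_self, pc, rc, mul_zero, mul_zero, zero_smul, zero_smul, add_zero, sub_zero,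
          inv_mul_cancel₀ (mul_ne_zero h2 e1), one_smul]]
      rw [hap, b_self, pc, rc, mul_zero, mul_zero, zero_smul, zero_smul, add_zero, sub_zero,
          inv_mul_cancel₀ (mul_ne_zero h2 e1), one_smul]
    · rw [H.R_perp ho.ab, show X *ᵥ p = t • r by
        rw [hap, ho.ab, b_self, rp, mul_zero, mul_zero, zero_smul, zero_smul, zero_add, sub_zero]
        congr 1
        field_simp, Matrix.mulVec_smul, hap, ho.ac, ho.bc, b_self, mul_zero, mul_zero, zero_smul, zero_smul, add_zero,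
        zero_sub, smul_neg, smul_smul]
      rw [show t * (1 / (t * (2 * QA r)) * (2 * QA r)) = 1 by field_simp, one_smul]
    · rw [H.R_perp ho.ac, show X *ᵥ r = (-t⁻¹) • p by
        rw [hap, ho.ac, ho.bc, b_self, mul_zero, mul_zero, zero_smul, zero_smul, add_zero, zero_sub, neg_smul]
        congr 2
        field_simp, Matrix.mulVec_smul, hap, ho.ab, b_self, rp, mul_zero, mul_zero, zero_smul, zero_smul, zero_add,
        sub_zero, smul_smul]
      rw [show -t⁻¹ * (t / (2 * QA p) * (2 * QA p)) = -1 by field_simp, neg_one_smul]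
  obtain ⟨g, hg, eg⟩ := H.exists_sq_act S 1
  obtain ⟨g', hg', eg'⟩ := H.exists_sq_act 1 S
  rw [hS', hXX, show val (1 : Grp QA) = 1 from rfl, one_mul] at eg eg'
  exact ⟨⟨g, hg, eg⟩, g', hg', eg'⟩

/-- The orthogonal plane of an anisotropic vector represents everything. -/
theorem exists_perp_value {c : α → F} (hc : QA c ≠ 0) {t : F} (ht : t ≠ 0) :
    ∃ x y, OrthA QA c x y ∧ QA x = t := by
  obtain ⟨p, r, ho⟩ := H.exists_ortho hc
  obtain ⟨u, v, huv⟩ := exists_rep H.two ho.qb ho.qc t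
  have hq : QA (u • p + v • r) = t := by
    rw [q_add, q_smul, q_smul, b_smul_left, b_smul_right, ho.bc, ← huv]; ring
  obtain ⟨y, hy⟩ := H.exists_third hc (o := u • p + v • r) (by rw [hq]; exact ht)
    (by rw [b_add_right, b_smul_right, b_smul_right, ho.ab, ho.ac]; ring)
  exact ⟨_, y, hy, hq⟩

theorem exists_plus_perp {c : α → F} (hc : QA c ≠ 0) :
    ∃ x, QA x ≠ 0 ∧ QuadraticMap.polar ⇑QA c x = 0 ∧ Plus QA JA M x ∧ ∃ e ∈ M, Act e 1 (R QA JA x) := by
  obtain ⟨x', x, ho, hx'⟩ := H.exists_perp_value hc hc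
  obtain ⟨h1, h2⟩ := H.plus_of_square ho.rot.rot ⟨QA c, by rw [hx']⟩
  exact ⟨x, ho.qc, ho.ac, h1, h2⟩

/-- An exchange of the factors in the group. -/
theorem exists_tau : ∃ t ∈ M, ∃ P U : Grp QA, ∀ a b, ap t (ten a b) = -ten (ap P b) (ap U a) := by
  haveI := H.nonempty_left
  obtain ⟨κ, hκ0, hκ⟩ := H.prop
  have hpol : ∀ x y, QuadraticMap.polar ⇑QA x y = κ * QuadraticMap.polar ⇑QB x y := fun x y => by
    simp only [QuadraticMap.polar, hκ]; ring
  obtain ⟨L, hL⟩ : ∃ L : (α × α → F) →ₗ[F] (α × α → F), L = -LinearMap.funLeft F F Prod.swap := ⟨_, rfl⟩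
  have hLt : ∀ a b, L (ten a b) = -ten b a := fun a b => by
    rw [hL, LinearMap.neg_apply]
    congr 1
    funext p
    show a p.2 * b p.1 = b p.1 * a p.2
    exact mul_comm _ _
  obtain ⟨g₀, hg₀⟩ := exists_iso H.nondeg L fun x => by
    rw [← LinearMap.toMatrix'_mulVec L]
    refine H.iso_of_pure (fun a a' y y' => ?_) x
    rw [LinearMap.toMatrix'_mulVec, LinearMap.toMatrix'_mulVec, hLt, hLt, ← neg_one_smul F (ten y a),
      ← neg_one_smul F (ten y' a'), b_smul_left, b_smul_right, H.polar_ten, H.polar_ten, hpol, hpol]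
    ring
  have e0 : ∀ a b, ap g₀ (ten a b) = -ten b a := fun a b => by rw [hg₀, hLt]
  have hdet : detHom Q g₀ = 1 := by
    refine Units.ext ?_
    show (val g₀).det = 1
    obtain ⟨ι⟩ : Nonempty (α ≃ Fin 3) := ⟨Fintype.equivFinOfCardEq H.cardA⟩
    have e : val g₀ = (-1 : F) • (Equiv.Perm.permMatrix F (Equiv.prodComm α α)) := by
      refine Matrix.ext_iff_mulVec.2 fun x => ?_
      show ap g₀ x = _
      rw [hg₀, hL, LinearMap.neg_apply, Matrix.smul_mulVec, Matrix.permMatrix_mulVec, neg_one_smul]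
      rfl
    rw [e, Matrix.det_smul, Matrix.det_permutation, Fintype.card_prod, H.cardA,
      Equiv.Perm.sign_eq_sign_of_equiv (Equiv.prodComm α α) (Equiv.prodComm (Fin 3) (Fin 3)) (ι.prodCongr ι)
        (fun p => rfl), show Equiv.Perm.sign (Equiv.prodComm (Fin 3) (Fin 3)) = -1 by decide]
    norm_num
  have hsw0 : ∀ a b, ap g₀ (ten a b) = -ten (ap (1 : Grp QA) b) (ap (1 : Grp QA) a) := fun a b => by
    rw [ap_one, ap_one, e0]
  have mem : ∀ (g : Grp Q), g ∈ Cfsg.Omega F ⇑Q → ∀ P U : Grp QA,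
      (∀ a b, ap g (ten a b) = -ten (ap P b) (ap U a)) → g ∈ M := fun g hg P U h =>
    H.swapT g hg ⟨(-1 : F) • val P, val U, fun a b => by
      rw [h, Matrix.smul_mulVec, ten_smul_left, neg_one_smul]; rfl⟩
  by_cases hΩ : g₀ ∈ Cfsg.Omega F ⇑Q
  · exact ⟨g₀, mem g₀ hΩ 1 1 hsw0, 1, 1, hsw0⟩
  classical
  haveI := Fintype.ofFinite F
  obtain ⟨ν, hν⟩ := FiniteField.exists_nonsquare (F := F) fun e => H.two (by
    have : CharP F 2 := e ▸ ringChar.charP F
    exact CharP.cast_eq_zero F 2)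
  have hν0 : ν ≠ 0 := fun e => hν (e ▸ IsSquare.zero)
  obtain ⟨c, hc⟩ : ∃ c : α → F, QA c ≠ 0 := exists_aniso H.gA.nd (by rw [H.dimA]; omega)
  obtain ⟨p, _, hcp, -⟩ := H.exists_perp_value hc hc
  obtain ⟨r, s, ho, hr⟩ := H.exists_perp_value hcp.qb (t := ν * QA p) (mul_ne_zero hν0 hcp.qb)
  have hns : ¬ IsSquare (QA p * QA r) := by
    rintro ⟨d, hd⟩
    refine hν ⟨d / QA p, ?_⟩
    rw [hr] at hd
    have := hcp.qb
    field_simp
    linear_combination hd
  have hoB := H.ortho_B ho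
  have qne : ∀ (x e : α → F), QA x ≠ 0 → QB e ≠ 0 → Q (ten x e) ≠ 0 := fun x e hx he => by
    rw [H.q_ten]; exact mul_ne_zero (mul_ne_zero H.two hx) he
  obtain ⟨-, -, hiff⟩ := omega_eq_ker_psi H.nondeg H.two (by have := H.five_le_dim; omega) (one_ne_zero (α := F))
  have pair : ∀ e : α → F, QB e ≠ 0 → ∃ k : Grp Q, dickson H.nondeg k = 1 ∧ spinor Q 1 k = -1 ∧
      ∀ a y, ap k (ten a y) = ten a y - (QuadraticMap.polar ⇑QB e y / (2 * QB e)) •
        ten ((QuadraticMap.polar ⇑QA p a / QA p) • p + (QuadraticMap.polar ⇑QA r a / QA r) • r) e := by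
    intro e he
    obtain ⟨x, hx⟩ := exists_refl H.nondeg (qne p e ho.qa he)
    obtain ⟨y, hy⟩ := exists_refl H.nondeg (qne r e ho.qb he)
    refine ⟨x * y, ?_, ?_, fun a b => ?_⟩
    · rw [map_mul, dickson_refl H.nondeg hx, dickson_refl H.nondeg hy]; decide
    · have hne : spinor Q 1 x ≠ spinor Q 1 y := fun h => by
        obtain ⟨d, hd⟩ := (hiff _ _ x y hx hy).1 h
        rw [H.q_ten, H.q_ten] at hd
        refine hns ⟨d / (2 * QB e), ?_⟩
        have := H.two
        field_simp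
        linear_combination hd
      rw [map_mul]
      rcases Int.units_eq_one_or (spinor Q 1 x) with h | h <;>
        rcases Int.units_eq_one_or (spinor Q 1 y) with h' | h' <;> simp [h, h'] at hne ⊢
    · rw [ap_mul, hy.2, ap_sub, ap_smul, hx.2, hx.2, H.polar_ten, H.polar_ten, H.polar_ten, H.q_ten, H.q_ten,
        ho.ab, zero_mul, mul_zero, zero_smul, sub_zero, ten_add_left, ten_smul_left, ten_smul_left]
      match_scalars <;> field_simp
  obtain ⟨k₁, d₁, s₁, a₁⟩ := pair p (H.anisoB ho.qa)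
  obtain ⟨k₂, d₂, s₂, a₂⟩ := pair r (H.anisoB ho.qb)
  obtain ⟨k₃, d₃, s₃, a₃⟩ := pair s (H.anisoB ho.qc)
  obtain ⟨W, hW⟩ : ∃ W : Grp QA, val W = R QA JA s := H.exists_R ho.qc
  have hg₁ : ∀ a y, ap (k₁ * k₂ * k₃) (ten a y) = ten (ap W a) y := by
    intro a y
    have eA := H.resolveO ho a
    have eY : y = ((2 * QB p)⁻¹ * QuadraticMap.polar ⇑QB p y) • p + ((2 * QB r)⁻¹ * QuadraticMap.polar ⇑QB r y) • r +
        ((2 * QB s)⁻¹ * QuadraticMap.polar ⇑QB s y) • s := by
      obtain ⟨l, hl⟩ : ∃ l, l = κ := ⟨_, rfl⟩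
      conv_lhs => rw [H.resolveO ho y]
      simp only [hκ, hpol]
      match_scalars <;> field_simp
    have f₂ : ∀ u, ap k₂ (ten u s) = ten u s := fun u => by rw [a₂, hoB.bc, zero_div, zero_smul, sub_zero]
    have f₁ : ∀ u, ap k₁ (ten u r) = ten u r := fun u => by rw [a₁, hoB.ab, zero_div, zero_smul, sub_zero]
    have f₁' : ∀ u, ap k₁ (ten u s) = ten u s := fun u => by rw [a₁, hoB.ac, zero_div, zero_smul, sub_zero]
    show _ = ten (val W *ᵥ a) y
    rw [hW, H.R_mulVec, ap_mul, ap_mul, a₃, ap_sub, ap_smul, f₂, a₂, ap_sub, ap_sub, ap_smul, ap_smul, f₁', f₁, a₁]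
    obtain ⟨V, hV⟩ : ∃ V, V = (QuadraticMap.polar ⇑QA p a / QA p) • p + (QuadraticMap.polar ⇑QA r a / QA r) • r :=
      ⟨_, rfl⟩
    rw [← hV]
    have hVs : (QuadraticMap.polar ⇑QA s a / QA s) • s - a = a - V := by
      rw [hV]
      have h2 := H.two; have := ho.qa; have := ho.qb; have := ho.qc
      conv_lhs => arg 2; rw [eA]
      conv_rhs => arg 1; rw [eA]
      match_scalars <;> field_simp <;> ring
    rw [hVs, ten_sub_left]
    have hy : ten V y = (QuadraticMap.polar ⇑QB p y / (2 * QB p)) • ten V p +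
        (QuadraticMap.polar ⇑QB r y / (2 * QB r)) • ten V r + (QuadraticMap.polar ⇑QB s y / (2 * QB s)) • ten V s := by
      conv_lhs => rw [eY]
      simp only [CfsgLib.Classical.TensorSymp.ten_add_right, ten_smul_right, div_eq_inv_mul]
    rw [hy]
    abel
  obtain ⟨g₁, hg₁'⟩ : ∃ g₁, g₁ = k₁ * k₂ * k₃ := ⟨_, rfl⟩
  rw [← hg₁'] at hg₁
  have d₀ : dickson H.nondeg g₀ = 1 :=
    (mem_special_iff_odd H.nondeg H.two (by rw [H.dim]; omega) g₀).1 hdet
  obtain ⟨hker, -, -⟩ := omega_eq_ker_psi H.nondeg H.two (by have := H.five_le_dim; omega) (one_ne_zero (α := F))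
  have s₀ : spinor Q 1 g₀ = -1 := by
    refine (Int.units_eq_one_or _).resolve_left fun h => hΩ ?_
    rw [hker, MonoidHom.mem_ker]
    exact Prod.ext d₀ h
  have hΩ' : g₀ * g₁ ∈ Cfsg.Omega F ⇑Q := by
    rw [hker, MonoidHom.mem_ker, hg₁']
    refine Prod.ext ?_ ?_
    · show dickson H.nondeg (g₀ * (k₁ * k₂ * k₃)) = 1
      rw [map_mul, map_mul, map_mul, d₀, d₁, d₂, d₃]; rfl
    · show spinor Q 1 (g₀ * (k₁ * k₂ * k₃)) = 1
      rw [map_mul, map_mul, map_mul, s₀, s₁, s₂, s₃]; decide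
  have hsw1 : ∀ a b, ap (g₀ * g₁) (ten a b) = -ten (ap (1 : Grp QA) b) (ap W a) := fun a b => by
    rw [ap_mul, hg₁, e0, ap_one]
  exact ⟨g₀ * g₁, mem _ hΩ' 1 W hsw1, 1, W, hsw1⟩

end Sym

end CfsgLib.Classical.TensorOrthNine
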